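import Cfsg.Agent.Omega.NOne.SU.Frm
import Cfsg.Agent.Omega.NO1.Beta.Meet

/-!
# THE FIELD (step (0) of THEOREM SU, #13356) in the group `G`

`Mt V R Q` = output of THEOREM BETA, `Q i ⊓ Q j ≤ V`, `x, y : K → G` a frame of the group induced by `⟨Q i, Q j⟩` on `V`
(`Fr`). Then there is a finite `K`-space `Φ` and surjections `πi : Q i ⊓ C(V) → Φ`, `πj : Q j ⊓ C(V) → Φ` with kernel
in `V`, such that `πi [x l, b] = l • πj b` and `πj [y l, a] = l • πi a` (`FldG`), i.e. `L / V = Φ ⊗ K²` as a module for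
`SL₂(K)`.
-/

set_option autoImplicit false
set_option linter.unusedVariables false

open Subgroup
open Cfsg.Agent.Omega.NO1.Beta.Meet

namespace Cfsg.Agent.Omega.NOne.SU

universe u v

variable {G : Type u} [Group G] {I : Type v}

/-- `n(l) = x(l) y(l⁻¹) x(l)` -/
abbrev nn {K : Type*} [Field K] (x y : K → G) (l : K) : G := x l * y l⁻¹ * x l

/-- A frame over `K` of the group induced on `V` by `⟨Q i, Q j⟩`: everything modulo `C(V)`. -/
structure Fr (K : Type*) [Field K] (V : Subgroup G) (R Q : I → Subgroup G) (i j : I) (x y : K → G) : Prop where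
  hx : ∀ l, x l ∈ Q i
  hy : ∀ l, y l ∈ Q j
  x_add : ∀ l m, (x l * x m)⁻¹ * x (l + m) ∈ centralizer (V : Set G)
  y_add : ∀ l m, (y l * y m)⁻¹ * y (l + m) ∈ centralizer (V : Set G)
  mat : ∀ l, l ≠ 0 → cj (x l) (R j) = cj (y l⁻¹) (R i)
  hua : ∀ l m, l ≠ 0 → m ≠ 0 →
    (x (l * l * m))⁻¹ * (nn x y l * y m * (nn x y l)⁻¹) ∈ centralizer (V : Set G)

/-- The field structure: `C / (C ⊓ V)` and `D / (D ⊓ V)` are both identified with the `K`-space `Φ`. -/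
structure FldG (K Φ : Type*) [Field K] [AddCommGroup Φ] [Module K Φ] (V C D : Subgroup G) (x y : K → G)
    (πC πD : G → Φ) : Prop where
  mulC : ∀ a ∈ C, ∀ a' ∈ C, πC (a * a') = πC a + πC a'
  mulD : ∀ b ∈ D, ∀ b' ∈ D, πD (b * b') = πD b + πD b'
  surC : ∀ p, ∃ a ∈ C, πC a = p
  surD : ∀ p, ∃ b ∈ D, πD b = p
  kerC : ∀ a ∈ C, (πC a = 0 ↔ a ∈ V)
  kerD : ∀ b ∈ D, (πD b = 0 ↔ b ∈ V)
  xD : ∀ l, ∀ b ∈ D, cm (x l) b ∈ C ∧ πC (cm (x l) b) = l • πD b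
  yC : ∀ l, ∀ a ∈ C, cm (y l) a ∈ D ∧ πD (cm (y l) a) = l • πC a
  /-- `n(l) : D → C` is `l`, ... -/
  nD : ∀ l, l ≠ 0 → ∀ b ∈ D, nn x y l * b * (nn x y l)⁻¹ ∈ C ∧ πC (nn x y l * b * (nn x y l)⁻¹) = l • πD b
  /-- ... `n(l) : C → D` is `l⁻¹` -/
  nC : ∀ l, l ≠ 0 → ∀ a ∈ C, nn x y l * a * (nn x y l)⁻¹ ∈ D ∧
    πD (nn x y l * a * (nn x y l)⁻¹) = l⁻¹ • πC a

section main

variable {K : Type*} [Field K] {V : Subgroup G} {R Q : I → Subgroup G} {i j : I} {x y : K → G}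

theorem frm (M : Mt V R Q) (h : i ≠ j) (hm : Q i ⊓ Q j ≤ V) (F : Fr K V R Q i j x y)
    [hN : (V.subgroupOf (normalizer (V : Set G))).Normal] :
    Frm K (((Q i ⊓ centralizer (V : Set G)).subgroupOf (normalizer (V : Set G))).map
        (QuotientGroup.mk' (V.subgroupOf (normalizer (V : Set G)))))
      (((Q j ⊓ centralizer (V : Set G)).subgroupOf (normalizer (V : Set G))).map
        (QuotientGroup.mk' (V.subgroupOf (normalizer (V : Set G)))))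
      (fun l => QuotientGroup.mk' (V.subgroupOf (normalizer (V : Set G))) ⟨x l, M.Q_V i (F.hx l)⟩)
      (fun l => QuotientGroup.mk' (V.subgroupOf (normalizer (V : Set G))) ⟨y l, M.Q_V j (F.hy l)⟩) := by
  set N := normalizer (V : Set G) with hNdef
  set N' := V.subgroupOf N with hN'def
  set P := QuotientGroup.mk' N' with hP
  have key : ∀ a b : ↥N, (a : G) * (b : G)⁻¹ ∈ V → P a = P b := by
    intro a b hab
    have h1 : P (a * b⁻¹) = 1 := by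
      have : a * b⁻¹ ∈ N' := by
        rw [mem_subgroupOf]; exact hab
      exact (QuotientGroup.eq_one_iff _).mpr this
    rw [map_mul, map_inv] at h1
    exact mul_inv_eq_one.mp h1
  have keyR : ∀ a b : ↥N, (a : G)⁻¹ * (b : G) ∈ V → P a = P b := by
    intro a b hab
    exact (QuotientGroup.eq (s := N')).mpr (by rw [mem_subgroupOf]; exact hab)
  have hcmm : ∀ a b : ↥N, (a : G) * b * (a : G)⁻¹ * (b : G)⁻¹ ∈ V → P a * P b = P b * P a := by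
    intro a b hab
    rw [← map_mul, ← map_mul]
    apply key
    have : ((a * b : ↥N) : G) * ((b * a : ↥N) : G)⁻¹ = (a : G) * b * (a : G)⁻¹ * (b : G)⁻¹ := by
      simp only [coe_mul]; group
    rw [this]; exact hab
  have hswap := fun l hl => M.swap h (F.hx l) (F.hy l⁻¹) (F.mat l hl)
  refine ⟨?_, ?_, ?_, ?_, ?_, ?_, ?_, ?_, ?_, ?_, ?_, ?_, ?_, ?_⟩
  · rintro _ ⟨a, ha, rfl⟩ _ ⟨b, hb, rfl⟩
    exact hcmm a b (M.R_le i (M.QQ i _ ha.1 _ hb.1))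
  · rintro _ ⟨a, ha, rfl⟩ _ ⟨b, hb, rfl⟩
    exact hcmm a b (M.R_le j (M.QQ j _ ha.1 _ hb.1))
  · rintro _ ⟨a, ha, rfl⟩ _ ⟨b, hb, rfl⟩
    exact hcmm a b (M.comm_V h hm ha.1 ha.2 hb.1 hb.2)
  · rintro _ ⟨a, ha, rfl⟩
    rw [← map_mul, ← map_one P]
    apply key
    have := M.R_le i (M.Qsq i _ ha.1)
    simpa using this
  · rintro _ ⟨a, ha, rfl⟩
    rw [← map_mul, ← map_one P]
    apply key
    have := M.R_le j (M.Qsq j _ ha.1)
    simpa using this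
  · rintro l _ ⟨a, ha, rfl⟩
    exact hcmm _ a (M.R_le i (M.QQ i _ (F.hx l) _ ha.1))
  · rintro l _ ⟨b, hb, rfl⟩
    exact hcmm _ b (M.R_le j (M.QQ j _ (F.hy l) _ hb.1))
  · rintro l _ ⟨b, hb, rfl⟩
    have h1 := M.comm_mem (F.hx l) hb.1 hb.2
    exact ⟨⟨x l, M.Q_V i (F.hx l)⟩ * b * ⟨x l, M.Q_V i (F.hx l)⟩⁻¹ * b⁻¹, mem_inf.mpr h1, by
      simp only [map_mul, map_inv]⟩
  · rintro l _ ⟨b, hb, rfl⟩
    have h1 := M.comm_mem (F.hy l) hb.1 hb.2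
    exact ⟨⟨y l, M.Q_V j (F.hy l)⟩ * b * ⟨y l, M.Q_V j (F.hy l)⟩⁻¹ * b⁻¹, mem_inf.mpr h1, by
      simp only [map_mul, map_inv]⟩
  · intro l m
    refine ⟨P ((⟨x l, M.Q_V i (F.hx l)⟩ * ⟨x m, M.Q_V i (F.hx m)⟩)⁻¹ * ⟨x (l + m), M.Q_V i (F.hx _)⟩),
      ⟨_, ?_, rfl⟩, ?_⟩
    · exact mem_inf.mpr ⟨mul_mem (inv_mem (mul_mem (F.hx l) (F.hx m))) (F.hx _), F.x_add l m⟩
    · simp only [map_mul, map_inv]; group
  · intro l m
    refine ⟨P ((⟨y l, M.Q_V j (F.hy l)⟩ * ⟨y m, M.Q_V j (F.hy m)⟩)⁻¹ * ⟨y (l + m), M.Q_V j (F.hy _)⟩),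
      ⟨_, ?_, rfl⟩, ?_⟩
    · exact mem_inf.mpr ⟨mul_mem (inv_mem (mul_mem (F.hy l) (F.hy m))) (F.hy _), F.y_add l m⟩
    · simp only [map_mul, map_inv]; group
  · rintro l hl _ ⟨a, ha, rfl⟩
    have h1 := M.surj_V h hm (F.hx l) (F.hy l⁻¹) (F.mat l hl) ha.1 ha.2
    set X : ↥N := ⟨x l, M.Q_V i (F.hx l)⟩
    set Y : ↥N := ⟨y l⁻¹, M.Q_V j (F.hy l⁻¹)⟩
    have h2 : P (X * (Y * a * Y⁻¹ * a⁻¹) * X⁻¹ * (Y * a * Y⁻¹ * a⁻¹)⁻¹) = P a := key _ _ h1
    simpa only [map_mul, map_inv] using h2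
  · rintro l hl _ ⟨b, hb, rfl⟩
    have h1 := M.surj_V h.symm (by rw [inf_comm]; exact hm) (F.hy l⁻¹) (F.hx l) (F.mat l hl).symm hb.1 hb.2
    set X : ↥N := ⟨x l, M.Q_V i (F.hx l)⟩
    set Y : ↥N := ⟨y l⁻¹, M.Q_V j (F.hy l⁻¹)⟩
    have h2 : P (Y * (X * b * X⁻¹ * b⁻¹) * Y⁻¹ * (X * b * X⁻¹ * b⁻¹)⁻¹) = P b := key _ _ h1
    simpa only [map_mul, map_inv] using h2
  · intro l m hl hm'
    have h1 := F.hua l m hl hm'
    have h2 : nn x y l * y m * (nn x y l)⁻¹ ∈ Q i := by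
      rw [← (hswap l hl).2.1]
      exact conj_mem_cj (F.hy m)
    set X : ↥N := ⟨x l, M.Q_V i (F.hx l)⟩
    set Y : ↥N := ⟨y l⁻¹, M.Q_V j (F.hy l⁻¹)⟩
    set Z : ↥N := ⟨y m, M.Q_V j (F.hy m)⟩
    set U : ↥N := ⟨x (l * l * m), M.Q_V i (F.hx _)⟩
    refine ⟨P (U⁻¹ * ((X * Y * X) * Z * (X * Y * X)⁻¹)), ⟨_, ?_, rfl⟩, ?_⟩
    · exact mem_inf.mpr ⟨mul_mem (inv_mem (F.hx _)) h2, h1⟩
    · simp only [map_mul, map_inv]; group

/-- **THE FIELD in the group.** -/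
theorem exists_fld [Finite K] [CharP K 2] (M : Mt V R Q) (h : i ≠ j) (hm : Q i ⊓ Q j ≤ V)
    (F : Fr K V R Q i j x y) :
    ∃ (Φ : Type u) (_ : AddCommGroup Φ) (_ : Module K Φ) (πi πj : G → Φ),
      FldG K Φ V (Q i ⊓ centralizer (V : Set G)) (Q j ⊓ centralizer (V : Set G)) x y πi πj := by
  classical
  have hN : (V.subgroupOf (normalizer (V : Set G))).Normal :=
    Subgroup.normal_subgroupOf_of_le_normalizer le_rfl
  have T := frm M h hm F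
  set N := normalizer (V : Set G) with hNdef
  set N' := V.subgroupOf N with hN'def
  set P := QuotientGroup.mk' N' with hP
  set A := ((Q i ⊓ centralizer (V : Set G)).subgroupOf N).map P with hA
  set B := ((Q j ⊓ centralizer (V : Set G)).subgroupOf N).map P with hB
  let i1 := T.commA
  let i2 := T.commB
  let D := T.toHua
  have hCN : ∀ a ∈ Q i ⊓ centralizer (V : Set G), a ∈ N := fun a ha => M.Q_V i ha.1
  have hDN : ∀ a ∈ Q j ⊓ centralizer (V : Set G), a ∈ N := fun a ha => M.Q_V j ha.1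
  have hPA : ∀ a (ha : a ∈ Q i ⊓ centralizer (V : Set G)), P ⟨a, hCN a ha⟩ ∈ A := fun a ha =>
    ⟨_, ha, rfl⟩
  have hPB : ∀ a (ha : a ∈ Q j ⊓ centralizer (V : Set G)), P ⟨a, hDN a ha⟩ ∈ B := fun a ha =>
    ⟨_, ha, rfl⟩
  let f : G → Additive ↥A := fun g => if hg : g ∈ Q i ⊓ centralizer (V : Set G) then
    Additive.ofMul ⟨P ⟨g, hCN g hg⟩, hPA g hg⟩ else 0
  let e : G → Additive ↥B := fun g => if hg : g ∈ Q j ⊓ centralizer (V : Set G) then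
    Additive.ofMul ⟨P ⟨g, hDN g hg⟩, hPB g hg⟩ else 0
  have hf : ∀ g (hg : g ∈ Q i ⊓ centralizer (V : Set G)), f g =
    Additive.ofMul ⟨P ⟨g, hCN g hg⟩, hPA g hg⟩ := fun g hg => dif_pos hg
  have he : ∀ g (hg : g ∈ Q j ⊓ centralizer (V : Set G)), e g =
    Additive.ofMul ⟨P ⟨g, hDN g hg⟩, hPB g hg⟩ := fun g hg => dif_pos hg
  have hker : ∀ g : ↥N, P g = 1 ↔ (g : G) ∈ V := by
    intro g
    rw [← MonoidHom.mem_ker, QuotientGroup.ker_mk', hN'def, mem_subgroupOf]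
  have fD : ∀ l, ∀ b ∈ Q j ⊓ centralizer (V : Set G), cm (x l) b ∈ Q i ⊓ centralizer (V : Set G) ∧
      f (cm (x l) b) = D.α l (e b) := by
    intro l b hb
    have h1 : cm (x l) b ∈ Q i ⊓ centralizer (V : Set G) := mem_inf.mpr (M.comm_mem (F.hx l) hb.1 hb.2)
    refine ⟨h1, ?_⟩
    rw [hf _ h1, he b hb]
    apply Additive.toMul.injective
    apply Subtype.ext
    change P ⟨cm (x l) b, hCN _ h1⟩ = cm (P ⟨x l, M.Q_V i (F.hx l)⟩) (P ⟨b, hDN b hb⟩)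
    simp only [cm, ← map_mul, ← map_inv]
    rfl
  have eC : ∀ l, ∀ a ∈ Q i ⊓ centralizer (V : Set G), cm (y l) a ∈ Q j ⊓ centralizer (V : Set G) ∧
      e (cm (y l) a) = D.β l (f a) := by
    intro l b hb
    have h1 : cm (y l) b ∈ Q j ⊓ centralizer (V : Set G) := mem_inf.mpr (M.comm_mem (F.hy l) hb.1 hb.2)
    refine ⟨h1, ?_⟩
    rw [he _ h1, hf b hb]
    apply Additive.toMul.injective
    apply Subtype.ext
    change P ⟨cm (y l) b, hDN _ h1⟩ = cm (P ⟨y l, M.Q_V j (F.hy l)⟩) (P ⟨b, hCN b hb⟩)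
    simp only [cm, ← map_mul, ← map_inv]
    rfl
  have α1inj : ∀ b, D.α 1 b = 0 → b = 0 := by
    intro b hb
    have := D.β1α b
    rw [hb, D.β_zero] at this
    exact this.symm
  let i3 : Module K (Additive ↥A) := D.modN
  refine ⟨Additive ↥A, inferInstance, i3, f, fun g => D.α 1 (e g), ?_, ?_, ?_, ?_, ?_, ?_, ?_, ?_, ?_, ?_⟩
  · intro a ha a' ha'
    rw [hf _ (mul_mem ha ha'), hf _ ha, hf _ ha']
    rfl
  · intro a ha a' ha'
    rw [← D.α_add, he _ (mul_mem ha ha'), he _ ha, he _ ha']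
    rfl
  · intro p
    obtain ⟨a, ha, hap⟩ := (Additive.toMul p).2
    refine ⟨a, ha, ?_⟩
    rw [hf a ha]
    apply Additive.toMul.injective
    apply Subtype.ext
    exact hap
  · intro p
    obtain ⟨b, hb, hbp⟩ := (Additive.toMul (D.β 1 p)).2
    refine ⟨b, hb, ?_⟩
    have : e (b : G) = D.β 1 p := by
      rw [he b hb]
      apply Additive.toMul.injective
      apply Subtype.ext
      exact hbp
    change D.α 1 (e b) = p
    rw [this, D.α1β]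
  · intro a ha
    rw [hf a ha, ← hker ⟨a, hCN a ha⟩]
    constructor
    · intro h0
      have := congrArg Additive.toMul h0
      exact congrArg Subtype.val this
    · intro h0
      apply Additive.toMul.injective
      apply Subtype.ext
      exact h0
  · intro b hb
    change D.α 1 (e b) = 0 ↔ _
    rw [← hker ⟨b, hDN b hb⟩]
    constructor
    · intro h0
      have h1 := α1inj _ h0
      rw [he b hb] at h1
      have := congrArg Additive.toMul h1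
      exact congrArg Subtype.val this
    · intro h0
      have : e b = 0 := by
        rw [he b hb]
        apply Additive.toMul.injective
        apply Subtype.ext
        exact h0
      rw [this, D.α_zero]
  · intro l b hb
    refine ⟨(fD l b hb).1, ?_⟩
    rw [(fD l b hb).2]
    exact D.α_eq l (e b)
  · intro l a ha
    refine ⟨(eC l a ha).1, ?_⟩
    change D.α 1 (e (cm (y l) a)) = _
    rw [(eC l a ha).2, D.β_eq', D.α1β]
    rfl
  · intro l hl b hb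
    have h1 : nn x y l * b * (nn x y l)⁻¹ ∈ Q i ⊓ centralizer (V : Set G) := by
      obtain ⟨s1, s2, -, -⟩ := M.swap h (F.hx l) (F.hy l⁻¹) (F.mat l hl)
      refine mem_inf.mpr ⟨by rw [← s2]; exact conj_mem_cj hb.1, ?_⟩
      have e1 := M.Q_cent (F.hx l) (M.Q_cent (F.hy l⁻¹) (M.Q_cent (F.hx l) hb.2))
      have : nn x y l * b * (nn x y l)⁻¹ = x l * (y l⁻¹ * (x l * b * (x l)⁻¹) * (y l⁻¹)⁻¹) * (x l)⁻¹ := by
        simp only [nn]; group
      rw [this]; exact e1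
    refine ⟨h1, ?_⟩
    have h2 := T.n_B hl (hPB b hb)
    rw [← (show f (cm (x l) b) = l • D.α 1 (e b) from by rw [(fD l b hb).2]; exact D.α_eq l (e b))]
    rw [hf _ h1, hf _ (fD l b hb).1]
    apply Additive.toMul.injective
    apply Subtype.ext
    change P ⟨nn x y l * b * (nn x y l)⁻¹, hCN _ h1⟩ = P ⟨cm (x l) b, hCN _ (fD l b hb).1⟩
    have e2 : P ⟨cm (x l) b, hCN _ (fD l b hb).1⟩ = cm (P ⟨x l, M.Q_V i (F.hx l)⟩) (P ⟨b, hDN b hb⟩) := by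
      simp only [cm, ← map_mul, ← map_inv]
      rfl
    rw [e2, ← h2]
    simp only [nn, ← map_mul, ← map_inv]
    rfl
  · intro l hl b hb
    have h1 : nn x y l * b * (nn x y l)⁻¹ ∈ Q j ⊓ centralizer (V : Set G) := by
      obtain ⟨s1, s2, -, -⟩ := M.swap h (F.hx l) (F.hy l⁻¹) (F.mat l hl)
      refine mem_inf.mpr ⟨by rw [← s1]; exact conj_mem_cj hb.1, ?_⟩
      have e1 := M.Q_cent (F.hx l) (M.Q_cent (F.hy l⁻¹) (M.Q_cent (F.hx l) hb.2))
      have : nn x y l * b * (nn x y l)⁻¹ = x l * (y l⁻¹ * (x l * b * (x l)⁻¹) * (y l⁻¹)⁻¹) * (x l)⁻¹ := by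
        simp only [nn]; group
      rw [this]; exact e1
    refine ⟨h1, ?_⟩
    have h2 := T.n_A hl (hPA b hb)
    have h3 : D.α 1 (e (cm (y l⁻¹) b)) = l⁻¹ • f b := by
      rw [(eC l⁻¹ b hb).2, D.β_eq', D.α1β]
      rfl
    rw [← h3]
    change D.α 1 (e _) = D.α 1 (e _)
    congr 1
    rw [he _ h1, he _ (eC l⁻¹ b hb).1]
    apply Additive.toMul.injective
    apply Subtype.ext
    change P ⟨nn x y l * b * (nn x y l)⁻¹, hDN _ h1⟩ = P ⟨cm (y l⁻¹) b, hDN _ (eC l⁻¹ b hb).1⟩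
    have e2 : P ⟨cm (y l⁻¹) b, hDN _ (eC l⁻¹ b hb).1⟩ =
        cm (P ⟨y l⁻¹, M.Q_V j (F.hy l⁻¹)⟩) (P ⟨b, hCN b hb⟩) := by
      simp only [cm, ← map_mul, ← map_inv]
      rfl
    rw [e2, ← h2]
    simp only [nn, ← map_mul, ← map_inv]
    rfl

end main

namespace FldG

variable {K Φ : Type*} [Field K] [AddCommGroup Φ] [Module K Φ] {V C D : Subgroup G} {x y : K → G}
  {πC πD : G → Φ} (E : FldG K Φ V C D x y πC πD)
include E

theorem symm' : ∀ p, ∃ b ∈ D, πD b = p := E.surD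

theorem oneC : πC 1 = 0 := by
  have := E.mulC 1 C.one_mem 1 C.one_mem
  rw [mul_one] at this
  exact left_eq_add.mp this

theorem oneD : πD 1 = 0 := by
  have := E.mulD 1 D.one_mem 1 D.one_mem
  rw [mul_one] at this
  exact left_eq_add.mp this

theorem invC {a : G} (ha : a ∈ C) : πC a⁻¹ = - πC a := by
  have := E.mulC a ha a⁻¹ (C.inv_mem ha)
  rw [mul_inv_cancel, E.oneC] at this
  exact (neg_eq_of_add_eq_zero_right this.symm).symm

theorem invD {a : G} (ha : a ∈ D) : πD a⁻¹ = - πD a := by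
  have := E.mulD a ha a⁻¹ (D.inv_mem ha)
  rw [mul_inv_cancel, E.oneD] at this
  exact (neg_eq_of_add_eq_zero_right this.symm).symm

theorem eqC {a a' : G} (ha : a ∈ C) (ha' : a' ∈ C) : πC a = πC a' ↔ a⁻¹ * a' ∈ V := by
  rw [← E.kerC _ (C.mul_mem (C.inv_mem ha) ha'), E.mulC _ (C.inv_mem ha) _ ha', E.invC ha, neg_add_eq_zero]

theorem eqD {a a' : G} (ha : a ∈ D) (ha' : a' ∈ D) : πD a = πD a' ↔ a⁻¹ * a' ∈ V := by
  rw [← E.kerD _ (D.mul_mem (D.inv_mem ha) ha'), E.mulD _ (D.inv_mem ha) _ ha', E.invD ha, neg_add_eq_zero]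

theorem eqC' {a a' : G} (ha : a ∈ C) (ha' : a' ∈ C) : πC a = πC a' ↔ a * a'⁻¹ ∈ V := by
  rw [← E.kerC _ (C.mul_mem ha (C.inv_mem ha')), E.mulC _ ha _ (C.inv_mem ha'), E.invC ha', add_neg_eq_zero]

theorem eqD' {a a' : G} (ha : a ∈ D) (ha' : a' ∈ D) : πD a = πD a' ↔ a * a'⁻¹ ∈ V := by
  rw [← E.kerD _ (D.mul_mem ha (D.inv_mem ha')), E.mulD _ ha _ (D.inv_mem ha'), E.invD ha', add_neg_eq_zero]

/-- `Φ` is finite -/
theorem finite [Finite G] : Finite Φ :=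
  Finite.of_surjective (fun a : ↥C => πC (a : G)) fun p => by
    obtain ⟨a, ha, h⟩ := E.surC p
    exact ⟨⟨a, ha⟩, h⟩

/-- the torus element `h(l) = n(l) n(1)` has weight `l` on `C / (C ⊓ V)` ... -/
theorem hC {l : K} (hl : l ≠ 0) {a : G} (ha : a ∈ C) :
    (nn x y l * nn x y 1) * a * (nn x y l * nn x y 1)⁻¹ ∈ C ∧
      πC ((nn x y l * nn x y 1) * a * (nn x y l * nn x y 1)⁻¹) = l • πC a := by
  obtain ⟨h1, h2⟩ := E.nC 1 one_ne_zero a ha
  obtain ⟨h3, h4⟩ := E.nD l hl _ h1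
  have h5 : (nn x y l * nn x y 1) * a * (nn x y l * nn x y 1)⁻¹ =
      nn x y l * (nn x y 1 * a * (nn x y 1)⁻¹) * (nn x y l)⁻¹ := by
    generalize nn x y l = n
    generalize nn x y 1 = n'
    group
  rw [h5]
  refine ⟨h3, ?_⟩
  rw [h4, h2, inv_one, one_smul]

/-- ... and weight `l⁻¹` on `D / (D ⊓ V)` -/
theorem hD {l : K} (hl : l ≠ 0) {b : G} (hb : b ∈ D) :
    (nn x y l * nn x y 1) * b * (nn x y l * nn x y 1)⁻¹ ∈ D ∧
      πD ((nn x y l * nn x y 1) * b * (nn x y l * nn x y 1)⁻¹) = l⁻¹ • πD b := by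
  obtain ⟨h1, h2⟩ := E.nD 1 one_ne_zero b hb
  obtain ⟨h3, h4⟩ := E.nC l hl _ h1
  have h5 : (nn x y l * nn x y 1) * b * (nn x y l * nn x y 1)⁻¹ =
      nn x y l * (nn x y 1 * b * (nn x y 1)⁻¹) * (nn x y l)⁻¹ := by
    generalize nn x y l = n
    generalize nn x y 1 = n'
    group
  rw [h5]
  refine ⟨h3, ?_⟩
  rw [h4, h2, one_smul]

end FldG

section act

variable {K Φ : Type*} [Field K] [AddCommGroup Φ] [Module K Φ] {V : Subgroup G} {R Q : I → Subgroup G} {i j : I}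
  {x y : K → G} {πi πj : G → Φ}

theorem cent_conj {k c : G} (hk : k ∈ normalizer (V : Set G)) (hc : c ∈ centralizer (V : Set G)) :
    k * c * k⁻¹ ∈ centralizer (V : Set G) := by
  rw [mem_centralizer_iff] at hc ⊢
  intro v hv
  have h1 : k⁻¹ * v * k ∈ V := by
    have := (mem_normalizer_iff.mp ((normalizer (V : Set G)).inv_mem hk) v).mp hv
    rwa [inv_inv] at this
  have h2 := hc _ h1
  calc v * (k * c * k⁻¹) = k * ((k⁻¹ * v * k) * c) * k⁻¹ := by group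
    _ = k * (c * (k⁻¹ * v * k)) * k⁻¹ := by rw [h2]
    _ = k * c * k⁻¹ * v := by group

/-- only the action of `z ∈ Q i` on `V` counts -/
theorem FldG.xD' (E : FldG K Φ V (Q i ⊓ centralizer (V : Set G)) (Q j ⊓ centralizer (V : Set G)) x y πi πj)
    (M : Mt V R Q) (h : i ≠ j) (hm : Q i ⊓ Q j ≤ V) (F : Fr K V R Q i j x y) {l : K} {z b : G} (hz : z ∈ Q i)
    (hzl : (x l)⁻¹ * z ∈ centralizer (V : Set G)) (hb : b ∈ Q j ⊓ centralizer (V : Set G)) :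
    cm z b ∈ Q i ⊓ centralizer (V : Set G) ∧ πi (cm z b) = l • πj b := by
  obtain ⟨h1, h2⟩ := E.xD l b hb
  have h0 : cm z b ∈ Q i ⊓ centralizer (V : Set G) := mem_inf.mpr (M.comm_mem hz hb.1 hb.2)
  refine ⟨h0, ?_⟩
  rw [← h2, E.eqC' h0 h1]
  have hc : (x l)⁻¹ * z ∈ Q i := mul_mem (inv_mem (F.hx l)) hz
  have h3 := M.comm_V h hm hc hzl hb.1 hb.2
  have h4 := M.Q_V' (F.hx l) h3
  have h5 : cm z b * (cm (x l) b)⁻¹ = x l * ((x l)⁻¹ * z * b * ((x l)⁻¹ * z)⁻¹ * b⁻¹) * (x l)⁻¹ := by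
    simp only [cm]; group
  rw [h5]; exact h4

theorem FldG.yC' (E : FldG K Φ V (Q i ⊓ centralizer (V : Set G)) (Q j ⊓ centralizer (V : Set G)) x y πi πj)
    (M : Mt V R Q) (h : i ≠ j) (hm : Q i ⊓ Q j ≤ V) (F : Fr K V R Q i j x y) {l : K} {z a : G} (hz : z ∈ Q j)
    (hzl : (y l)⁻¹ * z ∈ centralizer (V : Set G)) (ha : a ∈ Q i ⊓ centralizer (V : Set G)) :
    cm z a ∈ Q j ⊓ centralizer (V : Set G) ∧ πj (cm z a) = l • πi a := by
  obtain ⟨h1, h2⟩ := E.yC l a ha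
  have h0 : cm z a ∈ Q j ⊓ centralizer (V : Set G) := mem_inf.mpr (M.comm_mem hz ha.1 ha.2)
  refine ⟨h0, ?_⟩
  rw [← h2, E.eqD' h0 h1]
  have hc : (y l)⁻¹ * z ∈ Q j := mul_mem (inv_mem (F.hy l)) hz
  have h3 := M.comm_V h hm hc hzl ha.1 ha.2
  have h4 := M.Q_V' (F.hy l) h3
  have h5 : cm z a * (cm (y l) a)⁻¹ = y l * ((y l)⁻¹ * z * a * ((y l)⁻¹ * z)⁻¹ * a⁻¹) * (y l)⁻¹ := by
    simp only [cm]; group
  rw [h5]; exact h4

/-- An element `k` which normalises `V`, `Q i`, `Q j` and induces `x l ↦ x (s l)` modulo `C(V)`. -/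
theorem FldG.semilin
    (E : FldG K Φ V (Q i ⊓ centralizer (V : Set G)) (Q j ⊓ centralizer (V : Set G)) x y πi πj)
    (M : Mt V R Q) (h : i ≠ j) (hm : Q i ⊓ Q j ≤ V) (F : Fr K V R Q i j x y) {k : G}
    (hk : k ∈ normalizer (V : Set G)) (ki : cj k (Q i) = Q i) (kj : cj k (Q j) = Q j) (s : K → K)
    (hs : ∀ l, (x (s l))⁻¹ * (k * x l * k⁻¹) ∈ centralizer (V : Set G)) :
    ∃ u w : Φ →+ Φ,
      (∀ a ∈ Q i ⊓ centralizer (V : Set G), k * a * k⁻¹ ∈ Q i ⊓ centralizer (V : Set G) ∧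
        πi (k * a * k⁻¹) = u (πi a)) ∧
      (∀ b ∈ Q j ⊓ centralizer (V : Set G), k * b * k⁻¹ ∈ Q j ⊓ centralizer (V : Set G) ∧
        πj (k * b * k⁻¹) = w (πj b)) ∧ ∀ (l : K) (p : Φ), u (l • p) = s l • w p := by
  classical
  have kC : ∀ a ∈ Q i ⊓ centralizer (V : Set G), k * a * k⁻¹ ∈ Q i ⊓ centralizer (V : Set G) := fun a ha =>
    mem_inf.mpr ⟨by rw [← ki]; exact conj_mem_cj ha.1, cent_conj hk ha.2⟩
  have kD : ∀ a ∈ Q j ⊓ centralizer (V : Set G), k * a * k⁻¹ ∈ Q j ⊓ centralizer (V : Set G) := fun a ha =>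
    mem_inf.mpr ⟨by rw [← kj]; exact conj_mem_cj ha.1, cent_conj hk ha.2⟩
  have kV : ∀ v ∈ V, k * v * k⁻¹ ∈ V := fun v hv => (mem_normalizer_iff.mp hk v).mp hv
  choose c hc hcp using E.surC
  choose d hd hdp using E.surD
  have hu : ∀ a ∈ Q i ⊓ centralizer (V : Set G), πi (k * a * k⁻¹) = πi (k * c (πi a) * k⁻¹) := by
    intro a ha
    rw [E.eqC (kC a ha) (kC _ (hc _))]
    have h1 := (E.eqC ha (hc _)).mp (hcp (πi a)).symm
    have h2 : (k * a * k⁻¹)⁻¹ * (k * c (πi a) * k⁻¹) = k * (a⁻¹ * c (πi a)) * k⁻¹ := by group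
    rw [h2]; exact kV _ h1
  have hw : ∀ a ∈ Q j ⊓ centralizer (V : Set G), πj (k * a * k⁻¹) = πj (k * d (πj a) * k⁻¹) := by
    intro a ha
    rw [E.eqD (kD a ha) (kD _ (hd _))]
    have h1 := (E.eqD ha (hd _)).mp (hdp (πj a)).symm
    have h2 : (k * a * k⁻¹)⁻¹ * (k * d (πj a) * k⁻¹) = k * (a⁻¹ * d (πj a)) * k⁻¹ := by group
    rw [h2]; exact kV _ h1
  have uadd : ∀ p p', πi (k * c (p + p') * k⁻¹) = πi (k * c p * k⁻¹) + πi (k * c p' * k⁻¹) := by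
    intro p p'
    rw [← E.mulC _ (kC _ (hc p)) _ (kC _ (hc p'))]
    have h1 : k * c p * k⁻¹ * (k * c p' * k⁻¹) = k * (c p * c p') * k⁻¹ := by group
    rw [h1, hu _ (mul_mem (hc p) (hc p')), E.mulC _ (hc p) _ (hc p'), hcp, hcp]
  have wadd : ∀ p p', πj (k * d (p + p') * k⁻¹) = πj (k * d p * k⁻¹) + πj (k * d p' * k⁻¹) := by
    intro p p'
    rw [← E.mulD _ (kD _ (hd p)) _ (kD _ (hd p'))]
    have h1 : k * d p * k⁻¹ * (k * d p' * k⁻¹) = k * (d p * d p') * k⁻¹ := by group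
    rw [h1, hw _ (mul_mem (hd p) (hd p')), E.mulD _ (hd p) _ (hd p'), hdp, hdp]
  refine ⟨AddMonoidHom.mk' (fun p => πi (k * c p * k⁻¹)) uadd,
    AddMonoidHom.mk' (fun p => πj (k * d p * k⁻¹)) wadd, fun a ha => ⟨kC a ha, hu a ha⟩,
    fun b hb => ⟨kD b hb, hw b hb⟩, ?_⟩
  intro l p
  obtain ⟨h1, h2⟩ := E.xD l _ (hd p)
  rw [hdp] at h2
  change πi (k * c (l • p) * k⁻¹) = s l • πj (k * d p * k⁻¹)
  rw [← h2, ← hu _ h1]
  have hz : k * x l * k⁻¹ ∈ Q i := by rw [← ki]; exact conj_mem_cj (F.hx l)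
  have h3 := (E.xD' M h hm F hz (hs l) (kD _ (hd p))).2
  rw [← h3]
  congr 1
  simp only [cm]; group

/-- `C_G(V)` acts `K`-linearly, and in the same way on both groups. -/
theorem FldG.lin
    (E : FldG K Φ V (Q i ⊓ centralizer (V : Set G)) (Q j ⊓ centralizer (V : Set G)) x y πi πj)
    (M : Mt V R Q) (h : i ≠ j) (hm : Q i ⊓ Q j ≤ V) (F : Fr K V R Q i j x y) {k : G}
    (hk : k ∈ centralizer (V : Set G)) :
    ∃ u : Φ →ₗ[K] Φ,
      (∀ a ∈ Q i ⊓ centralizer (V : Set G), k * a * k⁻¹ ∈ Q i ⊓ centralizer (V : Set G) ∧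
        πi (k * a * k⁻¹) = u (πi a)) ∧
      (∀ b ∈ Q j ⊓ centralizer (V : Set G), k * b * k⁻¹ ∈ Q j ⊓ centralizer (V : Set G) ∧
        πj (k * b * k⁻¹) = u (πj b)) := by
  have hN : k ∈ normalizer (V : Set G) := by
    apply mem_normalizer_of_cj
    apply cj_eq_of_comm
    intro v hv
    exact ((mem_centralizer_iff.mp hk) v hv).symm
  obtain ⟨u, w, h1, h2, h3⟩ := E.semilin M h hm F hN (M.C_nor i hk) (M.C_nor j hk) id (by
    intro l
    have e1 := M.Q_cent ((Q i).inv_mem (F.hx l)) hk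
    have e2 : (x (id l))⁻¹ * (k * x l * k⁻¹) = ((x l)⁻¹ * k * (x l)⁻¹⁻¹) * k⁻¹ := by
      simp only [id]; group
    rw [e2]
    exact mul_mem e1 (inv_mem hk))
  have h4 : ∀ p, u p = w p := fun p => by
    have := h3 1 p
    simpa using this
  refine ⟨{ toFun := u, map_add' := u.map_add, map_smul' := fun l p => ?_ }, h1, fun b hb => ?_⟩
  · change u (l • p) = l • u p
    rw [h3 l p, h4]; rfl
  · refine ⟨(h2 b hb).1, ?_⟩
    change _ = u (πj b)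
    rw [(h2 b hb).2, h4]

end act

end Cfsg.Agent.Omega.NOne.SU
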