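import Cfsg.Agent.Omega.NOne.SU.GIn
import Cfsg.Agent.Omega.NOne.SU.FieldGrp

/-!
# THE FIELD (step (0) of THEOREM UNI): `GIn` and `Mt` give `Fld`
-/

set_option autoImplicit false
set_option linter.unusedVariables false
set_option linter.unusedSectionVars false

open Subgroup
open Cfsg.Agent.Omega.NO1.Beta.Meet

namespace Cfsg.Agent.Omega.NOne.SU

universe u

namespace QuadF

variable {k F : Type*} [Field k] [Field F] [Algebra k F] (T : Quad k F)
include T

theorem sg_ne {x : F} (hx : x ≠ 0) : T.sg x ≠ 0 := by simpa using hx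

theorem nm_mul (x y : F) : T.nm (x * y) = T.nm x * T.nm y := by
  apply (algebraMap k F).injective
  rw [map_mul, T.nm_eq, T.nm_eq, T.nm_eq, map_mul]; ring

theorem nm_zero : T.nm 0 = 0 := by
  apply (algebraMap k F).injective
  rw [T.nm_eq]; simp

theorem nm_one : T.nm 1 = 1 := by
  apply (algebraMap k F).injective
  rw [T.nm_eq]; simp

theorem nm_ne {x : F} (hx : x ≠ 0) : T.nm x ≠ 0 := by
  intro h
  have h1 := T.nm_eq x
  rw [h, map_zero] at h1
  exact (mul_ne_zero hx (sg_ne T hx)) h1.symm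

/-- the action of `n(l)` on hermitian matrices: the three coordinates -/
theorem nA (h2 : (2 : F) = 0) {l : F} (hl : l ≠ 0) (a : k) (b : F) (d : k) :
    (let a1 := a + T.tr (T.sg l * b) + T.nm l * d
     let b1 := b + l * algebraMap k F d
     let d2 := d + T.tr (l⁻¹ * b1) + T.nm l⁻¹ * a1
     let b2 := b1 + T.sg l⁻¹ * algebraMap k F a1
     a1 + T.tr (T.sg l * b2) + T.nm l * d2) = T.nm l * d := by
  have hs := sg_ne T hl
  apply (algebraMap k F).injective
  simp only [map_add, map_mul, T.tr_eq, T.nm_eq, T.sg_sg, map_inv₀, AlgEquiv.commutes]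
  generalize algebraMap k F a = A
  generalize algebraMap k F d = D
  generalize T.sg l = s at *
  generalize T.sg b = b' at *
  grind

theorem nB (h2 : (2 : F) = 0) {l : F} (hl : l ≠ 0) (a : k) (b : F) (d : k) :
    (let a1 := a + T.tr (T.sg l * b) + T.nm l * d
     let b1 := b + l * algebraMap k F d
     let d2 := d + T.tr (l⁻¹ * b1) + T.nm l⁻¹ * a1
     let b2 := b1 + T.sg l⁻¹ * algebraMap k F a1
     b2 + l * algebraMap k F d2) = l * (T.sg l)⁻¹ * T.sg b := by
  have hs := sg_ne T hl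
  simp only [map_add, map_mul, T.tr_eq, T.nm_eq, T.sg_sg, map_inv₀, AlgEquiv.commutes]
  generalize algebraMap k F a = A
  generalize algebraMap k F d = D
  generalize T.sg l = s at *
  generalize T.sg b = b' at *
  grind

theorem nD (h2 : (2 : F) = 0) {l : F} (hl : l ≠ 0) (a : k) (b : F) (d : k) :
    (let a1 := a + T.tr (T.sg l * b) + T.nm l * d
     let b1 := b + l * algebraMap k F d
     d + T.tr (l⁻¹ * b1) + T.nm l⁻¹ * a1) = (T.nm l)⁻¹ * a := by
  have hs := sg_ne T hl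
  apply (algebraMap k F).injective
  simp only [map_add, map_mul, T.tr_eq, T.nm_eq, T.sg_sg, map_inv₀, AlgEquiv.commutes]
  generalize algebraMap k F a = A
  generalize algebraMap k F d = D
  generalize T.sg l = s at *
  generalize T.sg b = b' at *
  grind

end QuadF

section

variable {G : Type u} [Group G] {k F : Type*} [Field k] [Field F] [Algebra k F] {T : Quad k F}
  {S : Sylow 2 G} {V R Q Q' : Subgroup G} {v : k → F → k → G} {p p' : G → F}

namespace GEnd

theorem h2 (g : GIn T S V R Q Q' v p p') : (2 : F) = 0 := by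
  have h := g.sp.two
  have h1 : algebraMap k F 2 = 2 := map_ofNat _ 2
  rw [← h1, h, map_zero]

theorem charF (g : GIn T S V R Q Q' v p p') : CharP F 2 :=
  CharTwo.of_one_ne_zero_of_two_eq_zero one_ne_zero (h2 g)

theorem finF (T : Quad k F) : Finite F := by
  apply Nat.finite_of_card_ne_zero
  rw [T.card]
  have := T.four
  positivity

theorem v_eq (g : GIn T S V R Q Q' v p p') {a a' : k} {b b' : F} {d d' : k} (h : v a b d = v a' b' d') :
    a = a' ∧ b = b' ∧ d = d' := by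
  have h1 := g.v_add (a - a') (b - b') (d - d') a' b' d'
  rw [sub_add_cancel, sub_add_cancel, sub_add_cancel, h] at h1
  have h3 := g.v_inj _ _ _ (right_eq_mul.mp h1)
  exact ⟨sub_eq_zero.mp h3.1, sub_eq_zero.mp h3.2.1, sub_eq_zero.mp h3.2.2⟩

theorem v_zero (g : GIn T S V R Q Q' v p p') : v 0 0 0 = 1 := by
  have h1 := g.v_add 0 0 0 0 0 0
  rw [add_zero, add_zero] at h1
  exact (left_eq_mul.mp h1)

theorem p_one (g : GIn T S V R Q Q' v p p') : p 1 = 0 := by
  have h1 := g.p_add 1 Q.one_mem 1 Q.one_mem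
  rw [mul_one] at h1
  exact left_eq_add.mp h1

theorem p_inv (g : GIn T S V R Q Q' v p p') {y : G} (hy : y ∈ Q) : p y⁻¹ = - p y := by
  have h1 := g.p_add y hy y⁻¹ (Q.inv_mem hy)
  rw [mul_inv_cancel, p_one g] at h1
  exact (neg_eq_of_add_eq_zero_right h1.symm).symm

theorem p'_one (g : GIn T S V R Q Q' v p p') : p' 1 = 0 := by
  have h1 := g.p'_add 1 Q'.one_mem 1 Q'.one_mem
  rw [mul_one] at h1
  exact left_eq_add.mp h1

theorem p'_inv (g : GIn T S V R Q Q' v p p') {y : G} (hy : y ∈ Q') : p' y⁻¹ = - p' y := by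
  have h1 := g.p'_add y hy y⁻¹ (Q'.inv_mem hy)
  rw [mul_inv_cancel, p'_one g] at h1
  exact (neg_eq_of_add_eq_zero_right h1.symm).symm

theorem cent_iff (g : GIn T S V R Q Q' v p p') {c : G} : c ∈ centralizer (V : Set G) ↔
    ∀ a b d, c * v a b d * c⁻¹ = v a b d := by
  rw [mem_centralizer_iff]
  constructor
  · intro h a b d
    rw [← h _ (g.v_mem a b d)]; group
  · intro h x hx
    obtain ⟨a, b, d, rfl⟩ := g.v_surj x hx
    calc v a b d * c = (c * v a b d * c⁻¹) * c := by rw [h]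
      _ = c * v a b d := by group

theorem mem_C (g : GIn T S V R Q Q' v p p') {y : G} (hy : y ∈ Q) : y ∈ centralizer (V : Set G) ↔ p y = 0 := by
  rw [cent_iff g]
  constructor
  · intro h
    have h1 := h 0 0 1
    rw [g.act y hy] at h1
    have h2 := (v_eq g h1).2.1
    simpa using h2
  · intro h a b d
    rw [g.act y hy, h]
    simp [QuadF.nm_zero T]

theorem mem_C' (g : GIn T S V R Q Q' v p p') {y : G} (hy : y ∈ Q') :
    y ∈ centralizer (V : Set G) ↔ p' y = 0 := by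
  rw [cent_iff g]
  constructor
  · intro h
    have h1 := h 1 0 0
    rw [g.act' y hy] at h1
    have h2 := (v_eq g h1).2.1
    simpa using h2
  · intro h a b d
    rw [g.act' y hy, h]
    simp [QuadF.nm_zero T]

/-- `n(l)` on `V` -/
theorem nn_act (g : GIn T S V R Q Q' v p p') {x y : F → G} (hx : ∀ l, x l ∈ Q) (hpx : ∀ l, p (x l) = l)
    (hy : ∀ l, y l ∈ Q') (hpy : ∀ l, p' (y l) = l) {l : F} (hl : l ≠ 0) (a : k) (b : F) (d : k) :
    nn x y l * v a b d * (nn x y l)⁻¹ = v (T.nm l * d) (l * (T.sg l)⁻¹ * T.sg b) ((T.nm l)⁻¹ * a) := by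
  have h0 : nn x y l * v a b d * (nn x y l)⁻¹ =
      x l * (y l⁻¹ * (x l * v a b d * (x l)⁻¹) * (y l⁻¹)⁻¹) * (x l)⁻¹ := by
    simp only [nn]; group
  rw [h0, g.act _ (hx l), g.act' _ (hy l⁻¹), g.act _ (hx l), hpx, hpy]
  rw [QuadF.nA T (h2 g) hl, QuadF.nB T (h2 g) hl, QuadF.nD T (h2 g) hl]

/-- the torus element `n(z) n(1)` on `V` -/
theorem tor_act (g : GIn T S V R Q Q' v p p') {x y : F → G} (hx : ∀ l, x l ∈ Q) (hpx : ∀ l, p (x l) = l)
    (hy : ∀ l, y l ∈ Q') (hpy : ∀ l, p' (y l) = l) {z : F} (hz : z ≠ 0) (a : k) (b : F) (d : k) :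
    (nn x y z * nn x y 1) * v a b d * (nn x y z * nn x y 1)⁻¹ =
      v (T.nm z * a) (z * (T.sg z)⁻¹ * b) ((T.nm z)⁻¹ * d) := by
  have h0 : (nn x y z * nn x y 1) * v a b d * (nn x y z * nn x y 1)⁻¹ =
      nn x y z * (nn x y 1 * v a b d * (nn x y 1)⁻¹) * (nn x y z)⁻¹ := by
    generalize nn x y z = n
    generalize nn x y 1 = n'
    group
  rw [h0, nn_act g hx hpx hy hpy one_ne_zero, nn_act g hx hpx hy hpy hz]
  simp only [QuadF.nm_one T, map_one, inv_one, one_mul, mul_one, T.sg_sg]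

variable {I : Type*} {Rf Qf : I → Subgroup G} {i j : I}

theorem mem_R (g : GIn T S V R Q Q' v p p') (x : G) : x ∈ R ↔ ∃ a, x = v a 0 0 := by
  constructor
  · intro hx
    obtain ⟨a, ha⟩ := g.sp.a_surj x hx
    exact ⟨a, ha.symm⟩
  · rintro ⟨a, rfl⟩
    exact g.sp.a_mem a

/-- matching pairs: `p' y' = (p y)⁻¹` -/
theorem match_iff (g : GIn T S V R Q Q' v p p') {R' : Subgroup G} (hR' : ∀ x, x ∈ R' ↔ ∃ d, x = v 0 0 d)
    {y y' : G} (hy : y ∈ Q) (hy' : y' ∈ Q') (h0 : p y ≠ 0) : cj y R' = cj y' R ↔ p' y' = (p y)⁻¹ := by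
  have hn := QuadF.nm_ne T h0
  have hs := QuadF.sg_ne T h0
  have e1 : ∀ x, x ∈ cj y R' ↔ ∃ d, x = v (T.nm (p y) * d) (p y * algebraMap k F d) d := by
    intro x
    rw [mem_cj, hR']
    refine exists_congr fun d => ?_
    rw [show (y⁻¹ * x * y = v 0 0 d ↔ x = y * v 0 0 d * y⁻¹) from by
      constructor
      · intro h; rw [← h]; group
      · rintro rfl; group]
    rw [g.act y hy]
    simp
  have e2 : ∀ x, x ∈ cj y' R ↔ ∃ a, x = v a (T.sg (p' y') * algebraMap k F a) (T.nm (p' y') * a) := by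
    intro x
    rw [mem_cj, mem_R g]
    refine exists_congr fun d => ?_
    rw [show (y'⁻¹ * x * y' = v d 0 0 ↔ x = y' * v d 0 0 * y'⁻¹) from by
      constructor
      · intro h; rw [← h]; group
      · rintro rfl; group]
    rw [g.act' y' hy']
    simp
  constructor
  · intro h
    have h1 : v (T.nm (p y) * 1) (p y * algebraMap k F 1) 1 ∈ cj y' R := by
      rw [← h, e1]; exact ⟨1, rfl⟩
    rw [e2] at h1
    obtain ⟨a, ha⟩ := h1
    obtain ⟨h2, h3, h4⟩ := v_eq g ha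
    rw [← h2, mul_one, T.nm_eq, map_one, mul_one] at h3
    have h5 : T.sg (p' y') * T.sg (p y) = 1 := by
      have : p y * (T.sg (p' y') * T.sg (p y)) = p y * 1 := by
        rw [mul_one]
        calc p y * (T.sg (p' y') * T.sg (p y)) = T.sg (p' y') * (p y * T.sg (p y)) := by ring
          _ = p y := h3.symm
      exact mul_left_cancel₀ h0 this
    rw [← map_mul] at h5
    have h6 : p' y' * p y = 1 := by
      have := congrArg T.sg h5
      rwa [T.sg_sg, map_one] at this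
    exact eq_inv_of_mul_eq_one_left h6
  · intro h
    ext x
    rw [e1, e2, h]
    have hnn : T.nm (p y)⁻¹ = (T.nm (p y))⁻¹ := by
      apply eq_inv_of_mul_eq_one_left
      rw [← QuadF.nm_mul T, inv_mul_cancel₀ h0, QuadF.nm_one T]
    constructor
    · rintro ⟨d, rfl⟩
      refine ⟨T.nm (p y) * d, ?_⟩
      have c1 : T.sg (p y)⁻¹ * algebraMap k F (T.nm (p y) * d) = p y * algebraMap k F d := by
        rw [map_mul, T.nm_eq, map_inv₀]
        field_simp
      have c2 : T.nm (p y)⁻¹ * (T.nm (p y) * d) = d := by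
        rw [hnn]; field_simp
      rw [c1, c2]
    · rintro ⟨a, rfl⟩
      refine ⟨(T.nm (p y))⁻¹ * a, ?_⟩
      have c1 : T.nm (p y) * ((T.nm (p y))⁻¹ * a) = a := by field_simp
      have c2 : p y * algebraMap k F ((T.nm (p y))⁻¹ * a) = T.sg (p y)⁻¹ * algebraMap k F a := by
        rw [map_mul, map_inv₀, T.nm_eq, map_inv₀]
        field_simp
      rw [c1, c2, hnn]

/-- the frame exists -/
theorem exists_frame (g : GIn T S V (Rf i) (Qf i) (Qf j) v p p') (M : Mt V Rf Qf) (h : i ≠ j)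
    (hRj : ∀ x, x ∈ Rf j ↔ ∃ d, x = v 0 0 d) :
    ∃ x y : F → G, (∀ l, p (x l) = l) ∧ (∀ l, p' (y l) = l) ∧ Fr F V Rf Qf i j x y := by
  choose x hx hpx using g.p_surj
  have hex : ∀ l : F, ∃ y ∈ Qf j, p' y = l := by
    intro l
    by_cases hl : l = 0
    · exact ⟨1, (Qf j).one_mem, by rw [p'_one g, hl]⟩
    have hli : l⁻¹ ≠ 0 := inv_ne_zero hl
    have hmv : cj (x l⁻¹) (Rf j) ≠ Rf j := by
      intro h0
      have := M.fixj i j h (x l⁻¹) (hx _) h0
      rw [mem_C g (hx _), hpx] at this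
      exact hli this
    obtain ⟨y', hy', h1⟩ := M.exists_match h (hx l⁻¹) hmv
    refine ⟨y', hy', ?_⟩
    have h2 := (match_iff g hRj (hx l⁻¹) hy' (by rw [hpx]; exact hli)).mp h1
    rw [h2, hpx, inv_inv]
  choose y hy hpy using hex
  have hmat : ∀ l, l ≠ 0 → cj (x l) (Rf j) = cj (y l⁻¹) (Rf i) := by
    intro l hl
    rw [match_iff g hRj (hx l) (hy _) (by rw [hpx]; exact hl), hpx, hpy]
  refine ⟨x, y, hpx, hpy, hx, hy, ?_, ?_, hmat, ?_⟩
  · intro l m
    have h1 := mul_mem (hx l) (hx m)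
    rw [mem_C g (mul_mem (inv_mem h1) (hx _)), g.p_add _ (inv_mem h1) _ (hx _), p_inv g h1,
      g.p_add _ (hx l) _ (hx m), hpx, hpx, hpx]
    ring
  · intro l m
    have h1 := mul_mem (hy l) (hy m)
    rw [mem_C' g (mul_mem (inv_mem h1) (hy _)), g.p'_add _ (inv_mem h1) _ (hy _), p'_inv g h1,
      g.p'_add _ (hy l) _ (hy m), hpy, hpy, hpy]
    ring
  · intro l m hl hm
    obtain ⟨s1, s2, -, -⟩ := M.swap h (hx l) (hy l⁻¹) (hmat l hl)
    have hw : nn x y l * y m * (nn x y l)⁻¹ ∈ Qf i := by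
      rw [← s2]; exact conj_mem_cj (hy m)
    have hpw : p (nn x y l * y m * (nn x y l)⁻¹) = l * l * m := by
      have h1 := g.act _ hw 0 0 1
      have h3 : nn x y l * y m * (nn x y l)⁻¹ * v 0 0 1 * (nn x y l * y m * (nn x y l)⁻¹)⁻¹ =
          nn x y l * (y m * ((nn x y l)⁻¹ * v 0 0 1 * nn x y l) * (y m)⁻¹) * (nn x y l)⁻¹ := by
        generalize nn x y l = n
        group
      have h4 : (nn x y l)⁻¹ * v 0 0 1 * nn x y l = v (T.nm l) 0 0 := by
        have h5 := nn_act g hx hpx hy hpy hl (T.nm l) 0 0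
        have h6 : v (T.nm l * 0) (l * (T.sg l)⁻¹ * T.sg 0) ((T.nm l)⁻¹ * T.nm l) = v 0 0 1 := by
          rw [mul_zero, map_zero, mul_zero, inv_mul_cancel₀ (QuadF.nm_ne T hl)]
        rw [h6] at h5
        rw [← h5]; group
      rw [h3, h4, g.act' _ (hy m), nn_act g hx hpx hy hpy hl, hpy] at h1
      have h7 := (v_eq g h1).2.1
      have hs := QuadF.sg_ne T hl
      simp only [zero_add, map_one, mul_one, map_mul, T.sg_sg, T.nm_eq] at h7
      rw [← h7]
      field_simp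
    rw [mem_C g (mul_mem (inv_mem (hx _)) hw), g.p_add _ (inv_mem (hx _)) _ hw, p_inv g (hx _), hpx, hpw]
    ring

theorem meet_V (g : GIn T S V R Q Q' v p p') : Q ⊓ Q' ≤ V := by
  intro x hx
  obtain ⟨b, rfl⟩ := g.meet x hx.1 hx.2
  exact g.v_mem _ _ _

/-- **THE FIELD: `GIn` and `Mt` give `Fld`.** -/
theorem exists_Fld (g : GIn T S V (Rf i) (Qf i) (Qf j) v p p') (M : Mt V Rf Qf) (h : i ≠ j)
    (hRj : ∀ x, x ∈ Rf j ↔ ∃ d, x = v 0 0 d) :
    ∃ (Φ : Type u) (_ : AddCommGroup Φ) (_ : Module F Φ) (φ χ : G → Φ),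
      Fld T V (Rf i) (Qf i) (Qf j) v p φ χ := by
  have hF := finF T
  have hc := charF g
  have hm := meet_V g
  obtain ⟨x, y, hpx, hpy, Fr⟩ := exists_frame g M h hRj
  obtain ⟨Φ, i1, i2, φ, χ, E⟩ := exists_fld M h hm Fr
  have hneg : ∀ u : Φ, -u = u := by
    intro u
    have h1 : (2 : F) • u = 0 := by rw [h2 g, zero_smul]
    rw [two_smul] at h1
    exact neg_eq_of_add_eq_zero_left h1
  refine ⟨Φ, i1, i2, φ, χ, ?_, ?_, ?_, ?_, ?_, ?_, ?_, ?_⟩
  · intro a ha hac b hb hbc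
    exact E.mulC a ⟨ha, hac⟩ b ⟨hb, hbc⟩
  · intro a ha hac
    rw [E.kerC a ⟨ha, hac⟩]
    constructor
    · intro hV
      obtain ⟨a', b, d, rfl⟩ := g.v_surj a hV
      have := g.V_Q _ _ _ ha
      exact ⟨a', b, by rw [this]⟩
    · rintro ⟨a', b, rfl⟩
      exact g.v_mem _ _ _
  · intro u
    obtain ⟨a, ha, hu⟩ := E.surC u
    exact ⟨a, ha.1, ha.2, hu⟩
  · intro a ha hac b hb hbc
    exact E.mulD a ⟨ha, hac⟩ b ⟨hb, hbc⟩
  · intro n hn hnc h0
    have hV := (E.kerD n ⟨hn, hnc⟩).mp h0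
    obtain ⟨a, b, d, rfl⟩ := g.v_surj n hV
    have h1 : v a b d = v a 0 0 * v 0 b d := by
      rw [← g.v_add, add_zero, zero_add, zero_add]
    have h3 : v a 0 0 ∈ Qf j := by
      have : v a 0 0 = v a b d * (v 0 b d)⁻¹ := by rw [h1]; group
      rw [this]
      exact mul_mem hn (inv_mem (g.E'_le b d))
    have h4 : v a 0 0 ∈ Rf i ⊓ Qf j := ⟨g.sp.a_mem a, h3⟩
    rw [M.RQj i j h, mem_bot] at h4
    have h5 := (g.v_inj _ _ _ h4).1
    exact ⟨b, d, by rw [h5]⟩
  · intro u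
    obtain ⟨a, ha, hu⟩ := E.surD u
    exact ⟨a, ha.1, ha.2, hu⟩
  · intro y' hy' n hn hnc
    have h1 : (x (p y'))⁻¹ * y' ∈ centralizer (V : Set G) := by
      rw [mem_C g (mul_mem (inv_mem (Fr.hx _)) hy'), g.p_add _ (inv_mem (Fr.hx _)) _ hy', p_inv g (Fr.hx _),
        hpx]
      ring
    obtain ⟨h3, h4⟩ := E.xD' M h hm Fr hy' h1 ⟨hn, hnc⟩
    have h5 : n * y' * n⁻¹ * y'⁻¹ = (cm y' n)⁻¹ := by simp only [cm]; group
    rw [h5, E.invC h3, h4, hneg]
  · intro z hz
    have hta := fun a b d => tor_act g Fr.hx hpx Fr.hy hpy hz a b d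
    obtain ⟨s1, s2, -, -⟩ := M.swap h (Fr.hx z) (Fr.hy z⁻¹) (Fr.mat z hz)
    obtain ⟨r1, r2, -, -⟩ := M.swap h (Fr.hx 1) (Fr.hy 1⁻¹) (Fr.mat 1 one_ne_zero)
    have hQi : cj (nn x y z * nn x y 1) (Qf i) = Qf i := by
      rw [cj_mul, r1, s2]
    have hQj : cj (nn x y z * nn x y 1) (Qf j) = Qf j := by
      rw [cj_mul, r2, s1]
    have hmem : ∀ l, nn x y l ∈ Qf i ⊔ Qf j := fun l =>
      mul_mem (mul_mem (mem_sup_left (Fr.hx l)) (mem_sup_right (Fr.hy _))) (mem_sup_left (Fr.hx l))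
    refine ⟨nn x y z * nn x y 1, mul_mem (hmem z) (hmem 1), hta, ?_, ?_, ?_⟩
    · intro w hw
      have hw' : (nn x y z * nn x y 1) * w * (nn x y z * nn x y 1)⁻¹ ∈ Qf i := by
        have := conj_mem_cj (c := nn x y z * nn x y 1) hw
        rwa [hQi] at this
      refine ⟨hw', ?_⟩
      have h1 := g.act _ hw' 0 0 1
      have hnz := QuadF.nm_ne T hz
      have hs := QuadF.sg_ne T hz
      generalize nn x y z * nn x y 1 = t at *
      have h3 : t * w * t⁻¹ * v 0 0 1 * (t * w * t⁻¹)⁻¹ = t * (w * (t⁻¹ * v 0 0 1 * t) * w⁻¹) * t⁻¹ := by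
        group
      have h4 : t⁻¹ * v 0 0 1 * t = v 0 0 (T.nm z) := by
        have h5 := hta 0 0 (T.nm z)
        have h6 : v (T.nm z * 0) (z * (T.sg z)⁻¹ * 0) ((T.nm z)⁻¹ * T.nm z) = v 0 0 1 := by
          rw [mul_zero, mul_zero, inv_mul_cancel₀ hnz]
        rw [h6] at h5
        rw [← h5]; group
      rw [h3, h4, g.act w hw, hta] at h1
      have h7 := (v_eq g h1).2.1
      simp only [zero_add, map_one, mul_one, T.nm_eq] at h7
      rw [← h7]
      field_simp
    · intro a ha hac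
      exact (E.hC hz ⟨ha, hac⟩).2
    · intro n hn hnc
      exact ⟨(E.hD hz ⟨hn, hnc⟩).1.1, (E.hD hz ⟨hn, hnc⟩).2⟩

end GEnd

end

end Cfsg.Agent.Omega.NOne.SU
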