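import Cfsg.Agent.Omega.NOne.SU.GInst
import Cfsg.Agent.Omega.NOne.SU.FieldEnd
import Cfsg.Agent.Omega.NO1.Beta.InstTor

/-!
# `Hyp d O` gives `GIn` and `Fld`
-/

set_option autoImplicit false
set_option linter.unusedVariables false
set_option linter.unusedSectionVars false

open Subgroup
open scoped Pointwise
open Cfsg.Agent.Omega.NO1.Beta.Inst

namespace Cfsg.Agent.Omega.NOne.SU.GHyp

open Co Cfsg.Agent.Omega.NO1.Beta GInst

universe u

variable {G : Type u} [Group G] {K : Type*} [Field K] [CharP K 2] {σ : K ≃+* K} {M V : Subgroup G}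
  {d : Co K σ M V} {O : Subgroup G → Subgroup G}

/-- the point `R0` -/
def i0 (d : Co K σ M V) : Pt d := ⟨d.R0, 1, M.one_mem, (cj_one _).symm⟩

theorem exists_i1 (d : Co K σ M V) : ∃ g ∈ M, d.Roo = cj g d.R0 := by
  obtain ⟨m, hm, hma⟩ := d.exists_act w
  exact ⟨m, hm, (d.w_R0 hm hma).symm⟩

/-- the point `Roo` -/
def i1 (d : Co K σ M V) : Pt d := ⟨d.Roo, exists_i1 d⟩

theorem i0_ne_i1 (d : Co K σ M V) : i0 d ≠ i1 d := by
  intro h
  exact d.R0_ne_Roo (congrArg Subtype.val h)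

/-- `O₂(N(Roo))` acts by lower triangular matrices -/
theorem act_l [Finite G] [Finite K] (H : Hyp d O) :
    (∀ y ∈ O (normalizer (d.Roo : Set G)), ∃ a, d.Act y (l a).1) ∧
      ∀ a, ∃ y ∈ O (normalizer (d.Roo : Set G)), d.Act y (l a).1 := by
  obtain ⟨m, hm, hma⟩ := d.exists_act w
  have hmR := d.w_R0 hm hma
  have hO : O (normalizer (d.Roo : Set G)) = cj m (O (normalizer (d.R0 : Set G))) := by
    rw [H.isO.cj_eq, cj_normalizer, hmR]
  have w1 : (w * w : Matrix.SpecialLinearGroup (Fin 2) K) = 1 := by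
    apply Subtype.ext
    simp only [Matrix.SpecialLinearGroup.coe_mul, Matrix.SpecialLinearGroup.coe_one]
    ext i j
    fin_cases i <;> fin_cases j <;> simp [w, Matrix.mul_apply, Fin.sum_univ_two]
  have w2 : (w : Matrix.SpecialLinearGroup (Fin 2) K)⁻¹ = w := inv_eq_of_mul_eq_one_left w1
  have wu : ∀ a : K, (w * u a * w : Matrix.SpecialLinearGroup (Fin 2) K) = l a := by
    intro a
    apply Subtype.ext
    simp only [Matrix.SpecialLinearGroup.coe_mul]
    ext i j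
    fin_cases i <;> fin_cases j <;> simp [w, u, l, Matrix.mul_apply, Fin.sum_univ_two]
  constructor
  · intro y hy
    rw [hO, mem_cj] at hy
    obtain ⟨a, ha⟩ := H.act_Q.1 _ hy
    have hyM : m⁻¹ * y * m ∈ M := H.Q_M hy
    refine ⟨a, ?_⟩
    have h1 := (hma.mulS ha hyM).mulS (hma.inv hm) (M.inv_mem hm)
    have e : m * (m⁻¹ * y * m) * m⁻¹ = y := by group
    rw [e, w2, wu] at h1
    exact h1
  · intro a
    obtain ⟨y, hy, hya⟩ := H.act_Q.2 a
    refine ⟨m * y * m⁻¹, ?_, ?_⟩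
    · rw [hO]; exact conj_mem_cj hy
    · have h1 := (hma.mulS hya (H.Q_M hy)).mulS (hma.inv hm) (M.inv_mem hm)
      rw [w2, wu] at h1
      exact h1

/-- **`GIn` and `Fld` from `Hyp`** -/
theorem main [Finite G] [Finite K] (H : Hyp d O) (h16 : 16 ≤ Nat.card K)
    (meet : ∀ N : Subgroup G, IsPGroup 2 N → N ≤ M → (∀ m ∈ M, ∀ y ∈ N, m * y * m⁻¹ ∈ N) →
      N ⊓ V = ⊥ → N = ⊥)
    (VE : ∀ i j : Pt d, i ≠ j → V ≤ (V ⊓ O (normalizer (i.1 : Set G))) ⊔ j.1)
    {y y' z z' : G} (tor : Meet.Tor V (fun i : Pt d => i.1) (fun i => O (normalizer (i.1 : Set G)))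
      (i0 d) (i1 d) y y' z z')
    (S : Sylow 2 G) (hSM : (S : Subgroup G) ≤ M) (hSR : (S : Subgroup G) ≤ normalizer (d.R0 : Set G)) :
    Meet.Mt V (fun i : Pt d => i.1) (fun i => O (normalizer (i.1 : Set G))) ∧
    GIn (quad d.inv d.nt h16) S V d.R0 (O (normalizer (d.R0 : Set G))) (O (normalizer (d.Roo : Set G))) (vv d)
      (pu d) (pl d) ∧
    ∃ (Φ : Type u) (_ : AddCommGroup Φ) (_ : Module K Φ) (φ χ : G → Φ),
      Fld (quad d.inv d.nt h16) V d.R0 (O (normalizer (d.R0 : Set G))) (O (normalizer (d.Roo : Set G))) (vv d)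
        (pu d) φ χ := by
  have B := H.beta meet
  have T := B.mt VE
  have hm : O (normalizer (d.R0 : Set G)) ⊓ O (normalizer (d.Roo : Set G)) ≤ V := T.meet_le (i0_ne_i1 d) tor
  have g : GIn (quad d.inv d.nt h16) S V d.R0 (O (normalizer (d.R0 : Set G)))
      (O (normalizer (d.Roo : Set G))) (vv d) (pu d) (pl d) :=
    gin d h16 B T (i0_ne_i1 d) rfl rfl H.act_Q.1 H.act_Q.2 (act_l H).1 ((act_l H).2 1) hm S hSM hSR
  exact ⟨T, g, GEnd.exists_Fld (Rf := fun i : Pt d => i.1) (Qf := fun i => O (normalizer (i.1 : Set G)))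
    (i := i0 d) (j := i1 d) g T (i0_ne_i1 d) fun x => mem_Roo_vv d⟩

/-- **`GIn` and `Fld` from `Hyp`**, final form -/
theorem main' [Finite G] [Finite K] (H : Hyp d O) (h16 : 16 ≤ Nat.card K)
    (meet : ∀ N : Subgroup G, IsPGroup 2 N → N ≤ M → (∀ m ∈ M, ∀ y ∈ N, m * y * m⁻¹ ∈ N) →
      N ⊓ V = ⊥ → N = ⊥)
    (S : Sylow 2 G) (hSM : (S : Subgroup G) ≤ M) (hSR : (S : Subgroup G) ≤ normalizer (d.R0 : Set G)) :
    Meet.Mt V (fun i : Pt d => i.1) (fun i => O (normalizer (i.1 : Set G))) ∧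
    GIn (quad d.inv d.nt h16) S V d.R0 (O (normalizer (d.R0 : Set G))) (O (normalizer (d.Roo : Set G))) (vv d)
      (pu d) (pl d) ∧
    ∃ (Φ : Type u) (_ : AddCommGroup Φ) (_ : Module K Φ) (φ χ : G → Φ),
      Fld (quad d.inv d.nt h16) V d.R0 (O (normalizer (d.R0 : Set G))) (O (normalizer (d.Roo : Set G))) (vv d)
        (pu d) φ χ := by
  obtain ⟨y, y', z, z', tor⟩ := H.tor (i0 d) (i1 d) (i0_ne_i1 d)
  exact main H h16 meet (fun i j hij => H.VE i j hij) tor S hSM hSR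

end Cfsg.Agent.Omega.NOne.SU.GHyp
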