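import Cfsg.Agent.Omega.NOne.SU.Grp1

/-!
# THEOREM UNI, group part: an elementary abelian 2-subgroup of the stabiliser of `e`
acts on `e` as a group of order `≤ 2`

`Se_grp`: the group form (from `S_2` by Sylow's theorem in `N(R) ∩ N(E)`), `Se_cj`: on `W = Q/R`.
-/

set_option autoImplicit false

open Subgroup

namespace Cfsg.Agent.Omega.NOne.SU

variable {G : Type*} [Group G] {k F : Type*} [Field k] [Field F] [Algebra k F]

namespace GIn

variable {T : Quad k F} {S : Sylow 2 G} {V R Q Q' : Subgroup G} {v : k → F → k → G} {p p' : G → F}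
  (h : GIn T S V R Q Q' v p p')
include h

theorem mem_E {x : G} : x ∈ V ⊓ Q ↔ ∃ a b, x = v a b 0 := by
  constructor
  · rintro ⟨hx, hq⟩
    obtain ⟨a, b, d, rfl⟩ := h.v_surj x hx
    have := h.V_Q a b d hq
    subst this
    exact ⟨a, b, rfl⟩
  · rintro ⟨a, b, rfl⟩
    exact ⟨h.v_mem _ _ _, h.E_le _ _⟩

/-- `N(R)` normalises `Q` -/
theorem NR_le_NQ : normalizer (R : Set G) ≤ normalizer (Q : Set G) := by
  intro c hc
  rw [mem_normalizer_iff]
  intro y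
  constructor
  · exact fun hy => h.nor c hc y hy
  · intro hy
    have := h.nor_inv hc hy
    have e : c⁻¹ * (c * y * c⁻¹) * c = y := by group
    rwa [e] at this

/-- an element of `C(R)` which is trivial on `Q/R` is in `Q`. -/
theorem mem_Q_of_triv {c : G} (hc : c ∈ centralizer (R : Set G))
    (ht : ∀ y ∈ Q, c * y * c⁻¹ * y⁻¹ ∈ R) : c ∈ Q := by
  have hR : ∀ c ∈ centralizer (R : Set G), ∀ r ∈ R, c * r * c⁻¹ = r := by
    intro c hc r hr
    rw [mem_centralizer_iff] at hc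
    rw [← hc r hr]; group
  let N : Subgroup G :=
    { carrier := {x | x ∈ centralizer (R : Set G) ∧ ∀ y ∈ Q, x * y * x⁻¹ * y⁻¹ ∈ R}
      one_mem' := ⟨one_mem _, fun y _ => by
        have e : 1 * y * 1⁻¹ * y⁻¹ = 1 := by group
        rw [e]; exact one_mem _⟩
      mul_mem' := fun {a b} ha hb => ⟨mul_mem ha.1 hb.1, fun y hy => by
        have h1 := hR a ha.1 _ (hb.2 y hy)
        have h3 := mul_mem (hb.2 y hy) (ha.2 y hy)
        have e : a * b * y * (a * b)⁻¹ * y⁻¹ =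
          (a * (b * y * b⁻¹ * y⁻¹) * a⁻¹) * (a * y * a⁻¹ * y⁻¹) := by group
        rw [e, h1]; exact h3⟩
      inv_mem' := fun {a} ha => ⟨inv_mem ha.1, fun y hy => by
        have h1 := hR a⁻¹ (inv_mem ha.1) _ (inv_mem (ha.2 y hy))
        have e : a⁻¹ * y * a⁻¹⁻¹ * y⁻¹ = a⁻¹ * (a * y * a⁻¹ * y⁻¹)⁻¹ * a⁻¹⁻¹ := by group
        rw [e, h1]; exact inv_mem (ha.2 y hy)⟩ }
  have hN2 : ∀ x ∈ N, x * x ∈ Q := by
    intro x hx
    apply h.char2
    rw [mem_centralizer_iff]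
    intro y hy
    set r := x * y * x⁻¹ * y⁻¹ with hr
    have hrR : r ∈ R := hx.2 y hy
    have h1 : x * y * x⁻¹ = r * y := by rw [hr]; group
    have h3 := hR x hx.1 r hrR
    have h5 : x * x * y * (x * x)⁻¹ = y := by
      calc x * x * y * (x * x)⁻¹ = x * (x * y * x⁻¹) * x⁻¹ := by group
        _ = x * (r * y) * x⁻¹ := by rw [h1]
        _ = (x * r * x⁻¹) * (x * y * x⁻¹) := by group
        _ = r * r * y := by rw [h3, h1]; group
        _ = y := by rw [h.sp.r_sq hrR, one_mul]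
    calc y * (x * x) = (x * x * y * (x * x)⁻¹) * (x * x) := by rw [h5]
      _ = x * x * y := by group
  refine h.max N ?_ (fun x hx => hx.1) ?_ ⟨hc, ht⟩
  · intro x
    obtain ⟨m, hm⟩ := h.Q_two ⟨(x : G) * x, hN2 x x.2⟩
    refine ⟨m + 1, Subtype.ext ?_⟩
    have h1 := congrArg Subtype.val hm
    simp only [SubmonoidClass.coe_pow, OneMemClass.coe_one] at h1 ⊢
    rw [← h1, ← pow_two, ← pow_mul, pow_succ, mul_comm]
  · intro d hd x hx
    refine ⟨mul_mem (mul_mem hd hx.1) (inv_mem hd), fun y hy => ?_⟩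
    have h1 := hx.2 _ (h.nor_inv (h.CR_le_NR hd) hy)
    have e : d * x * d⁻¹ * y * (d * x * d⁻¹)⁻¹ * y⁻¹ =
      d * (x * (d⁻¹ * y * d) * x⁻¹ * (d⁻¹ * y * d)⁻¹) * d⁻¹ := by group
    rw [e, hR d hd _ h1]
    exact h1

/-- trivial on `E/R` -/
theorem triv_iff {s : G} (hs : s ∈ centralizer (R : Set G)) :
    (∀ b, ∃ a, s * v 0 b 0 * s⁻¹ = v a b 0) ↔ ∀ e ∈ V ⊓ Q, s * e * s⁻¹ * e⁻¹ ∈ R := by
  constructor
  · intro ht e he
    obtain ⟨a, b, rfl⟩ := h.mem_E.1 he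
    obtain ⟨a', ha'⟩ := ht b
    have e1 : v a b 0 = v a 0 0 * v 0 b 0 := by rw [← h.v_add, add_zero, zero_add, add_zero]
    have e2 : s * v a b 0 * s⁻¹ * (v a b 0)⁻¹ =
        (s * v a 0 0 * s⁻¹) * (s * v 0 b 0 * s⁻¹) * (v a b 0)⁻¹ := by rw [e1]; group
    rw [e2, h.CR_v hs, ha', h.v_inv, ← h.v_add, ← h.v_add]
    refine h.mem_R.2 ⟨a + a' + a, ?_⟩
    rw [zero_add, T.add_self (h2 := h.h2), add_zero, add_zero]
  · intro ht b
    have h1 := ht _ (h.mem_E.2 ⟨0, b, rfl⟩)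
    obtain ⟨a, ha⟩ := h.mem_R.1 h1
    refine ⟨a, ?_⟩
    have h3 : s * v 0 b 0 * s⁻¹ = v a 0 0 * v 0 b 0 := by rw [← ha]; group
    rw [h3, ← h.v_add, add_zero, zero_add, add_zero]

/-- **`Se`, the group form** -/
theorem Se_grp [Finite G] {c c' : G} (hc : c ∈ centralizer (R : Set G))
    (hc' : c' ∈ centralizer (R : Set G)) (hE : ∀ e ∈ V ⊓ Q, c * e * c⁻¹ ∈ V ⊓ Q)
    (hE' : ∀ e ∈ V ⊓ Q, c' * e * c'⁻¹ ∈ V ⊓ Q) (h2c : c * c ∈ Q) (h2c' : c' * c' ∈ Q)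
    (hcc : c * c' * c⁻¹ * c'⁻¹ ∈ Q) :
    (∀ e ∈ V ⊓ Q, c * e * c⁻¹ * e⁻¹ ∈ R) ∨ (∀ e ∈ V ⊓ Q, c' * e * c'⁻¹ * e⁻¹ ∈ R) ∨
      (∀ e ∈ V ⊓ Q, (c * c') * e * (c * c')⁻¹ * e⁻¹ ∈ R) := by
  classical
  -- normalisers, in a finite group
  have hnorm : ∀ (A : Subgroup G) (x : G), (∀ y ∈ A, x * y * x⁻¹ ∈ A) → x ∈ normalizer (A : Set G) := by
    intro A x hx
    have hinj : Function.Injective (fun y : A => (⟨x * y * x⁻¹, hx y y.2⟩ : A)) := by
      intro y z hyz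
      have h1 := congrArg Subtype.val hyz
      exact Subtype.ext (mul_left_cancel (mul_right_cancel h1))
    have hsurj := Finite.surjective_of_injective hinj
    rw [mem_normalizer_iff]
    intro y
    refine ⟨hx y, fun hy => ?_⟩
    obtain ⟨z, hz⟩ := hsurj ⟨_, hy⟩
    have h1 : x * (z : G) * x⁻¹ = x * y * x⁻¹ := congrArg Subtype.val hz
    have h3 : (z : G) = y := mul_left_cancel (mul_right_cancel h1)
    rw [← h3]; exact z.2
  have hcN := h.CR_le_NR hc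
  have hcN' := h.CR_le_NR hc'
  set E : Subgroup G := V ⊓ Q with hEdef
  let X : Subgroup G := normalizer (R : Set G) ⊓ normalizer (E : Set G)
  have hcX : c ∈ X := ⟨hcN, hnorm E c hE⟩
  have hcX' : c' ∈ X := ⟨hcN', hnorm E c' hE'⟩
  have hQX : Q ≤ X := by
    intro y hy
    refine ⟨h.CR_le_NR (h.Q_le_CR hy), hnorm E y ?_⟩
    intro e he
    obtain ⟨a, b, rfl⟩ := h.mem_E.1 he
    rw [h.act y hy, map_zero, mul_zero, mul_zero, add_zero, add_zero]
    exact h.mem_E.2 ⟨_, _, rfl⟩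
  have hSX : (S : Subgroup G) ≤ X := by
    intro s hs
    refine ⟨h.S_R hs, hnorm E s ?_⟩
    intro e he
    exact ⟨(mem_normalizer_iff.1 (h.S_V hs) e).1 he.1, h.nor s (h.S_R hs) e he.2⟩
  -- the 2-group
  have hz : ∀ x : G, x * x ∈ Q → IsPGroup 2 (zpowers x) := by
    intro x hx
    obtain ⟨m, hm⟩ := h.Q_two ⟨x * x, hx⟩
    have h1 : x ^ (2 ^ (m + 1)) = 1 := by
      have h1 := congrArg Subtype.val hm
      simp only [SubmonoidClass.coe_pow, OneMemClass.coe_one] at h1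
      rw [← h1, ← pow_two, ← pow_mul, pow_succ, mul_comm]
    rintro ⟨y, hy⟩
    obtain ⟨i, rfl⟩ := hy
    refine ⟨m + 1, Subtype.ext ?_⟩
    simp only [SubmonoidClass.coe_pow, OneMemClass.coe_one]
    rw [← zpow_natCast, zpow_comm, zpow_natCast, h1, one_zpow]
  let D1 : Subgroup G := zpowers c ⊔ Q
  have hD1 : IsPGroup 2 D1 := (hz c h2c).to_sup_of_normal_right' h.Q_two
    (by rw [zpowers_le]; exact h.NR_le_NQ hcN)
  have hcD1 : c ∈ D1 := le_sup_left (a := zpowers c) (mem_zpowers c)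
  have hc'D1 : c' ∈ normalizer (D1 : Set G) := by
    apply hnorm
    intro y hy
    have h1 : D1 ≤ D1.comap (MulAut.conj c').toMonoidHom := by
      refine sup_le ?_ ?_
      · rw [zpowers_le, mem_comap]
        have h3 : (MulAut.conj c').toMonoidHom c = (c * c' * c⁻¹ * c'⁻¹)⁻¹ * c := by
          simp only [MulEquiv.coe_toMonoidHom, MulAut.conj_apply]; group
        rw [h3]
        exact mul_mem (inv_mem (le_sup_right (a := zpowers c) hcc)) hcD1
      · intro q hq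
        rw [mem_comap]
        simp only [MulEquiv.coe_toMonoidHom, MulAut.conj_apply]
        exact le_sup_right (a := zpowers c) (h.nor c' hcN' q hq)
    have h3 := h1 hy
    rw [mem_comap] at h3
    simpa using h3
  let D : Subgroup G := zpowers c' ⊔ D1
  have hD : IsPGroup 2 D := (hz c' h2c').to_sup_of_normal_right' hD1
    (by rw [zpowers_le]; exact hc'D1)
  have hcD : c ∈ D := le_sup_right (a := zpowers c') hcD1
  have hc'D : c' ∈ D := le_sup_left (a := zpowers c') (mem_zpowers c')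
  have hDX : D ≤ X := by
    refine sup_le ?_ (sup_le ?_ hQX)
    · rw [zpowers_le]; exact hcX'
    · rw [zpowers_le]; exact hcX
  -- Sylow in `X`
  obtain ⟨P, hP⟩ := (hD.comap_subtype (K := X)).exists_le_sylow
  obtain ⟨x, hx⟩ := MulAction.exists_smul_eq X P (S.subtype hSX)
  have hconj : ∀ d ∈ D, (x : G) * d * (x : G)⁻¹ ∈ S := by
    intro d hd
    have h1 : (⟨d, hDX hd⟩ : X) ∈ P := hP (mem_subgroupOf.2 hd)
    have h3 : x * ⟨d, hDX hd⟩ * x⁻¹ ∈ (S.subtype hSX : Subgroup X) := by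
      rw [← hx, Sylow.coe_subgroup_smul]
      refine mem_map.2 ⟨_, h1, ?_⟩
      rfl
    exact h3
  have hxR : (x : G) ∈ normalizer (R : Set G) := x.2.1
  have hxE : (x : G) ∈ normalizer (E : Set G) := x.2.2
  have hconjC : ∀ d ∈ centralizer (R : Set G), (x : G) * d * (x : G)⁻¹ ∈ centralizer (R : Set G) := by
    intro d hd
    rw [mem_centralizer_iff] at hd ⊢
    intro r hr
    have h1 : (x : G)⁻¹ * r * x ∈ R := by
      have := (mem_normalizer_iff.1 (inv_mem hxR) r).1 hr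
      rwa [inv_inv] at this
    have h3 := hd _ h1
    calc r * (x * d * (x : G)⁻¹) = x * (((x : G)⁻¹ * r * x) * d) * (x : G)⁻¹ := by group
      _ = x * (d * ((x : G)⁻¹ * r * x)) * (x : G)⁻¹ := by rw [h3]
      _ = _ := by group
  have hback : ∀ d : G, (∀ e ∈ E, (x * d * (x : G)⁻¹) * e * (x * d * (x : G)⁻¹)⁻¹ * e⁻¹ ∈ R) →
      ∀ e ∈ E, d * e * d⁻¹ * e⁻¹ ∈ R := by
    intro d hd e he
    have h1 := hd _ ((mem_normalizer_iff.1 hxE e).1 he)
    have h3 : (x * d * (x : G)⁻¹) * (x * e * (x : G)⁻¹) * (x * d * (x : G)⁻¹)⁻¹ *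
        (x * e * (x : G)⁻¹)⁻¹ = x * (d * e * d⁻¹ * e⁻¹) * (x : G)⁻¹ := by group
    rw [h3] at h1
    exact (mem_normalizer_iff.1 hxR _).2 h1
  have hs := hconj c hcD
  have hs' := hconj c' hc'D
  have hsC := hconjC c hc
  have hsC' := hconjC c' hc'
  rcases h.S_2 _ hs hsC _ hs' hsC' with h1 | h1 | h1
  · exact Or.inl (hback c ((h.triv_iff hsC).1 h1))
  · exact Or.inr (Or.inl (hback c' ((h.triv_iff hsC').1 h1)))
  · refine Or.inr (Or.inr (hback (c * c') ?_))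
    have h3 := (h.triv_iff (mul_mem hsC hsC')).1 h1
    have e : (x : G) * (c * c') * (x : G)⁻¹ = x * c * (x : G)⁻¹ * (x * c' * (x : G)⁻¹) := by group
    rw [e]; exact h3

/-- an element of `C(R)` which is trivial on `W = Q/R` is in `Q` -/
theorem mem_Q_of_cj' {c : G} (hc : c ∈ centralizer (R : Set G)) (ht : ∀ w, h.cj c w = w) : c ∈ Q := by
  refine h.mem_Q_of_triv hc (fun y hy => ?_)
  have h1 := ht (h.sp.pr y)
  rw [h.cj_pr (h.CR_le_NR hc) hy, h.sp.pr_eq (h.nor c (h.CR_le_NR hc) y hy) hy] at h1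
  exact h1

/-- **`Se`, on `W = Q/R`** -/
theorem Se_cj [Finite G] {c c' : G} (hc : c ∈ centralizer (R : Set G))
    (hc' : c' ∈ centralizer (R : Set G)) (hcom : ∀ w, h.cj c (h.cj c' w) = h.cj c' (h.cj c w))
    (h2c : ∀ w, h.cj c (h.cj c w) = w) (h2c' : ∀ w, h.cj c' (h.cj c' w) = w)
    (hE : ∀ b, ∃ b', h.cj c (h.ep b) = h.ep b') (hE' : ∀ b, ∃ b', h.cj c' (h.ep b) = h.ep b') :
    (∀ b, h.cj c (h.ep b) = h.ep b) ∨ (∀ b, h.cj c' (h.ep b) = h.ep b) ∨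
      (∀ b, h.cj c (h.cj c' (h.ep b)) = h.ep b) := by
  have hcN := h.CR_le_NR hc
  have hcN' := h.CR_le_NR hc'
  -- the stabiliser of `e`
  have key : ∀ d ∈ centralizer (R : Set G), (∀ b, ∃ b', h.cj d (h.ep b) = h.ep b') →
      ∀ e ∈ V ⊓ Q, d * e * d⁻¹ ∈ V ⊓ Q := by
    intro d hd hdE e he
    obtain ⟨a, b, rfl⟩ := h.mem_E.1 he
    obtain ⟨b', hb'⟩ := hdE b
    rw [← h.pr_E a b, ← h.pr_E 0 b', h.cj_pr (h.CR_le_NR hd) (h.E_le a b),
      h.sp.pr_eq (h.nor d (h.CR_le_NR hd) _ (h.E_le a b)) (h.E_le 0 b')] at hb'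
    obtain ⟨a', ha'⟩ := h.mem_R.1 hb'
    refine h.mem_E.2 ⟨a', b', ?_⟩
    have h3 : d * v a b 0 * d⁻¹ = v a' 0 0 * v 0 b' 0 := by rw [← ha']; group
    rw [h3, ← h.v_add, add_zero, zero_add, add_zero]
  have key2 : ∀ d ∈ centralizer (R : Set G), (∀ e ∈ V ⊓ Q, d * e * d⁻¹ * e⁻¹ ∈ R) →
      ∀ b, h.cj d (h.ep b) = h.ep b := by
    intro d hd ht b
    obtain ⟨a, ha⟩ := (h.triv_iff hd).2 ht b
    unfold ep
    rw [h.cj_pr (h.CR_le_NR hd) (h.E_le 0 b), ha, h.pr_E]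
    rfl
  have h1 := h.Se_grp hc hc' (key c hc hE) (key c' hc' hE')
    (h.mem_Q_of_cj' (mul_mem hc hc) (fun w => by rw [h.cj_mul hcN hcN, h2c]))
    (h.mem_Q_of_cj' (mul_mem hc' hc') (fun w => by rw [h.cj_mul hcN' hcN', h2c']))
    (h.mem_Q_of_cj' (mul_mem (mul_mem (mul_mem hc hc') (inv_mem hc)) (inv_mem hc')) (fun w => by
      rw [h.cj_mul (mul_mem (mul_mem hcN hcN') (inv_mem hcN)) (inv_mem hcN'),
        h.cj_mul (mul_mem hcN hcN') (inv_mem hcN), h.cj_mul hcN hcN', hcom,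
        h.cj_cj_inv hcN, h.cj_cj_inv hcN']))
  rcases h1 with h1 | h1 | h1
  · exact Or.inl (key2 c hc h1)
  · exact Or.inr (Or.inl (key2 c' hc' h1))
  · refine Or.inr (Or.inr (fun b => ?_))
    have := key2 (c * c') (mul_mem hc hc') h1 b
    rwa [h.cj_mul hcN hcN'] at this

end GIn

end Cfsg.Agent.Omega.NOne.SU
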