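import Cfsg.Agent.Omega.NOne.SU.HermG

/-!
# THEOREM UNI, section 5: `Omega` is the set of all isotropic points

`Sw o` : the output of sections 1-3.
-/

set_option autoImplicit false
set_option linter.unusedSectionVars false

namespace Cfsg.Agent.Omega.NOne.SU

open Quad

namespace Uni

variable {k F M Φ : Type*} [Field k] [Field F] [Algebra k F] [AddCommGroup M] [Module k M]
    [AddCommGroup Φ] [Module k Φ] [Module F Φ]

/-- **Output of sections 1-3.** -/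
structure Sw {D : Uni k F M Φ} (o : D.OppV) : Prop where
  w : ∀ b : k, ∃ w ∈ D.H, (∀ a, w (D.ε a) = D.ε a + b • o.v a) ∧ (∀ s, w (o.v s) = o.v s) ∧
    ∀ m, D.B m = 0 → (∀ s, D.f (o.v s) m = 0) → w m = m
  pos : ∀ g ∈ D.H, (∀ c, D.B (g (D.ε c)) = 0) ∨ (∀ c, D.B (g (D.ε c)) = 0 → c = 0)
  trans : ∀ g ∈ D.H, (∀ c, D.B (g (D.ε c)) = 0 → c = 0) →
    ∃ j ∈ D.J, ∀ s, ∃ s', j (o.v s) = g (D.ε s')

variable {D : Uni k F M Φ} [CharP k 2] [Finite k] [Finite F] {o : D.OppV}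

/-- the swap of `e` and `e'` -/
theorem Sw.swap (S : Sw o) : ∃ s1 ∈ D.H, (∀ a, s1 (D.ε a) = o.v a) ∧ (∀ b, s1 (o.v b) = D.ε b) ∧
    ∀ x, s1 (uo o x) = uo o x := by
  obtain ⟨w, hw, w1, w2, w3⟩ := S.w 1
  obtain ⟨n, hn, h⟩ := D.Jn 1
  have nε : ∀ a, n (D.ε a) = D.ε a := fun a => D.Je n hn a
  have nu : ∀ x, n (uo o x) = uo o x := fun x => by rw [h, Bu, smul_zero, map_zero, add_zero]
  have nv : ∀ b, n (o.v b) = o.v b + D.ε b := fun b => by rw [h, o.Bv, one_smul]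
  have wu : ∀ x, w (uo o x) = uo o x := fun x => w3 _ (Bu o x) fun s => vu o s x
  refine ⟨n * w * n, mul_mem (mul_mem (D.J_le hn) hw) (D.J_le hn), fun a => ?_, fun b => ?_,
    fun x => ?_⟩
  · rw [LinearEquiv.mul_apply, LinearEquiv.mul_apply, nε, w1, one_smul, map_add, nε, nv]
    rw [← add_assoc, add_right_comm, add_selfM k, zero_add]
  · rw [LinearEquiv.mul_apply, LinearEquiv.mul_apply, nv, map_add, w2, w1, one_smul, ← add_assoc,
      add_right_comm, add_selfM k, zero_add, nε]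
  · rw [LinearEquiv.mul_apply, LinearEquiv.mul_apply, nu, wu, nu]

variable [Module F M] (hF : IsF o)

/-- the `F`-linear elements of `H`. -/
def HF (D : Uni k F M Φ) : Subgroup (M ≃ₗ[k] M) where
  carrier := {h | h ∈ D.H ∧ ∀ (s : F) m, h (s • m) = s • h m}
  mul_mem' := fun {a b} ha hb => ⟨mul_mem ha.1 hb.1, fun s m => by
    rw [LinearEquiv.mul_apply, hb.2, ha.2, LinearEquiv.mul_apply]⟩
  one_mem' := ⟨one_mem _, fun _ _ => rfl⟩
  inv_mem' := fun {a} ha => ⟨inv_mem ha.1, fun s m => by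
    apply a.injective
    have h1 : ∀ x, a (a⁻¹ x) = x := fun x => by
      rw [← LinearEquiv.mul_apply, mul_inv_cancel]; rfl
    rw [h1, ha.2, h1]⟩

theorem HF_le : HF D ≤ D.H := fun _ h => h.1

theorem HF_smul {h : M ≃ₗ[k] M} (hh : h ∈ HF D) (s : F) (m : M) : h (s • m) = s • h m := hh.2 s m

theorem apply_inv (a : M ≃ₗ[k] M) (x : M) : a (a⁻¹ x) = x := by
  rw [← LinearEquiv.mul_apply, mul_inv_cancel]; rfl

theorem inv_apply (a : M ≃ₗ[k] M) (x : M) : a⁻¹ (a x) = x := by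
  rw [← LinearEquiv.mul_apply, inv_mul_cancel]; rfl

namespace IsF

include hF

theorem J_le_HF : D.J ≤ HF D := fun _ hj => ⟨D.J_le hj, hF.J_smul hj⟩

theorem HF_gf {h : M ≃ₗ[k] M} (hh : h ∈ HF D) (m m' : M) : gf o (h m) (h m') = gf o m m' :=
  hF.isom hh.2 (D.isom h hh.1) m m'

theorem swap (S : Sw o) : ∃ s1 ∈ HF D, (∀ a, s1 (D.ε a) = o.v a) ∧ (∀ b, s1 (o.v b) = D.ε b) ∧
    ∀ x, s1 (uo o x) = uo o x := by
  obtain ⟨s1, h, h1, h2, h3⟩ := S.swap
  refine ⟨s1, ⟨h, ?_⟩, h1, h2, h3⟩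
  refine hF.ext_smul (fun s a => ?_) (fun s x => ?_) (fun s b => ?_)
  · rw [hF.hε, h1, h1, hF.hv]
  · rw [hF.hu, h3, h3, hF.hu]
  · rw [hF.hv, h2, h2, hF.hε]

/-- (a) `J` is transitive on the isotropic vectors with given nonzero `B`. -/
theorem J_trans {m : M} (h1 : D.B m = 1) (h2 : gf o m m = 0) :
    ∃ j ∈ D.J, ∀ b, j (o.v b) = b • m := by
  obtain ⟨j, hj, hx⟩ := D.Jall (co o m).2.1
  have hm := eq_psi o m
  rw [co_B, h1] at hm
  have hjv := J_v o hj 1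
  rw [one_smul, hx] at hjv
  have hiso : gf o (j (o.v 1)) (j (o.v 1)) = 0 := by
    rw [hF.HF_gf (hF.J_le_HF hj), gf_vv]
  have e1 : ∀ c : F, gf o (D.ε c + (uo o (co o m).2.1 + o.v 1)) (D.ε c + (uo o (co o m).2.1 + o.v 1))
      = algebraMap k F (D.tr c) + D.hm (co o m).2.1 (co o m).2.1 := by
    intro c
    have e2 : co o (D.ε c + (uo o (co o m).2.1 + o.v 1)) = (c, (co o m).2.1, 1) := by
      rw [← psi_apply, co_psi]
    rw [gf, e2, D.tr_eq]
    simp only [map_one, mul_one, one_mul]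
  have h3 : gf o (D.ε (co o m).1 + (uo o (co o m).2.1 + o.v 1))
      (D.ε (co o m).1 + (uo o (co o m).2.1 + o.v 1)) = 0 := by rw [← hm]; exact h2
  rw [hjv, e1] at hiso
  rw [e1] at h3
  have h4 : D.tr ((co o m).1 - rho o j 1) = 0 := by
    rw [map_sub, sub_eq_zero]
    apply algebraMap_inj (F := F)
    exact add_right_cancel (h3.trans hiso.symm)
  obtain ⟨a, ha⟩ := D.exists_of_tr_eq_zero h4
  obtain ⟨n, hn, hna⟩ := D.Jn a
  have h5 : (n * j) (o.v 1) = m := by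
    rw [LinearEquiv.mul_apply, hna, D.J_B hj, o.Bv, ← Algebra.algebraMap_eq_smul_one, ha, hjv,
      add_comm, ← add_assoc, ← map_add, sub_add_cancel]
    exact hm.symm
  refine ⟨n * j, mul_mem hn hj, fun b => ?_⟩
  have h6 : o.v b = b • o.v 1 := by rw [hF.hv, mul_one]
  rw [h6, hF.J_smul (mul_mem hn hj), h5]

/-- (b) for `B m ≠ 0`. -/
theorem pt_of_B (S : Sw o) {m : M} (h1 : D.B m ≠ 0) (h2 : gf o m m = 0) :
    ∃ h ∈ HF D, h (D.ε (D.B m)) = m := by
  obtain ⟨s1, hs, s1ε, -, -⟩ := hF.swap S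
  obtain ⟨j, hj, h⟩ := hF.J_trans (m := (D.B m)⁻¹ • m)
    (by rw [hF.B_smul, inv_mul_cancel₀ h1])
    (by rw [hF.gf_smul, hF.gf_smul_right, h2, mul_zero, mul_zero])
  refine ⟨j * s1, mul_mem (hF.J_le_HF hj) hs, ?_⟩
  rw [LinearEquiv.mul_apply, s1ε, h, smul_smul, mul_inv_cancel₀ h1, one_smul]

/-- **(b) Every isotropic vector is in an `HF`-conjugate of `e`.** -/
theorem pt (S : Sw o) {m : M} (h2 : gf o m m = 0) : ∃ h ∈ HF D, ∃ c, h (D.ε c) = m := by
  by_cases h1 : D.B m = 0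
  · by_cases h3 : (co o m).2.1 = 0
    · refine ⟨1, one_mem _, (co o m).1, ?_⟩
      have hm := eq_psi o m
      rw [co_B, h1, h3, map_zero, map_zero, add_zero, add_zero] at hm
      exact hm.symm
    · obtain ⟨s1, hs, s1ε, s1v, s1u⟩ := hF.swap S
      obtain ⟨x, hx⟩ : ∃ x, (co o m).1 + D.hm (co o m).2.1 x ≠ 0 := by
        by_cases h4 : (co o m).1 = 0
        · by_contra hcon
          push Not at hcon
          apply h3
          apply D.hm_nondeg
          intro x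
          have := hcon x
          rwa [h4, zero_add] at this
        · exact ⟨0, by rwa [D.hm_zero_right, add_zero]⟩
      obtain ⟨j, hj, rfl⟩ := D.Jall x
      have hm := eq_psi o m
      rw [co_B, h1, map_zero, add_zero] at hm
      have h5 : (s1 * j) m = uo o (co o m).2.1 + o.v ((co o m).1 + D.hm (co o m).2.1 (D.χ j)) := by
        rw [LinearEquiv.mul_apply]
        conv_lhs => rw [hm]
        rw [map_add j, D.Je j hj, J_u o hj, map_add, map_add, s1ε, s1u, s1ε, map_add]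
        abel
      have hsj : s1 * j ∈ HF D := mul_mem hs (hF.J_le_HF hj)
      have h6 : D.B ((s1 * j) m) ≠ 0 := by
        rw [h5, map_add, Bu, zero_add, o.Bv]
        exact hx
      obtain ⟨h, hh, h7⟩ := hF.pt_of_B S h6 (by rw [hF.HF_gf hsj, h2])
      refine ⟨(s1 * j)⁻¹ * h, mul_mem (inv_mem hsj) hh, D.B ((s1 * j) m), ?_⟩
      rw [LinearEquiv.mul_apply, h7, inv_apply]
  · obtain ⟨h, hh, h3⟩ := hF.pt_of_B S h1 h2
    exact ⟨h, hh, _, h3⟩

/-- `f` is zero on the conjugates only for zero. -/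
theorem eq_zero_of_HF (S : Sw o) {m : M} (h : ∀ g ∈ HF D, ∀ c, D.f (g (D.ε c)) m = 0) : m = 0 := by
  obtain ⟨s1, hs, s1ε, -, -⟩ := hF.swap S
  have h1 : ∀ c, D.f (D.ε c) m = 0 := fun c => h 1 (one_mem _) c
  have h2 : ∀ j ∈ D.J, ∀ b, D.f (j (o.v b)) m = 0 := fun j hj b => by
    have := h (j * s1) (mul_mem (hF.J_le_HF hj) hs) b
    rwa [LinearEquiv.mul_apply, s1ε] at this
  have h3 : ∀ b, D.f (o.v b) m = 0 := fun b => h2 1 (one_mem _) b
  have h4 : ∀ x, D.f (uo o x) m = 0 := fun x => by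
    obtain ⟨j, hj, rfl⟩ := D.Jall x
    have h5 := h2 j hj 1
    rw [J_v o hj, map_add, map_add, LinearMap.add_apply, LinearMap.add_apply, h1, h3, zero_add,
      add_zero, one_smul] at h5
    exact h5
  apply D.nondeg
  intro w
  rw [D.f_symm, eq_psi o w, map_add, map_add, LinearMap.add_apply, LinearMap.add_apply, h1, h3, h4,
    zero_add, add_zero]

/-- **(c) Every conjugate of `e` under `H` is one under `HF`.** -/
theorem conj (S : Sw o) {g : M ≃ₗ[k] M} (hg : g ∈ D.H) :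
    ∃ h ∈ HF D, ∀ c, ∃ c', g (D.ε c) = h (D.ε c') := by
  by_cases hcon : ∀ h ∈ HF D, ∀ c, D.B (h⁻¹ (g (D.ε c))) = 0
  · exfalso
    have h1 : g (D.ε 1) = 0 := by
      apply hF.eq_zero_of_HF S
      intro h hh c
      have h2 := D.fe c (h⁻¹ (g (D.ε 1)))
      rw [hcon h hh, map_zero, mul_zero, map_zero, ← D.isom h hh.1, apply_inv] at h2
      exact h2
    have h2 : D.ε 1 = 0 := by
      apply g.injective
      rw [h1, map_zero]
    exact one_ne_zero (D.ε_inj (h2.trans (map_zero _).symm))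
  · push Not at hcon
    obtain ⟨h, hh, c, hc⟩ := hcon
    have hgh : h⁻¹ * g ∈ D.H := mul_mem (inv_mem hh.1) hg
    rcases S.pos _ hgh with h1 | h1
    · exact (hc (h1 c)).elim
    · obtain ⟨j, hj, h2⟩ := S.trans _ hgh h1
      choose φ hφ using h2
      have hinj : Function.Injective φ := fun a b hab => by
        have h3 := (hφ a).trans ((congrArg (fun c => (h⁻¹ * g) (D.ε c)) hab).trans (hφ b).symm)
        have h4 := j.injective h3
        have h5 := congrArg D.B h4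
        rwa [o.Bv, o.Bv] at h5
      obtain ⟨s1, hs, s1ε, -, -⟩ := hF.swap S
      refine ⟨h * j * s1, mul_mem (mul_mem hh (hF.J_le_HF hj)) hs, fun c => ?_⟩
      obtain ⟨c', rfl⟩ := (Finite.injective_iff_surjective.1 hinj) c
      refine ⟨c', ?_⟩
      rw [LinearEquiv.mul_apply, LinearEquiv.mul_apply, s1ε, hφ, LinearEquiv.mul_apply, apply_inv]

/-- **(d) All unitary transvections are in `H`.** -/
theorem transv (S : Sw o) {m0 : M} (h0 : gf o m0 m0 = 0) (a : k) :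
    ∃ h ∈ HF D, ∀ m, h m = m + a • gf o m m0 • m0 := by
  obtain ⟨h, hh, c, rfl⟩ := hF.pt S h0
  obtain ⟨n, hn, hna⟩ := D.Jn (a * D.nm c)
  refine ⟨h * n * h⁻¹, mul_mem (mul_mem hh (hF.J_le_HF hn)) (inv_mem hh), fun m => ?_⟩
  have h1 : gf o m (h (D.ε c)) = D.B (h⁻¹ m) * D.sg c := by
    conv_lhs => rw [← apply_inv h m]
    rw [hF.HF_gf hh, gf_ε]
  rw [LinearEquiv.mul_apply, LinearEquiv.mul_apply, hna, map_add, apply_inv, h1]
  congr 1
  have h2 : (a * D.nm c) • D.B (h⁻¹ m) = a • (D.B (h⁻¹ m) * D.sg c * c) := by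
    rw [mul_smul, Algebra.smul_def (D.nm c), D.nm_eq]
    congr 1
    ring
  rw [h2, ← HF_smul hh, ← map_smul h, hF.hε, map_smul D.ε]

/-- **(e) `J` is the group of all `F`-linear isometries trivial on `e`, `e^⊥/e`, `M/e^⊥`.** -/
theorem mem_J {ζ : M ≃ₗ[k] M} (h1 : ∀ (s : F) m, ζ (s • m) = s • ζ m)
    (h2 : ∀ m m', D.f (ζ m) (ζ m') = D.f m m') (h3 : ∀ c, ζ (D.ε c) = D.ε c)
    (h4 : ∀ m, D.B m = 0 → ∃ c, ζ m - m = D.ε c) (h5 : ∀ m, D.B (ζ m) = D.B m) : ζ ∈ D.J := by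
  have hg := hF.isom h1 h2
  obtain ⟨j, hj, h6⟩ := hF.J_trans (m := ζ (o.v 1)) (by rw [h5, o.Bv]) (by rw [hg, gf_vv])
  have h7 : ∀ b, j (o.v b) = ζ (o.v b) := fun b => by
    rw [h6, ← h1, hF.hv, mul_one]
  have h8 : ∀ x, j⁻¹ (ζ (uo o x)) = uo o x := fun x => by
    obtain ⟨c, hc⟩ := h4 _ (Bu o x)
    have h9 : ζ (uo o x) = uo o x + D.ε c := by rw [← hc]; abel
    have h10 : j⁻¹ (ζ (uo o x)) = uo o x + D.ε (D.hm x (D.χ j⁻¹) + c) := by
      rw [h9, map_add, J_u o (inv_mem hj), D.Je _ (inv_mem hj), map_add, add_assoc]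
    have h11 : D.hm x (D.χ j⁻¹) + c = 0 := by
      apply D.tr_nondegH'
      intro s
      have h12 : D.f (j⁻¹ (ζ (uo o x))) (o.v s) = 0 := by
        rw [← D.isom j (D.J_le hj), apply_inv, h7, h2, D.f_symm, vu]
      rw [h10, map_add, LinearMap.add_apply, D.f_symm (uo o x), vu, zero_add, f_ε_v] at h12
      exact h12
    rw [h10, h11, map_zero, add_zero]
  have h13 : ζ = j := by
    ext m
    refine ext_on o (φ := ζ.toLinearMap.toAddMonoidHom) (ψ := j.toLinearMap.toAddMonoidHom)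
      (fun a => ?_) (fun x => ?_) (fun b => ?_) m
    · change ζ _ = j _
      rw [h3, D.Je j hj]
    · change ζ _ = j _
      rw [← apply_inv j (ζ (uo o x)), h8]
    · change ζ _ = j _
      rw [h7]
  rw [h13]
  exact hj

end IsF

end Uni

end Cfsg.Agent.Omega.NOne.SU
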