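import Mathlib.FieldTheory.Finite.Basic
import Cfsg.Agent.Omega.NOne.SU.HermPts

/-!
# THEOREM UNI, section 5: the transvection group and semilinearity

* `HT D` : the group generated by the conjugates of the `N_a`; it is transitive on isotropic points.
* `semi` : additive maps normalising `H`, preserving `f` up to a function and mapping `e` to a
  conjugate, semilinear on `e`, are semilinear similitudes of `(M, g)`;
* `semi_ε` : they are semilinear on `e` if `Φ ≠ 0`.
-/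

set_option autoImplicit false
set_option linter.unusedSectionVars false

namespace Cfsg.Agent.Omega.NOne.SU

open Quad

namespace Quad

variable {k F : Type*} [Field k] [Field F] [Algebra k F] (Q : Quad k F) [CharP k 2]

theorem sg_pow [Finite k] (x : F) : Q.sg x = x ^ Nat.card k := by
  have : Fintype k := Fintype.ofFinite k
  have h0 : ∀ y : F, FiniteField.frobeniusAlgHom k F y = y ^ Nat.card k := fun y => by
    rw [Nat.card_eq_fintype_card]; rfl
  have hc : (2 : F) = 0 := by have := charF k F; exact CharTwo.two_eq_zero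
  by_cases hx : Q.sg x = x
  · obtain ⟨a, rfl⟩ := Q.fix x hx
    rw [Q.sg_algebraMap, ← map_pow, Nat.card_eq_fintype_card, FiniteField.pow_card]
  · have h1 : (x ^ Nat.card k - x) * (x ^ Nat.card k - Q.sg x) = 0 := by
      have h2 : x * x - algebraMap k F (Q.tr x) * x + algebraMap k F (Q.nm x) = 0 := by
        rw [Q.tr_eq, Q.nm_eq]; ring
      have h3 := congrArg (FiniteField.frobeniusAlgHom k F) h2
      rw [map_add, map_sub, map_mul, map_mul, map_zero, AlgHom.commutes, AlgHom.commutes, h0,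
        Q.tr_eq, Q.nm_eq] at h3
      linear_combination h3
    rcases mul_eq_zero.1 h1 with h | h
    · exfalso
      rw [sub_eq_zero] at h
      -- the elements of `k` and `x` are `q + 1` roots of `X ^ q = X`
      have hq : 1 < Nat.card k := by have := Q.four; omega
      have hne : (Polynomial.X ^ Nat.card k - Polynomial.X : Polynomial F) ≠ 0 :=
        FiniteField.X_pow_card_sub_X_ne_zero F hq
      have hdeg : (Polynomial.X ^ Nat.card k - Polynomial.X : Polynomial F).natDegree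
          = Nat.card k := FiniteField.X_pow_card_sub_X_natDegree_eq F hq
      have hroots : ∀ y : F, y ^ Nat.card k = y →
          y ∈ (Polynomial.X ^ Nat.card k - Polynomial.X : Polynomial F).roots := fun y hy => by
        rw [Polynomial.mem_roots hne, Polynomial.IsRoot.def, Polynomial.eval_sub,
          Polynomial.eval_pow, Polynomial.eval_X, hy, sub_self]
      classical
      let s : Finset F := insert x (Finset.univ.image (algebraMap k F))
      have hxs : x ∉ Finset.univ.image (algebraMap k F) := by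
        intro hxm
        obtain ⟨a, -, ha⟩ := Finset.mem_image.1 hxm
        exact hx (by rw [← ha, Q.sg_algebraMap])
      have hs : s ⊆ (Polynomial.X ^ Nat.card k - Polynomial.X : Polynomial F).roots.toFinset := by
        intro y hy
        rw [Multiset.mem_toFinset]
        apply hroots
        rcases Finset.mem_insert.1 hy with rfl | hy
        · exact h
        · obtain ⟨a, -, rfl⟩ := Finset.mem_image.1 hy
          rw [← map_pow, Nat.card_eq_fintype_card, FiniteField.pow_card]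
      have h4 := Finset.card_le_card hs
      rw [Finset.card_insert_of_notMem hxs, Finset.card_image_of_injective _
        (algebraMap k F).injective, Finset.card_univ, ← Nat.card_eq_fintype_card] at h4
      have h5 := (Multiset.toFinset_card_le
        (Polynomial.X ^ Nat.card k - Polynomial.X : Polynomial F).roots)
      have h6 := Polynomial.card_roots' (Polynomial.X ^ Nat.card k - Polynomial.X : Polynomial F)
      omega
    · exact (sub_eq_zero.1 h).symm

theorem map_sg [Finite k] (σ : F →+* F) (x : F) : σ (Q.sg x) = Q.sg (σ x) := by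
  rw [Q.sg_pow, Q.sg_pow, map_pow]

include Q in
/-- the restriction of `σ` to `k` -/
theorem exists_res [Finite k] (σ : F →+* F) (a : k) : ∃ b : k, algebraMap k F b = σ (algebraMap k F a) :=
  Q.fix _ (by rw [← Q.map_sg, Q.sg_algebraMap])

end Quad

namespace Uni

variable {k F M Φ : Type*} [Field k] [Field F] [Algebra k F] [AddCommGroup M] [Module k M]
    [AddCommGroup Φ] [Module k Φ] [Module F Φ]

/-- the group generated by the conjugates of the `N_a` -/
def HT (D : Uni k F M Φ) : Subgroup (M ≃ₗ[k] M) :=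
  Subgroup.closure {τ | ∃ g ∈ D.H, ∃ n ∈ D.J, (∃ a : k, ∀ m, n m = m + D.ε (a • D.B m)) ∧
    τ = g * n * g⁻¹}

theorem HT_le (D : Uni k F M Φ) : D.HT ≤ D.H := by
  rw [HT, Subgroup.closure_le]
  rintro _ ⟨g, hg, n, hn, -, rfl⟩
  exact mul_mem (mul_mem hg (D.J_le hn)) (inv_mem hg)

variable {D : Uni k F M Φ} [CharP k 2] [Finite k] [Finite F] {o : D.OppV}
variable [Module F M] (hF : IsF o)

namespace IsF

include hF

/-- all unitary transvections are in `HT` and in `HF`. -/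
theorem transvT (S : Sw o) {m0 : M} (h0 : gf o m0 m0 = 0) (a : k) :
    ∃ h ∈ HF D, h ∈ HT D ∧ ∀ m, h m = m + a • gf o m m0 • m0 := by
  obtain ⟨h, hh, c, rfl⟩ := hF.pt S h0
  obtain ⟨n, hn, hna⟩ := D.Jn (a * D.nm c)
  refine ⟨h * n * h⁻¹, mul_mem (mul_mem hh (hF.J_le_HF hn)) (inv_mem hh),
    Subgroup.subset_closure ⟨h, hh.1, n, hn, ⟨_, hna⟩, rfl⟩, fun m => ?_⟩
  have h1 : gf o m (h (D.ε c)) = D.B (h⁻¹ m) * D.sg c := by
    conv_lhs => rw [← apply_inv h m]
    rw [hF.HF_gf hh, gf_ε]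
  rw [LinearEquiv.mul_apply, LinearEquiv.mul_apply, hna, map_add, apply_inv, h1]
  congr 1
  have h2 : (a * D.nm c) • D.B (h⁻¹ m) = a • (D.B (h⁻¹ m) * D.sg c * c) := by
    rw [mul_smul, Algebra.smul_def (D.nm c), D.nm_eq]
    congr 1
    ring
  rw [h2, ← HF_smul hh, ← map_smul h, hF.hε, map_smul D.ε]

/-- non-perpendicular isotropic vectors are conjugate up to scalars. -/
theorem nonperp (S : Sw o) {m1 m2 : M} (h1 : gf o m1 m1 = 0) (h2 : gf o m2 m2 = 0)
    (h : gf o m1 m2 ≠ 0) : ∃ t ∈ HT D, t ∈ HF D ∧ ∃ c : F, c ≠ 0 ∧ t m1 = c • m2 := by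
  set c : F := D.sg (gf o m1 m2)⁻¹ with hc
  have hc0 : c ≠ 0 := by
    rw [hc, Ne, map_eq_zero]
    exact inv_ne_zero h
  have h3 : gf o m1 (c • m2) = 1 := by
    rw [hF.gf_smul_right, hc, D.sg_sg, inv_mul_cancel₀ h]
  have h4 : gf o (c • m2) (c • m2) = 0 := by
    rw [hF.gf_smul, hF.gf_smul_right, h2, mul_zero, mul_zero]
  obtain ⟨t1, a1, b1, e1⟩ := hF.transvT S h1 1
  obtain ⟨t2, a2, b2, e2⟩ := hF.transvT S h4 1
  refine ⟨t1 * t2, mul_mem b1 b2, mul_mem a1 a2, c, hc0, ?_⟩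
  have h5 : t2 m1 = m1 + c • m2 := by rw [e2, h3, one_smul, one_smul]
  have h6 : t1 m1 = m1 := by rw [e1, h1, zero_smul, smul_zero, add_zero]
  have h7 : t1 (c • m2) = c • m2 + m1 := by
    rw [e1, gf_sym, h3, map_one, one_smul, one_smul]
  rw [LinearEquiv.mul_apply, h5, map_add, h6, h7, add_comm (c • m2), ← add_assoc, add_selfM k,
    zero_add]

/-- `HT` is transitive on isotropic points. -/
theorem ptT (S : Sw o) {m : M} (h2 : gf o m m = 0) (h0 : m ≠ 0) :
    ∃ h ∈ HT D, h ∈ HF D ∧ ∃ c : F, c ≠ 0 ∧ h (D.ε c) = m := by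
  have key : ∀ {w w' : M}, gf o w w = 0 → gf o w' w' = 0 → gf o w w' ≠ 0 →
      (∃ h ∈ HT D, h ∈ HF D ∧ ∃ c : F, c ≠ 0 ∧ h (D.ε c) = w) →
      ∃ h ∈ HT D, h ∈ HF D ∧ ∃ c : F, c ≠ 0 ∧ h (D.ε c) = w' := by
    rintro w w' hw hw' hne ⟨h, ht, hf, c, hc, rfl⟩
    obtain ⟨t, ht', hf', c', hc', he⟩ := hF.nonperp S hw hw' hne
    refine ⟨t * h, mul_mem ht' ht, mul_mem hf' hf, c'⁻¹ * c, mul_ne_zero (inv_ne_zero hc') hc, ?_⟩
    rw [LinearEquiv.mul_apply, ← hF.hε, hf.2, hf'.2, he, smul_smul, inv_mul_cancel₀ hc', one_smul]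
  have hε : ∃ h ∈ HT D, h ∈ HF D ∧ ∃ c : F, c ≠ 0 ∧ h (D.ε c) = D.ε 1 :=
    ⟨1, one_mem _, one_mem _, 1, one_ne_zero, rfl⟩
  by_cases h1 : D.B m = 0
  · have hm := eq_psi o m
    rw [co_B, h1, map_zero, add_zero] at hm
    by_cases h3 : (co o m).2.1 = 0
    · rw [h3, map_zero, add_zero] at hm
      refine ⟨1, one_mem _, one_mem _, (co o m).1, fun h => h0 ?_, hm.symm⟩
      rw [hm, h, map_zero]
    · obtain ⟨x, hx⟩ : ∃ x, (co o m).1 + D.hm (co o m).2.1 x ≠ 0 := by
        by_cases h4 : (co o m).1 = 0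
        · by_contra hcon
          push Not at hcon
          apply h3
          apply D.hm_nondeg
          intro x
          have := hcon x
          rwa [h4, zero_add] at this
        · exact ⟨0, by rwa [D.hm_zero_right, add_zero]⟩
      obtain ⟨j, hj, rfl⟩ := D.Jall x
      have hji := inv_mem hj
      have hw : gf o (j⁻¹ (o.v 1)) (j⁻¹ (o.v 1)) = 0 := by
        rw [hF.HF_gf (hF.J_le_HF hji), gf_vv]
      have h5 : gf o (D.ε 1) (j⁻¹ (o.v 1)) ≠ 0 := by
        rw [gf_sym, gf_ε, D.J_B hji, o.Bv, map_one, mul_one, map_one]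
        exact one_ne_zero
      have h6 : gf o (j⁻¹ (o.v 1)) m ≠ 0 := by
        rw [← hF.HF_gf (hF.J_le_HF hj), apply_inv, gf_sym, gf_v, map_one, mul_one, Ne,
          map_eq_zero]
        have h7 : j m = D.ε ((co o m).1 + D.hm (co o m).2.1 (D.χ j)) + uo o (co o m).2.1 := by
          conv_lhs => rw [hm]
          rw [map_add j, D.Je j hj, J_u o hj, map_add]
          abel
        rw [h7, map_add, co_ε, co_u]
        simpa using hx
      exact key hw h2 h6 (key (gf_εε o 1 1) hw h5 hε)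
  · refine key (gf_εε o 1 1) h2 ?_ hε
    rw [gf_sym, gf_ε, map_one, mul_one, Ne, map_eq_zero]
    exact h1

/-! ### semilinearity -/

/-- The hypotheses on an additive map normalising `H` and fixing `e`. -/
structure _root_.Cfsg.Agent.Omega.NOne.SU.Uni.Nor (D : Uni k F M Φ) (ζ : M ≃+ M) (l : k → k) :
    Prop where
  H : ∀ g ∈ D.H, ∃ g' ∈ D.H, ∀ m, ζ (g m) = g' (ζ m)
  f : ∀ m m', D.f (ζ m) (ζ m') = l (D.f m m')
  l0 : ∀ a, l a = 0 → a = 0
  e : ∀ c, ∃ c', ζ (D.ε c) = D.ε c'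

variable {ζ : M ≃+ M} {l : k → k} (hζ : D.Nor ζ l)

include hζ

theorem l_zero : l 0 = 0 := by
  have := hζ.f 0 0
  rw [map_zero ζ, map_zero (D.f 0)] at this
  exact this.symm

theorem e_surj (c : F) : ∃ c', ζ (D.ε c') = D.ε c := by
  choose φ hφ using hζ.e
  have hinj : Function.Injective φ := fun a b hab =>
    D.ε_inj (ζ.injective ((hφ a).trans ((congrArg D.ε hab).trans (hφ b).symm)))
  obtain ⟨c', rfl⟩ := (Finite.injective_iff_surjective.1 hinj) c
  exact ⟨c', hφ c'⟩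

theorem B_iff (m : M) : D.B (ζ m) = 0 ↔ D.B m = 0 := by
  have key : ∀ m, D.B m = 0 ↔ ∀ c, D.f (D.ε c) m = 0 := fun m =>
    ⟨fun h c => by rw [D.fe, h, map_zero, mul_zero, map_zero], fun h => by
      have h1 : D.sg (D.B m) = 0 := D.tr_nondegH fun c => by
        rw [mul_comm, ← D.fe, h]
      rwa [map_eq_zero] at h1⟩
  rw [key, key]
  constructor
  · intro h c
    obtain ⟨c', hc'⟩ := hζ.e c
    apply hζ.l0
    rw [← hζ.f, hc', h]
  · intro h c
    obtain ⟨c', hc'⟩ := hF.e_surj hζ c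
    rw [← hc', hζ.f, h, hF.l_zero hζ]

/-- `ζ` on `M/P`. -/
theorem B_congr {m m' : M} (h : D.B m = D.B m') : D.B (ζ m) = D.B (ζ m') := by
  rw [← sub_eq_zero, ← map_sub, ← map_sub, hF.B_iff hζ, map_sub, h, sub_self]

/-- `ζ` normalises `J`. -/
theorem conjJ {j : M ≃ₗ[k] M} (hj : j ∈ D.J) : ∃ j' ∈ D.J, ∀ m, ζ (j m) = j' (ζ m) := by
  obtain ⟨g', hg', h⟩ := hζ.H j (D.J_le hj)
  refine ⟨g', D.Jmax g' hg' (fun c => ?_) (fun m hm => ?_) (fun m => ?_), h⟩
  · obtain ⟨c', hc'⟩ := hF.e_surj hζ c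
    rw [← hc', ← h, D.Je j hj]
  · obtain ⟨m', rfl⟩ := ζ.surjective m
    rw [hF.B_iff hζ] at hm
    rw [← h, D.JP j hj _ hm, map_add, add_sub_cancel_left]
    exact hζ.e _
  · obtain ⟨m', rfl⟩ := ζ.surjective m
    rw [← h, ← map_sub, hF.B_iff hζ, map_sub, D.J_B hj, sub_self]

/-- **semilinearity on `e` if `Φ ≠ 0`.** -/
theorem semi_ε [Nontrivial Φ] : ∃ σ : F →+* F, ∀ s c : F, ζ (D.ε (s * c)) = σ s • ζ (D.ε c) := by
  obtain ⟨x0, hx0⟩ := exists_ne (0 : Φ)
  obtain ⟨u0, hu0⟩ : ∃ u0, D.hm x0 u0 ≠ 0 := by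
    by_contra hcon
    push Not at hcon
    exact hx0 (D.hm_nondeg _ hcon)
  -- the operators `n_s`
  have key : ∀ s : F, ∃ s' : F, ∀ m, ζ (D.ε (s * D.B m)) = D.ε (s' * D.B (ζ m)) := by
    intro s
    obtain ⟨j', hj', hx'⟩ := D.Jall ((s * (D.hm x0 u0)⁻¹) • x0)
    obtain ⟨j, hj, hx⟩ := D.Jall u0
    obtain ⟨i', hi', e'⟩ := hF.conjJ hζ hj'
    obtain ⟨i, hi, e⟩ := hF.conjJ hζ hj
    have gen : ∀ {a b : M ≃ₗ[k] M}, a ∈ D.J → b ∈ D.J → ∀ m,
        a (b m - m) - (b m - m) = D.ε (D.B m * D.hm (D.χ b) (D.χ a)) := by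
      intro a b ha hb m
      have h1 := D.JM b hb m
      rw [D.JP a ha _ h1.1, add_sub_cancel_left, h1.2, D.hm_smul]
    refine ⟨D.hm (D.χ i') (D.χ i), fun m => ?_⟩
    have h1 := gen hj hj' m
    have h2 := gen hi hi' (ζ m)
    rw [hx, hx', D.hm_smul, mul_assoc, inv_mul_cancel₀ hu0, mul_one, mul_comm] at h1
    rw [mul_comm] at h2
    rw [← h1, ← h2, map_sub ζ, e, map_sub ζ, e']
  choose st hst using key
  choose A hA using hζ.e
  have hA0 : ∀ c, A c = 0 → c = 0 := fun c h => by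
    have := hA c
    rw [h, map_zero] at this
    exact D.ε_inj ((ζ.map_eq_zero_iff.1 this).trans (map_zero _).symm)
  have hAadd : ∀ c c', A (c + c') = A c + A c' := fun c c' => D.ε_inj (by
    rw [← hA, map_add, map_add, hA, hA, map_add])
  have h1 : ∀ s b : F, A (s * b) = st s * D.B (ζ (o.v b)) := fun s b => D.ε_inj (by
    have := hst s (o.v b)
    rw [o.Bv] at this
    rw [← hA, this])
  have hst1 : st 1 ≠ 0 := fun h => by
    have := h1 1 1
    rw [h, zero_mul, mul_one] at this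
    exact one_ne_zero (hA0 _ this)
  have hA1 : A 1 ≠ 0 := fun h => one_ne_zero (hA0 _ h)
  have h2 : ∀ b : F, D.B (ζ (o.v b)) = (st 1)⁻¹ * A b := fun b => by
    have := h1 1 b
    rw [one_mul] at this
    rw [this, inv_mul_cancel_left₀ hst1]
  have h3 : ∀ s b : F, A (s * b) = st s * (st 1)⁻¹ * A b := fun s b => by
    rw [h1, h2, mul_assoc]
  have h4 : ∀ s : F, st s * (st 1)⁻¹ = A s * (A 1)⁻¹ := fun s => by
    have := h3 s 1
    rw [mul_one] at this
    rw [this, mul_inv_cancel_right₀ hA1]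
  have hzero : A 0 = 0 := by
    have := hAadd 0 0
    rwa [add_zero, left_eq_add] at this
  refine ⟨{ toFun := fun s => A s * (A 1)⁻¹
            map_one' := mul_inv_cancel₀ hA1
            map_mul' := fun s b => by
              change A (s * b) * (A 1)⁻¹ = A s * (A 1)⁻¹ * (A b * (A 1)⁻¹)
              rw [h3, h4]; ring
            map_zero' := by
              change A 0 * (A 1)⁻¹ = 0
              rw [hzero, zero_mul]
            map_add' := fun s b => by
              change A (s + b) * (A 1)⁻¹ = A s * (A 1)⁻¹ + A b * (A 1)⁻¹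
              rw [hAadd, add_mul] }, fun s c => ?_⟩
  change _ = (A s * (A 1)⁻¹) • ζ (D.ε c)
  rw [hA, hA, hF.hε, h3, h4]

variable {σ : F →+* F} (hσ : ∀ s c : F, ζ (D.ε (s * c)) = σ s • ζ (D.ε c))

include hσ

/-- the function `l` -/
theorem exists_gam : ∃ ν : F, ν ≠ 0 ∧ ∀ x : F, l (D.tr x) = D.tr (ν * σ x) := by
  obtain ⟨a, ha⟩ := hζ.e 1
  have ha0 : a ≠ 0 := fun h => by
    rw [h, map_zero] at ha
    exact one_ne_zero (D.ε_inj ((ζ.map_eq_zero_iff.1 ha).trans (map_zero _).symm))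
  have hεc : ∀ c, ζ (D.ε c) = D.ε (σ c * a) := fun c => by
    have := hσ c 1
    rw [mul_one, ha, hF.hε] at this
    exact this
  refine ⟨a * D.sg (D.B (ζ (o.v 1))), mul_ne_zero ha0 ?_, fun x => ?_⟩
  · intro h
    rw [map_eq_zero, hF.B_iff hζ, o.Bv] at h
    exact one_ne_zero h
  · have h1 := hζ.f (D.ε x) (o.v 1)
    rw [f_ε_v, map_one D.sg, mul_one, hεc, D.fe] at h1
    rw [← h1]
    congr 1
    ring

/-- `ζ` is semilinear on `M/P`. -/
theorem B_semi (s : F) (m : M) : D.B (ζ (s • m)) = σ s * D.B (ζ m) := by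
  obtain ⟨ν, hν, h1⟩ := hF.exists_gam hζ hσ
  obtain ⟨a, ha⟩ := hζ.e 1
  have ha0 : a ≠ 0 := fun h => by
    rw [h, map_zero] at ha
    exact one_ne_zero (D.ε_inj ((ζ.map_eq_zero_iff.1 ha).trans (map_zero _).symm))
  have hεc : ∀ c, ζ (D.ε c) = D.ε (σ c * a) := fun c => by
    have := hσ c 1
    rw [mul_one, ha, hF.hε] at this
    exact this
  -- `tr (σ c * (a * sg (B ζ m))) = tr (σ c * (ν * σ (sg (B m))))`
  have hσs : Function.Surjective σ := Finite.surjective_of_injective σ.injective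
  have h2 : ∀ m, a * D.sg (D.B (ζ m)) = ν * σ (D.sg (D.B m)) := fun m => by
    rw [← sub_eq_zero]
    apply D.tr_nondegH
    intro c'
    obtain ⟨c, rfl⟩ := hσs c'
    have h3 := hζ.f (D.ε c) m
    rw [D.fe, h1, hεc, D.fe, map_mul σ] at h3
    rw [sub_mul, map_sub, sub_eq_zero]
    have h4 : a * D.sg (D.B (ζ m)) * σ c = σ c * a * D.sg (D.B (ζ m)) := by ring
    have h5 : ν * σ (D.sg (D.B m)) * σ c = ν * (σ c * σ (D.sg (D.B m))) := by ring
    rw [h4, h5, h3]
  have h6 := h2 (s • m)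
  rw [hF.B_smul, map_mul, map_mul, D.map_sg, mul_left_comm, ← h2 m, mul_left_comm] at h6
  have h7 := mul_left_cancel₀ ha0 h6
  rw [← map_mul] at h7
  exact D.sg.injective h7

/-- **`ζ` is semilinear.** -/
theorem semi_smul (S : Sw o) (s : F) (m : M) : ζ (s • m) = σ s • ζ m := by
  -- isotropic vectors outside `P`
  have iso : ∀ m, gf o m m = 0 → D.B m ≠ 0 → ∀ s : F, ζ (s • m) = σ s • ζ m := by
    intro m h0 hB s
    obtain ⟨h, hh, c, rfl⟩ := hF.pt S h0
    have hc0 : c ≠ 0 := fun hc => hB (by rw [hc, map_zero, map_zero, map_zero])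
    obtain ⟨g', hg', hg⟩ := hζ.H h hh.1
    obtain ⟨h', hh', hc'⟩ := hF.conj S hg'
    have h1 : ∀ c, ∃ c', ζ (h (D.ε c)) = h' (D.ε c') := fun c => by
      obtain ⟨c1, e1⟩ := hζ.e c
      obtain ⟨c2, e2⟩ := hc' c1
      exact ⟨c2, by rw [hg, e1, e2]⟩
    obtain ⟨c1, e1⟩ := h1 c
    obtain ⟨c2, e2⟩ := h1 (s * c)
    have hc1 : c1 ≠ 0 := fun hc => by
      rw [hc, map_zero, map_zero] at e1
      have e3 := ζ.map_eq_zero_iff.1 e1
      apply hB
      rw [e3, map_zero]
    have e4 : ζ (s • h (D.ε c)) = (c2 * c1⁻¹) • ζ (h (D.ε c)) := by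
      rw [← hh.2, hF.hε, e2, e1, ← hh'.2, hF.hε, inv_mul_cancel_right₀ hc1]
    have e5 := hF.B_semi hζ hσ s (h (D.ε c))
    rw [e4, hF.B_smul] at e5
    have e6 : D.B (ζ (h (D.ε c))) ≠ 0 := fun h => hB ((hF.B_iff hζ _).1 h)
    rw [e4, mul_right_cancel₀ e6 e5]
  have hv : ∀ s b : F, ζ (s • o.v b) = σ s • ζ (o.v b) := fun s b => by
    by_cases hb : b = 0
    · rw [hb, map_zero, smul_zero, map_zero, smul_zero]
    · exact iso _ (gf_vv o b b) (by rwa [o.Bv]) s
  have hε : ∀ s c : F, ζ (s • D.ε c) = σ s • ζ (D.ε c) := fun s c => by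
    rw [hF.hε, hσ]
  have hu : ∀ (s : F) (x : Φ), ζ (s • uo o x) = σ s • ζ (uo o x) := fun s x => by
    obtain ⟨j, hj, rfl⟩ := D.Jall x
    have h1 := iso (j (o.v 1)) (by rw [hF.HF_gf (hF.J_le_HF hj), gf_vv])
      (by rw [D.J_B hj, o.Bv]; exact one_ne_zero) s
    rw [J_v o hj, one_smul, smul_add, smul_add, map_add, map_add, map_add, map_add, smul_add,
      smul_add, hv, hε, add_right_inj, add_left_inj] at h1
    exact h1
  rw [eq_psi o m, smul_add, smul_add, map_add, map_add, map_add, map_add, smul_add, smul_add,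
    hv, hu, hε]

/-- **`ζ` is a similitude of `g`.** -/
theorem semi_gf (S : Sw o) : ∃ γ : k, γ ≠ 0 ∧ (∀ x, l (D.tr x) = γ * D.tr (σ x)) ∧
    ∀ m m', gf o (ζ m) (ζ m') = γ • σ (gf o m m') := by
  obtain ⟨ν, hν, h1⟩ := hF.exists_gam hζ hσ
  have h2 : D.tr ν = 0 := by
    have h3 := h1 1
    have h5 : D.tr 1 = 0 := by
      rw [show (1 : F) = algebraMap k F 1 from (map_one _).symm, D.tr_algebraMap]
    rw [map_one σ, mul_one, h5, hF.l_zero hζ] at h3
    exact h3.symm
  obtain ⟨γ, rfl⟩ := D.exists_of_tr_eq_zero h2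
  have hγ : γ ≠ 0 := fun h => hν (by rw [h, map_zero])
  have h4 : ∀ x, l (D.tr x) = γ * D.tr (σ x) := fun x => by
    rw [h1, ← Algebra.smul_def, map_smul, smul_eq_mul]
  refine ⟨γ, hγ, h4, fun m m' => ?_⟩
  have hσs : Function.Surjective σ := Finite.surjective_of_injective σ.injective
  rw [← sub_eq_zero]
  apply D.tr_nondegH
  intro c'
  obtain ⟨c, rfl⟩ := hσs c'
  rw [sub_mul, map_sub, sub_eq_zero, mul_comm, ← hF.gf_smul, ← hF.semi_smul hζ hσ S,
    ← f_eq_tr, hζ.f, f_eq_tr o, h4, hF.gf_smul, map_mul, smul_mul_assoc, map_smul, smul_eq_mul,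
    mul_comm (σ c)]

end IsF

end Uni

end Cfsg.Agent.Omega.NOne.SU
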