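import Cfsg.Agent.Omega.NOne.SU.Trans
import Cfsg.Agent.Omega.NOne.SU.HermSemi

/-!
# THEOREM UNI: the output

`exists_herm : ∃ (_ : Module F M), Nonempty (Herm D)`; `Herm D` lists everything: the `F`-structure,
the hermitian form `g` with `f = tr g`, all isotropic points are conjugate to `e` under the group
`HT` generated by the conjugates of the `N_a` (= all unitary transvections), every conjugate of
`e` is an isotropic point, `J` = all linear isometries trivial on `e`, `e^⊥/e`, `M/e^⊥`, and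
every additive map normalising `H`, preserving `f` up to a function of the value and permuting the
conjugates of `e` is a semilinear similitude (if `Φ ≠ 0`, or if it is semilinear on `e`).
-/

set_option autoImplicit false
set_option linter.unusedSectionVars false

namespace Cfsg.Agent.Omega.NOne.SU

open Quad

namespace Uni

variable {k F M Φ : Type*} [Field k] [Field F] [Algebra k F] [AddCommGroup M] [Module k M]
    [AddCommGroup Φ] [Module k Φ] [Module F Φ]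

theorem tower_of [CharP k 2] (D : Uni k F M Φ) : IsScalarTower k F Φ := by
  have key : ∀ (a : k) (x : Φ), algebraMap k F a • x = a • x := by
    intro a x
    obtain ⟨j, hj, rfl⟩ := D.Jall x
    obtain ⟨m, hm⟩ := D.B_surj 1
    have h1 := (D.JM j hj (a • m)).2
    have h2 := (D.JM j hj m).2
    rw [map_smul, ← smul_sub, map_smul, h2, hm, one_smul, map_smul, hm] at h1
    rw [h1, Algebra.algebraMap_eq_smul_one]
  refine ⟨fun a s x => ?_⟩
  rw [Algebra.smul_def, mul_smul, key]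

theorem exists_sw [CharP k 2] [Finite M] (D : Uni k F M Φ) : ∃ o : D.OppV, Sw o := by
  have := D.tower_of
  obtain ⟨g0, -, v, h1, -, -, h2, h3, h4, h5, -⟩ := exists_v (U := D)
  exact ⟨⟨v, h1, h2, h3⟩, fun b => by
    obtain ⟨w, hw, a1, a2, a3⟩ := h4 b
    exact ⟨w, hw, a1, a2, fun m _ hm => a3 m hm⟩, fun g hg => D.pos hg, h5⟩

/-- an additive map `ζ` normalises `H`, preserves `f` up to the function `l` and maps `e` to a
conjugate of `e`. -/
structure Norm (D : Uni k F M Φ) (ζ : M ≃+ M) (l : k → k) : Prop where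
  H : ∀ g ∈ D.H, ∃ g' ∈ D.H, ∀ m, ζ (g m) = g' (ζ m)
  f : ∀ m m', D.f (ζ m) (ζ m') = l (D.f m m')
  l0 : ∀ a, l a = 0 → a = 0
  e : ∃ g ∈ D.H, ∀ c, ∃ c', ζ (D.ε c) = g (D.ε c')

/-- **OUTPUT of THEOREM UNI.** -/
structure Herm (D : Uni k F M Φ) [Module F M] where
  /-- the hermitian form -/
  g : M → M → F
  /-- an opposite point -/
  v : F →ₗ[k] M
  tower : ∀ (a : k) (m : M), algebraMap k F a • m = a • m
  add_left : ∀ m m' w, g (m + m') w = g m w + g m' w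
  add_right : ∀ w m m', g w (m + m') = g w m + g w m'
  smul_left : ∀ (s : F) m w, g (s • m) w = s * g m w
  smul_right : ∀ (s : F) m w, g m (s • w) = D.sg s * g m w
  sym : ∀ m w, g w m = D.sg (g m w)
  nondeg : ∀ m, (∀ w, g m w = 0) → m = 0
  f_eq : ∀ m w, D.f m w = D.tr (g m w)
  ε_smul : ∀ s c, D.ε (s * c) = s • D.ε c
  g_ε : ∀ m c, g m (D.ε c) = D.B m * D.sg c
  B_smul : ∀ (s : F) m, D.B (s • m) = s * D.B m
  y_smul : ∀ (s : F) m, D.B m = 0 → D.y (s • m) = s • D.y m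
  g_y : ∀ m m', D.B m = 0 → D.B m' = 0 → g m m' = D.hm (D.y m) (D.y m')
  v_smul : ∀ s b, v (s * b) = s • v b
  B_v : ∀ b, D.B (v b) = b
  g_v : ∀ b b', g (v b) (v b') = 0
  t_v : ∀ (z : Fˣ) b, D.t z (v b) = v ((z : F) ^ 2 * b)
  J_smul : ∀ j ∈ D.J, ∀ (s : F) m, j (s • m) = s • j m
  t_smul : ∀ (z : Fˣ) (s : F) m, D.t z (s • m) = s • D.t z m
  t_g : ∀ (z : Fˣ) m m', g (D.t z m) (D.t z m') = algebraMap k F (D.nm z) * g m m'
  /-- linear isometries of `f` are isometries of `g` -/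
  isom : ∀ ζ : M → M, (∀ (s : F) m, ζ (s • m) = s • ζ m) →
    (∀ m m', D.f (ζ m) (ζ m') = D.f m m') → ∀ m m', g (ζ m) (ζ m') = g m m'
  /-- all unitary transvections are in `H`, even in the group `HT` -/
  transv : ∀ m0, g m0 m0 = 0 → ∀ a : k, ∃ h ∈ D.HT, ∀ m, h m = m + a • g m m0 • m0
  /-- `HT` is transitive on the isotropic points -/
  pt : ∀ m, g m m = 0 → m ≠ 0 → ∃ h ∈ D.HT, (∀ (s : F) m, h (s • m) = s • h m) ∧
    ∃ c : F, c ≠ 0 ∧ h (D.ε c) = m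
  /-- the conjugates of `e` are isotropic points -/
  conj : ∀ h ∈ D.H, ∃ h' ∈ D.HT, (∀ (s : F) m, h' (s • m) = s • h' m) ∧
    (∀ c, ∃ c', h (D.ε c) = h' (D.ε c')) ∧ ∀ c', ∃ c, h (D.ε c) = h' (D.ε c')
  mem_J : ∀ ζ : M ≃ₗ[k] M, (∀ (s : F) m, ζ (s • m) = s • ζ m) →
    (∀ m m', D.f (ζ m) (ζ m') = D.f m m') → (∀ c, ζ (D.ε c) = D.ε c) →
    (∀ m, D.B m = 0 → ∃ c, ζ m - m = D.ε c) → (∀ m, D.B (ζ m) = D.B m) → ζ ∈ D.J
  /-- semilinearity, if `Φ ≠ 0` -/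
  semi : Nontrivial Φ → ∀ (ζ : M ≃+ M) (l : k → k), D.Norm ζ l →
    ∃ (σ : F →+* F) (γ : k), γ ≠ 0 ∧ (∀ (s : F) m, ζ (s • m) = σ s • ζ m) ∧
      (∀ m m', g (ζ m) (ζ m') = γ • σ (g m m')) ∧ ∀ x, l (D.tr x) = γ * D.tr (σ x)
  /-- semilinearity, if it is given on `e` -/
  semi' : ∀ (ζ : M ≃+ M) (l : k → k), D.Norm ζ l → ∀ σ : F →+* F,
    (∀ s c : F, ζ (D.ε (s * c)) = σ s • ζ (D.ε c)) →
    ∃ γ : k, γ ≠ 0 ∧ (∀ (s : F) m, ζ (s • m) = σ s • ζ m) ∧
      (∀ m m', g (ζ m) (ζ m') = γ • σ (g m m')) ∧ ∀ x, l (D.tr x) = γ * D.tr (σ x)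
  /-- if `Φ ≠ 0`, the clause `e` of `Norm` is automatic -/
  normE : Nontrivial Φ → ∀ (ζ : M ≃+ M) (l : k → k),
    (∀ g ∈ D.H, ∃ g' ∈ D.H, ∀ m, ζ (g m) = g' (ζ m)) →
    (∀ m m', D.f (ζ m) (ζ m') = l (D.f m m')) → (∀ a, l a = 0 → a = 0) → D.Norm ζ l
  /-- the elements of `H` are semilinear isometries, if `Φ ≠ 0` -/
  semiH : Nontrivial Φ → ∀ h ∈ D.H, ∃ σ : F →+* F, (∀ a : k, σ (algebraMap k F a) = algebraMap k F a) ∧
    (∀ (s : F) m, h (s • m) = σ s • h m) ∧ ∀ m m', g (h m) (h m') = σ (g m m')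

section

variable {D : Uni k F M Φ} [CharP k 2] [Finite k] [Finite F] {o : D.OppV}
variable [Module F M] (hF : IsF o)

namespace IsF

include hF

theorem conjT (S : Sw o) {h : M ≃ₗ[k] M} (hh : h ∈ D.H) : ∃ h' ∈ D.HT, h' ∈ HF D ∧
    (∀ c, ∃ c', h (D.ε c) = h' (D.ε c')) ∧ ∀ c', ∃ c, h (D.ε c) = h' (D.ε c') := by
  obtain ⟨h1, hh1, hc⟩ := hF.conj S hh
  choose φ hφ using hc
  have h0 : φ 1 ≠ 0 := fun e => by
    have h2 := hφ 1
    rw [e, map_zero, map_zero] at h2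
    have h3 : D.ε 1 = 0 := by
      apply h.injective
      rw [h2, map_zero]
    exact one_ne_zero (D.ε_inj (h3.trans (map_zero _).symm))
  have hiso : gf o (h1 (D.ε (φ 1))) (h1 (D.ε (φ 1))) = 0 := by
    rw [hF.HF_gf hh1, gf_εε]
  obtain ⟨h', ht, hf, c0, hc0, he⟩ := hF.ptT S hiso fun e => h0 (D.ε_inj (by
    rw [map_zero]
    apply h1.injective
    rw [e, map_zero]))
  have key : ∀ c, h (D.ε c) = h' (D.ε (φ c * (φ 1)⁻¹ * c0)) := fun c => by
    rw [← hF.hε, hf.2, he, ← hh1.2, hF.hε, inv_mul_cancel_right₀ h0, hφ]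
  have hinj : Function.Injective fun c => φ c * (φ 1)⁻¹ * c0 := fun a b hab => by
    have h2 := (key a).trans ((congrArg (fun c => h' (D.ε c)) hab).trans (key b).symm)
    exact D.ε_inj (h.injective h2)
  refine ⟨h', ht, hf, fun c => ⟨_, key c⟩, fun c' => ?_⟩
  obtain ⟨c, hc⟩ := (Finite.injective_iff_surjective.1 hinj) c'
  exact ⟨c, by rw [key, ← hc]⟩

/-- move `e` back -/
theorem norm_nor (S : Sw o) {ζ : M ≃+ M} {l : k → k} (hζ : D.Norm ζ l) :
    ∃ h ∈ HF D, D.Nor (ζ.trans (h⁻¹ : M ≃ₗ[k] M).toAddEquiv) l := by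
  obtain ⟨g, hg, hge⟩ := hζ.e
  obtain ⟨h, -, hf, h1, -⟩ := hF.conjT S hg
  refine ⟨h, hf, fun g1 hg1 => ?_, fun m m' => ?_, hζ.l0, fun c => ?_⟩
  · obtain ⟨g2, hg2, h2⟩ := hζ.H g1 hg1
    refine ⟨h⁻¹ * g2 * h, mul_mem (mul_mem (inv_mem hf.1) hg2) hf.1, fun m => ?_⟩
    change h⁻¹ (ζ (g1 m)) = (h⁻¹ * g2 * h) (h⁻¹ (ζ m))
    rw [h2, LinearEquiv.mul_apply, LinearEquiv.mul_apply, apply_inv]
  · change D.f (h⁻¹ (ζ m)) (h⁻¹ (ζ m')) = _
    rw [← hζ.f, ← D.isom h hf.1 (h⁻¹ (ζ m)), apply_inv, apply_inv]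
  · obtain ⟨c1, e1⟩ := hge c
    obtain ⟨c2, e2⟩ := h1 c1
    refine ⟨c2, ?_⟩
    change h⁻¹ (ζ (D.ε c)) = _
    rw [e1, e2, inv_apply]

theorem semi' (S : Sw o) {ζ : M ≃+ M} {l : k → k} (hζ : D.Norm ζ l) {σ : F →+* F}
    (hσ : ∀ s c : F, ζ (D.ε (s * c)) = σ s • ζ (D.ε c)) :
    ∃ γ : k, γ ≠ 0 ∧ (∀ (s : F) m, ζ (s • m) = σ s • ζ m) ∧
      (∀ m m', gf o (ζ m) (ζ m') = γ • σ (gf o m m')) ∧ ∀ x, l (D.tr x) = γ * D.tr (σ x) := by
  obtain ⟨h, hf, hn⟩ := hF.norm_nor S hζ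
  have hval : ∀ m, (ζ.trans (h⁻¹ : M ≃ₗ[k] M).toAddEquiv) m = h⁻¹ (ζ m) := fun m => rfl
  have hfi : h⁻¹ ∈ HF D := inv_mem hf
  have hσ' : ∀ s c : F, (ζ.trans (h⁻¹ : M ≃ₗ[k] M).toAddEquiv) (D.ε (s * c))
      = σ s • (ζ.trans (h⁻¹ : M ≃ₗ[k] M).toAddEquiv) (D.ε c) := fun s c => by
    rw [hval, hval, hσ, hfi.2]
  obtain ⟨γ, h0, h1, h2⟩ := hF.semi_gf hn hσ' S
  have h3 := hF.semi_smul hn hσ' S
  refine ⟨γ, h0, fun s m => ?_, fun m m' => ?_, h1⟩
  · have h4 := h3 s m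
    rw [hval, hval, ← hfi.2] at h4
    exact (h⁻¹).injective h4
  · have h4 := h2 m m'
    rw [hval, hval, hF.HF_gf hfi] at h4
    exact h4

theorem semi [Nontrivial Φ] (S : Sw o) {ζ : M ≃+ M} {l : k → k} (hζ : D.Norm ζ l) :
    ∃ (σ : F →+* F) (γ : k), γ ≠ 0 ∧ (∀ (s : F) m, ζ (s • m) = σ s • ζ m) ∧
      (∀ m m', gf o (ζ m) (ζ m') = γ • σ (gf o m m')) ∧ ∀ x, l (D.tr x) = γ * D.tr (σ x) := by
  obtain ⟨h, hf, hn⟩ := hF.norm_nor S hζ
  have hval : ∀ m, (ζ.trans (h⁻¹ : M ≃ₗ[k] M).toAddEquiv) m = h⁻¹ (ζ m) := fun m => rfl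
  have hfi : h⁻¹ ∈ HF D := inv_mem hf
  obtain ⟨σ, hσ⟩ := hF.semi_ε hn
  refine ⟨σ, hF.semi' S hζ fun s c => ?_⟩
  have h4 := hσ s c
  rw [hval, hval, ← hfi.2] at h4
  exact (h⁻¹).injective h4

theorem semiH [Nontrivial Φ] (S : Sw o) {h : M ≃ₗ[k] M} (hh : h ∈ D.H) :
    ∃ σ : F →+* F, (∀ a : k, σ (algebraMap k F a) = algebraMap k F a) ∧
    (∀ (s : F) m, h (s • m) = σ s • h m) ∧ ∀ m m', gf o (h m) (h m') = σ (gf o m m') := by
  have hn : D.Norm h.toAddEquiv id := by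
    refine ⟨fun g hg => ⟨h * g * h⁻¹, mul_mem (mul_mem hh hg) (inv_mem hh), fun m => ?_⟩,
      fun m m' => D.isom h hh m m', fun a ha => ha, h, hh, fun c => ⟨c, rfl⟩⟩
    change h (g m) = (h * g * h⁻¹) (h m)
    rw [LinearEquiv.mul_apply, LinearEquiv.mul_apply, inv_apply]
  obtain ⟨σ, γ, h0, h1, h2, h3⟩ := hF.semi S hn
  have h1' : ∀ (s : F) m, h (s • m) = σ s • h m := h1
  have hinj : ∀ {s s' : F}, s • h (D.ε 1) = s' • h (D.ε 1) → s = s' := fun {s s'} e => by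
    have e1 : (s - s') • h (D.ε 1) = 0 := by rw [sub_smul, e, sub_self]
    rcases smul_eq_zero.1 e1 with e2 | e2
    · exact sub_eq_zero.1 e2
    · exfalso
      have e3 : D.ε 1 = 0 := by
        apply h.injective
        rw [e2, map_zero]
      exact one_ne_zero (D.ε_inj (e3.trans (map_zero _).symm))
  have hk : ∀ a : k, σ (algebraMap k F a) = algebraMap k F a := fun a => by
    apply hinj
    rw [← h1', hF.tower, hF.tower, map_smul]
  have htr : ∀ x, D.tr (σ x) = D.tr x := fun x => by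
    apply algebraMap_inj (F := F)
    rw [D.tr_eq, ← D.map_sg, ← map_add, ← D.tr_eq, hk]
  obtain ⟨θ, hθ⟩ := D.exists_tr_one
  have hγ : γ = 1 := by
    have := h3 θ
    rw [htr, hθ, mul_one] at this
    exact this.symm
  exact ⟨σ, hk, h1', fun m m' => by
    have := h2 m m'
    rw [hγ, one_smul] at this
    exact this⟩

/-- if `Φ ≠ 0`, a map normalising `H` permutes the conjugates of `e`. -/
theorem normE [Nontrivial Φ] [Finite M] (S : Sw o) {ζ : M ≃+ M} {l : k → k}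
    (hH : ∀ g ∈ D.H, ∃ g' ∈ D.H, ∀ m, ζ (g m) = g' (ζ m))
    (hf : ∀ m m', D.f (ζ m) (ζ m') = l (D.f m m')) (l0 : ∀ a, l a = 0 → a = 0) :
    D.Norm ζ l := by
  refine ⟨hH, hf, l0, ?_⟩
  obtain ⟨n, hn, hna⟩ := D.Jn 1
  obtain ⟨τ, hτ, he⟩ := hH n (D.J_le hn)
  obtain ⟨σ, -, h1, -⟩ := hF.semiH S hτ
  have hτm : ∀ m, τ (ζ m) = ζ m + ζ (D.ε (D.B m)) := fun m => by
    rw [← he, hna, one_smul, map_add]
  have hl0 : l 0 = 0 := by
    have := hf 0 0
    rw [map_zero ζ, map_zero (D.f 0)] at this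
    exact this.symm
  by_cases hσ : ∀ s, σ s = s
  · -- `ζ e` is an `F`-point
    have hs : ∀ s c : F, ∃ c', s • ζ (D.ε c) = ζ (D.ε c') := fun s c => by
      obtain ⟨m', hm'⟩ := ζ.surjective (s • ζ (o.v c))
      refine ⟨D.B m', ?_⟩
      have h2 := hτm (o.v c)
      have h3 := hτm m'
      rw [hm', h1, hσ, h2, o.Bv, smul_add, add_right_inj] at h3
      exact h3
    have hm0 : ζ (D.ε 1) ≠ 0 := fun e =>
      one_ne_zero (D.ε_inj ((ζ.map_eq_zero_iff.1 e).trans (map_zero _).symm))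
    have hiso : gf o (ζ (D.ε 1)) (ζ (D.ε 1)) = 0 := by
      apply D.tr_nondegH
      intro s
      obtain ⟨c', hc'⟩ := hs s 1
      rw [mul_comm, ← hF.gf_smul, ← f_eq_tr, hc', hf, D.f_ε, hl0]
    obtain ⟨h, ht, hl, c0, hc0, h2⟩ := hF.ptT S hiso hm0
    choose φ hφ using fun s => hs s 1
    have hinj : Function.Injective φ := fun a b hab => by
      have h3 : a • ζ (D.ε 1) = b • ζ (D.ε 1) :=
        (hφ a).trans ((congrArg (fun c => ζ (D.ε c)) hab).trans (hφ b).symm)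
      have h4 : (a - b) • ζ (D.ε 1) = 0 := by rw [sub_smul, h3, sub_self]
      rcases smul_eq_zero.1 h4 with h5 | h5
      · exact sub_eq_zero.1 h5
      · exact (hm0 h5).elim
    refine ⟨h, D.HT_le ht, fun c => ?_⟩
    obtain ⟨s, rfl⟩ := (Finite.injective_iff_surjective.1 hinj) c
    exact ⟨s * c0, by rw [← hφ, ← h2, ← hl.2, hF.hε]⟩
  · exfalso
    push Not at hσ
    obtain ⟨θ, hθ⟩ := hσ
    have hfix : ∀ p, D.B p = 0 → τ (ζ p) = ζ p := fun p hp => by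
      rw [hτm, hp, map_zero, map_zero, add_zero]
    let φ : (F × Φ) × (F × Φ) → M := fun z =>
      ζ (D.ε z.1.1 + uo o z.1.2) + θ • ζ (D.ε z.2.1 + uo o z.2.2)
    have hP : ∀ (a : F) (x : Φ), D.B (D.ε a + uo o x) = 0 := fun a x => by
      rw [map_add, D.Bε, Bu, add_zero]
    have hPi : ∀ (a : F) (x : Φ), D.ε a + uo o x = 0 → a = 0 ∧ x = 0 := fun a x h => by
      have h2 : psi o (a, x, 0) = psi o 0 := by
        rw [psi_apply, map_zero, map_zero, add_zero]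
        exact h
      have h3 := psi_injective o h2
      exact ⟨congrArg Prod.fst h3, congrArg (fun z => z.2.1) h3⟩
    have key : ∀ p p', D.B p = 0 → D.B p' = 0 → ζ p + θ • ζ p' = 0 → p = 0 ∧ p' = 0 := by
      intro p p' hp hp' h
      have h2 : ζ p = θ • ζ p' := eq_of_add_eq_zeroM k h
      have h3 := congrArg τ h2
      rw [hfix p hp, h1, hfix p' hp', h2] at h3
      have h4 : (θ - σ θ) • ζ p' = 0 := by rw [sub_smul, h3, sub_self]
      rcases smul_eq_zero.1 h4 with h5 | h5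
      · exact (hθ (sub_eq_zero.1 h5).symm).elim
      · rw [h5, smul_zero] at h2
        exact ⟨ζ.map_eq_zero_iff.1 h2, ζ.map_eq_zero_iff.1 h5⟩
    have hinj : Function.Injective φ := by
      rintro ⟨⟨a, x⟩, ⟨b, y⟩⟩ ⟨⟨a', x'⟩, ⟨b', y'⟩⟩ h
      change ζ (D.ε a + uo o x) + θ • ζ (D.ε b + uo o y)
        = ζ (D.ε a' + uo o x') + θ • ζ (D.ε b' + uo o y') at h
      have h2 : ζ (D.ε (a - a') + uo o (x - x')) + θ • ζ (D.ε (b - b') + uo o (y - y')) = 0 := by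
        have e1 : D.ε (a - a') + uo o (x - x') = (D.ε a + uo o x) - (D.ε a' + uo o x') := by
          rw [map_sub, map_sub]; abel
        have e2 : D.ε (b - b') + uo o (y - y') = (D.ε b + uo o y) - (D.ε b' + uo o y') := by
          rw [map_sub, map_sub]; abel
        rw [e1, e2, map_sub ζ, map_sub ζ, smul_sub]
        rw [← sub_eq_zero] at h
        rw [← h]
        abel
      obtain ⟨h3, h4⟩ := key _ _ (hP _ _) (hP _ _) h2
      obtain ⟨a1, x1⟩ := hPi _ _ h3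
      obtain ⟨b1, y1⟩ := hPi _ _ h4
      rw [sub_eq_zero] at a1 x1 b1 y1
      rw [a1, x1, b1, y1]
    have hΦ : Finite Φ := Finite.of_injective (fun x => uo o x) fun x y h => by
      have := congrArg D.y h
      change D.y (uo o x) = D.y (uo o y) at this
      rwa [yu, yu] at this
    have c1 : Nat.card ((F × Φ) × (F × Φ)) ≤ Nat.card M := Nat.card_le_card_of_injective _ hinj
    have c2 : Nat.card M = Nat.card (F × Φ × F) := Nat.card_congr (co o).toEquiv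
    rw [c2, Nat.card_prod, Nat.card_prod, Nat.card_prod, Nat.card_prod] at c1
    have c3 : 1 < Nat.card Φ := Finite.one_lt_card
    have c4 : 0 < Nat.card F := Nat.card_pos
    have c5 : Nat.card F * Nat.card F * Nat.card Φ * Nat.card Φ
        ≤ Nat.card F * Nat.card F * Nat.card Φ * 1 := by
      calc _ = Nat.card F * Nat.card Φ * (Nat.card F * Nat.card Φ) := by ring
        _ ≤ Nat.card F * (Nat.card Φ * Nat.card F) := c1
        _ = _ := by ring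
    have c6 := Nat.le_of_mul_le_mul_left c5 (by positivity)
    omega

/-- everything -/
noncomputable def herm [Finite M] (S : Sw o) : D.Herm where
  g := gf o
  v := o.v
  tower := hF.tower
  add_left := gf_add o
  add_right := gf_add_right o
  smul_left := hF.gf_smul
  smul_right := hF.gf_smul_right
  sym := gf_sym o
  nondeg := fun _ h => gf_nondeg o h
  f_eq := f_eq_tr o
  ε_smul := fun s c => (hF.hε s c).symm
  g_ε := gf_ε o
  B_smul := hF.B_smul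
  y_smul := fun s _ h => hF.y_smul s h
  g_y := fun _ _ h h' => gf_P o h h'
  v_smul := fun s b => (hF.hv s b).symm
  B_v := o.Bv
  g_v := gf_vv o
  t_v := o.tv
  J_smul := fun _ hj => hF.J_smul hj
  t_smul := hF.t_smul
  t_g := hF.t_gf
  isom := fun _ h1 h2 => hF.isom h1 h2
  transv := fun _ h0 a => by
    obtain ⟨h, -, h1, h2⟩ := hF.transvT S h0 a
    exact ⟨h, h1, h2⟩
  pt := fun _ h2 h0 => by
    obtain ⟨h, h1, h3, h4⟩ := hF.ptT S h2 h0
    exact ⟨h, h1, h3.2, h4⟩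
  conj := fun _ hh => by
    obtain ⟨h, h1, h3, h4⟩ := hF.conjT S hh
    exact ⟨h, h1, h3.2, h4⟩
  mem_J := fun _ h1 h2 h3 h4 h5 => hF.mem_J h1 h2 h3 h4 h5
  semi := fun _ _ _ hζ => hF.semi S hζ
  semi' := fun _ _ hζ _ hσ => hF.semi' S hζ hσ
  normE := fun _ _ _ hH hf l0 => hF.normE S hH hf l0
  semiH := fun _ _ hh => hF.semiH S hh

end IsF

end

/-- **THEOREM UNI.** -/
theorem exists_herm [CharP k 2] [Finite M] (D : Uni k F M Φ) :
    ∃ (_ : Module F M), Nonempty D.Herm := by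
  have := D.toQuad.finite_k
  have := D.toQuad.finite_F
  obtain ⟨o, S⟩ := D.exists_sw
  let _ := modF o
  exact ⟨_, ⟨(isF_modF o).herm S⟩⟩

end Uni

end Cfsg.Agent.Omega.NOne.SU
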