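import Cfsg.Agent.Omega.NOne.SU.Main
import Cfsg.Agent.Omega.NOne.SU.HermOut

/-!
# THEOREM UNI: `N_G(R)` acts on `W = Q/R` by semilinear similitudes (`Φ ≠ 0`)

`zt c hc : h.M sc ≃+ h.M sc` : the action of `c ∈ N_G(R)`.
-/

set_option autoImplicit false
set_option linter.unusedSectionVars false

open Subgroup

namespace Cfsg.Agent.Omega.NOne.SU

variable {G : Type*} [Group G] {k F : Type*} [Field k] [Field F] [Algebra k F]

namespace GIn

variable {T : Quad k F} {S : Sylow 2 G} {V R Q Q' : Subgroup G} {v : k → F → k → G} {p p' : G → F}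
variable (h : GIn T S V R Q Q' v p p') (sc : Scal h.sp.form)

/-- the action of `c ∈ N_G(R)` on `M = Q/R` -/
noncomputable def zt (c : G) (hc : c ∈ normalizer (R : Set G)) : h.M sc ≃+ h.M sc where
  toFun := h.cj c
  invFun := h.cj c⁻¹
  left_inv := h.cj_inv_cj hc
  right_inv := h.cj_cj_inv hc
  map_add' := h.cj_add hc

theorem zt_pr {c : G} (hc : c ∈ normalizer (R : Set G)) {x : G} (hx : x ∈ Q) :
    h.zt sc c hc (h.prM sc x) = h.prM sc (c * x * c⁻¹) := h.cj_pr hc hx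

/-- the action of `c ∈ N_G(R)` on `R`, as a function on `k` -/
noncomputable def lz (c : G) (a : k) : k := h.sp.co (c * v a 0 0 * c⁻¹)

theorem v_lz {c : G} (hc : c ∈ normalizer (R : Set G)) (a : k) :
    v (h.lz c a) 0 0 = c * v a 0 0 * c⁻¹ :=
  h.sp.a_co ((mem_normalizer_iff.1 hc _).1 (h.mem_R.2 ⟨a, rfl⟩))

theorem lz_ne {c : G} (hc : c ∈ normalizer (R : Set G)) (a : k) (ha : h.lz c a = 0) : a = 0 := by
  have h1 := h.v_lz hc a
  rw [ha, h.v_zero] at h1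
  have h2 : v a 0 0 = 1 := by
    have h3 : v a 0 0 = c⁻¹ * (c * v a 0 0 * c⁻¹) * c := by group
    rw [h3, ← h1]
    group
  exact (h.v_inj a 0 0 h2).1

theorem zt_f {c : G} (hc : c ∈ normalizer (R : Set G)) (w w' : h.M sc) :
    h.fM sc (h.zt sc c hc w) (h.zt sc c hc w') = h.lz c (h.fM sc w w') := by
  obtain ⟨x, hx, rfl⟩ := h.prM_surj sc w
  obtain ⟨y, hy, rfl⟩ := h.prM_surj sc w'
  rw [h.zt_pr sc hc hx, h.zt_pr sc hc hy, h.fM_pr sc (h.nor c hc x hx) (h.nor c hc y hy),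
    h.fM_pr sc hx hy]
  have h1 : c * x * c⁻¹ * (c * y * c⁻¹) * (c * x * c⁻¹)⁻¹ * (c * y * c⁻¹)⁻¹ =
      c * (x * y * x⁻¹ * y⁻¹) * c⁻¹ := by group
  have h2 : v (h.sp.co (x * y * x⁻¹ * y⁻¹)) 0 0 = x * y * x⁻¹ * y⁻¹ :=
    h.sp.a_co (h.sp.comm x hx y hy)
  rw [h1, lz, h2]

theorem conj_CR {c d : G} (hc : c ∈ normalizer (R : Set G)) (hd : d ∈ centralizer (R : Set G)) :
    c * d * c⁻¹ ∈ centralizer (R : Set G) := by
  rw [mem_centralizer_iff] at hd ⊢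
  intro r hr
  have h1 : c⁻¹ * r * c ∈ R := by
    have := (mem_normalizer_iff.1 (inv_mem hc) r).1 hr
    rwa [inv_inv] at this
  have h2 := hd _ h1
  calc r * (c * d * c⁻¹) = c * (c⁻¹ * r * c * d) * c⁻¹ := by group
    _ = c * (d * (c⁻¹ * r * c)) * c⁻¹ := by rw [h2]
    _ = c * d * c⁻¹ * r := by group

theorem zt_H {c : G} (hc : c ∈ normalizer (R : Set G)) (g : h.M sc ≃ₗ[k] h.M sc)
    (hg : g ∈ h.H sc) : ∃ g' ∈ h.H sc, ∀ m, h.zt sc c hc (g m) = g' (h.zt sc c hc m) := by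
  obtain ⟨d, hd⟩ := hg
  have hd' := conj_CR hc hd.1
  refine ⟨_, (ind_linC (h := h) (sc := sc) (c * d * c⁻¹) hd').mem, fun m => ?_⟩
  obtain ⟨x, hx, rfl⟩ := h.prM_surj sc m
  rw [hd.2 x hx, h.zt_pr sc hc (h.nor d (h.CR_le_NR hd.1) x hx), h.zt_pr sc hc hx,
    (ind_linC (c * d * c⁻¹) hd').2 _ (h.nor c hc x hx)]
  congr 1
  group

variable {Φ : Type*} [AddCommGroup Φ] [Module F Φ] {φ χ : G → Φ} (f : Fld T V R Q Q' v p φ χ)
  [Module k Φ] [IsScalarTower k F Φ] [Finite G] [Nontrivial Φ] [Module F (h.M sc)]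

/-- **`c ∈ N_G(R)` normalises `H` and permutes the conjugates of `e`.** -/
theorem zt_norm (E : (h.uni sc f).Herm) {c : G} (hc : c ∈ normalizer (R : Set G)) :
    (h.uni sc f).Norm (h.zt sc c hc) (h.lz c) :=
  E.normE inferInstance _ _ (h.zt_H sc hc) (h.zt_f sc hc) (h.lz_ne hc)

/-- **`c ∈ N_G(R)` acts on `M` as a semilinear similitude.** -/
theorem zt_semi (E : (h.uni sc f).Herm) {c : G} (hc : c ∈ normalizer (R : Set G)) :
    ∃ (σ : F →+* F) (γ : k), γ ≠ 0 ∧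
      (∀ (s : F) m, h.zt sc c hc (s • m) = σ s • h.zt sc c hc m) ∧
      (∀ m m', E.g (h.zt sc c hc m) (h.zt sc c hc m') = γ • σ (E.g m m')) ∧
      ∀ x, c * v (T.tr x) 0 0 * c⁻¹ = v (γ * T.tr (σ x)) 0 0 := by
  obtain ⟨σ, γ, h0, h1, h2, h3⟩ := E.semi inferInstance _ _ (h.zt_norm sc f E hc)
  refine ⟨σ, γ, h0, h1, h2, fun x => ?_⟩
  have h4 := h3 x
  rw [← h.v_lz hc]
  exact congrArg (fun a => v a 0 0) h4

/-- the image of `e` under `c ∈ N_G(R)` is an isotropic point -/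
theorem zt_pt (E : (h.uni sc f).Herm) {c : G} (hc : c ∈ normalizer (R : Set G)) :
    ∃ m : h.M sc, m ≠ 0 ∧ E.g m m = 0 ∧ ∀ b : F, ∃ s : F, h.prM sc (c * v 0 b 0 * c⁻¹) = s • m := by
  obtain ⟨σ, γ, h0, h1, h2, -⟩ := h.zt_semi sc f E hc
  have hε : ∀ b : F, h.epM sc b = b • h.epM sc 1 := fun b => by
    have := E.ε_smul b 1
    rw [mul_one] at this
    exact this
  refine ⟨h.zt sc c hc (h.epM sc 1), fun e => ?_, ?_, fun b => ⟨σ b, ?_⟩⟩
  · have h3 := (h.zt sc c hc).map_eq_zero_iff.1 e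
    exact one_ne_zero (h.epM_inj sc (h3.trans (map_zero _).symm))
  · have h3 : E.g (h.epM sc 1) (h.epM sc 1) = 0 := by
      have h4 := E.g_ε (h.epM sc 1) 1
      have h5 : (h.uni sc f).B (h.epM sc 1) = 0 := (h.uni sc f).Bε 1
      rw [h5, zero_mul] at h4
      exact h4
    rw [h2, h3, map_zero, smul_zero]
  · rw [← h.zt_pr sc hc (h.E_le 0 b), h.prM_E, hε, h1]

/-- `N_G(R) = C_G(R) N_{N_G(R)}(e)` -/
theorem zt_conj (E : (h.uni sc f).Herm) {c : G} (hc : c ∈ normalizer (R : Set G)) :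
    ∃ d ∈ centralizer (R : Set G), ∀ b : F, ∃ b' : F,
      h.prM sc (d⁻¹ * c * v 0 b 0 * (d⁻¹ * c)⁻¹) = h.epM sc b' := by
  obtain ⟨g, hg, hge⟩ := (h.zt_norm sc f E hc).e
  obtain ⟨d, hd⟩ := hg
  refine ⟨d, hd.1, fun b => ?_⟩
  obtain ⟨b', hb'⟩ := hge b
  refine ⟨b', ?_⟩
  have hb'' : h.zt sc c hc (h.epM sc b) = g (h.epM sc b') := hb'
  have h1 : g (h.prM sc (d⁻¹ * c * v 0 b 0 * (d⁻¹ * c)⁻¹)) = g (h.epM sc b') := by
    rw [← hb'', ← h.prM_E sc 0 b, h.zt_pr sc hc (h.E_le 0 b), hd.2 _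
      (h.nor _ (mul_mem (inv_mem (h.CR_le_NR hd.1)) hc) _ (h.E_le 0 b))]
    congr 1
    group
  exact g.injective h1

end GIn

end Cfsg.Agent.Omega.NOne.SU
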