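import Mathlib

/-!
# Sylow's theorem in a normal subgroup

`exists_conj_le` : if `S ≤ N` is Sylow in `G`, `C` is normal in `N` and `D ≤ C` is a 2-group, then `D` is
conjugate under `C` to a subgroup of `S`.
-/

set_option autoImplicit false

open Subgroup

namespace Cfsg.Agent.Omega.NOne.SU.SylC

variable {G : Type*} [Group G] [Finite G]

theorem exists_conj_le' (S : Sylow 2 G) {N D : Subgroup G} (hS : (S : Subgroup G) ≤ N) (hD : IsPGroup 2 D)
    (hDN : D ≤ N) : ∃ y ∈ N, ∀ d ∈ D, y * d * y⁻¹ ∈ S := by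
  obtain ⟨P, hP⟩ := (hD.comap_subtype (K := N)).exists_le_sylow
  obtain ⟨x, hx⟩ := MulAction.exists_smul_eq N P (S.subtype hS)
  refine ⟨x, x.2, fun d hd => ?_⟩
  have h1 : (⟨d, hDN hd⟩ : N) ∈ P := hP (mem_subgroupOf.2 hd)
  have h3 : x * ⟨d, hDN hd⟩ * x⁻¹ ∈ (S.subtype hS : Subgroup N) := by
    rw [← hx, Sylow.coe_subgroup_smul]
    exact mem_map.2 ⟨_, h1, rfl⟩
  exact h3

theorem exists_conj_le (S : Sylow 2 G) {C N D : Subgroup G} (hCN : C ≤ N)
    (hnor : ∀ y ∈ N, ∀ x ∈ C, y * x * y⁻¹ ∈ C) (hS : (S : Subgroup G) ≤ N) (hD : IsPGroup 2 D) (hDC : D ≤ C) :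
    ∃ x ∈ C, ∀ d ∈ D, x * d * x⁻¹ ∈ S := by
  obtain ⟨P, hP⟩ := (hD.comap_subtype (K := C)).exists_le_sylow
  have hK : IsPGroup 2 ((S : Subgroup G) ⊓ C : Subgroup G) := S.2.to_le inf_le_left
  obtain ⟨P2, hP2⟩ := (hK.comap_subtype (K := C)).exists_le_sylow
  -- `|P| ≤ |S ⊓ C|`
  have hP1 : IsPGroup 2 ((P : Subgroup C).map C.subtype) := P.2.map _
  obtain ⟨y, hy, hyP⟩ := exists_conj_le' S hS hP1 ((map_subtype_le _).trans hCN)
  have hcard : Nat.card P ≤ Nat.card ((S : Subgroup G) ⊓ C : Subgroup G) := by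
    have hm : ∀ z : P, y * ((z : C) : G) * y⁻¹ ∈ ((S : Subgroup G) ⊓ C : Subgroup G) := fun z =>
      ⟨hyP _ (mem_map.2 ⟨(z : C), z.2, rfl⟩), hnor y hy _ (z : C).2⟩
    apply Nat.card_le_card_of_injective (fun z : P => (⟨_, hm z⟩ : ((S : Subgroup G) ⊓ C : Subgroup G)))
    intro z z' hz
    have h1 := congrArg Subtype.val hz
    exact Subtype.ext (Subtype.ext (mul_left_cancel (mul_right_cancel h1)))
  have hcard2 : Nat.card P = Nat.card P2 := by
    rw [Sylow.card_eq_multiplicity, Sylow.card_eq_multiplicity]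
  have hcard3 : Nat.card (((S : Subgroup G) ⊓ C : Subgroup G).subgroupOf C) =
      Nat.card ((S : Subgroup G) ⊓ C : Subgroup G) :=
    Nat.card_congr (subgroupOfEquivOfLe inf_le_right).toEquiv
  have heq : ((S : Subgroup G) ⊓ C : Subgroup G).subgroupOf C = (P2 : Subgroup C) := by
    apply eq_of_le_of_card_ge hP2
    have : Nat.card (P2 : Subgroup C) = Nat.card P := hcard2.symm
    rw [this]
    exact hcard.trans hcard3.symm.le
  obtain ⟨x, hx⟩ := MulAction.exists_smul_eq C P P2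
  refine ⟨x, x.2, fun d hd => ?_⟩
  have h1 : (⟨d, hDC hd⟩ : C) ∈ P := hP (mem_subgroupOf.2 hd)
  have h3 : x * ⟨d, hDC hd⟩ * x⁻¹ ∈ (P2 : Subgroup C) := by
    rw [← hx, Sylow.coe_subgroup_smul]
    exact mem_map.2 ⟨_, h1, rfl⟩
  rw [← heq, mem_subgroupOf] at h3
  exact h3.1

end Cfsg.Agent.Omega.NOne.SU.SylC
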