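import Cfsg.Agent.Omega.NOne.SU.OutCo
import Cfsg.Agent.Omega.NOne.SU.NorR
import Cfsg.Agent.Omega.NOne.SU.SylC
import Cfsg.Agent.Omega.NOne.SU.GrpSe

/-!
# THEOREM UNI: `GIn`, `Fld` ⟹ `Out`

`GIn.exists_Out` : the output of THEOREM UNI at the level of the group.  The field `pt` comes from
`zt_pt` if `Φ ≠ 0`; for `Φ = 0` it is `pt0`: by Sylow's theorem in `C_G(R)` some conjugate `x c V c⁻¹ x⁻¹`
(`x ∈ C_G(R)`) lies in `S`, so acts on `E/R` as a group of order `≤ 2 < q`, hence `(x c)⁻¹ E (x c) ≤ C_Q(V) = E`.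
-/

set_option autoImplicit false
set_option linter.unusedSectionVars false

open Subgroup

namespace Cfsg.Agent.Omega.NOne.SU

variable {G : Type*} [Group G] {k F : Type*} [Field k] [Field F] [Algebra k F]

namespace GIn

variable {T : Quad k F} {S : Sylow 2 G} {V R Q Q' : Subgroup G} {v : k → F → k → G} {p p' : G → F}
variable (h : GIn T S V R Q Q' v p p') (sc : Scal h.sp.form)
variable {Φ : Type*} [AddCommGroup Φ] [Module F Φ] {φ χ : G → Φ} (f : Fld T V R Q Q' v p φ χ)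

theorem V_two (h : GIn T S V R Q Q' v p p') : IsPGroup 2 V := by
  intro x
  refine ⟨1, Subtype.ext ?_⟩
  obtain ⟨a, b, d, hx⟩ := h.v_surj x x.2
  simp only [SubmonoidClass.coe_pow, OneMemClass.coe_one, pow_one]
  rw [pow_two, ← hx, h.v_sq]

include h f in
/-- **`Φ = 0`**: `N_G(R) = C_G(R) N_{N_G(R)}(E)` -/
theorem pt0 [Finite G] [Subsingleton Φ] {c : G} (hc : c ∈ normalizer (R : Set G)) :
    ∃ x ∈ centralizer (R : Set G), ∀ a b, ∃ a' b', (x * c) * v a b 0 * (x * c)⁻¹ = v a' b' 0 := by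
  classical
  -- `c V c⁻¹ ≤ C(R)`
  obtain ⟨x, hx, hxS⟩ := SylC.exists_conj_le S (C := centralizer (R : Set G)) (N := normalizer (R : Set G))
    (D := V.map (MulAut.conj c).toMonoidHom) h.CR_le_NR (fun y hy x hx => CR_conj hy hx) h.S_R
    (h.V_two.map _) (by
      rintro _ ⟨w, hw, rfl⟩
      exact CR_conj hc (h.CV_le_CR (h.V_le_CV hw)))
  refine ⟨x, hx, ?_⟩
  set y := x * c with hy
  have hyR : y ∈ normalizer (R : Set G) := mul_mem (h.CR_le_NR hx) hc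
  have hyS : ∀ w ∈ V, y * w * y⁻¹ ∈ S := by
    intro w hw
    have := hxS (c * w * c⁻¹) (mem_map.2 ⟨w, hw, rfl⟩)
    have e : x * (c * w * c⁻¹) * x⁻¹ = y * w * y⁻¹ := by rw [hy]; group
    rwa [e] at this
  have hyC : ∀ w ∈ V, y * w * y⁻¹ ∈ centralizer (R : Set G) := fun w hw =>
    CR_conj hyR (h.CV_le_CR (h.V_le_CV hw))
  -- a nontrivial `d` with `y v 0 0 d y⁻¹` trivial on `E/R`
  obtain ⟨d, hd0, hd⟩ : ∃ d : k, d ≠ 0 ∧
      ∀ b, ∃ a, (y * v 0 0 d * y⁻¹) * v 0 b 0 * (y * v 0 0 d * y⁻¹)⁻¹ = v a b 0 := by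
    obtain ⟨s, hs0, hs1⟩ := exists_s T
    rcases h.S_2 _ (hyS _ (h.v_mem 0 0 1)) (hyC _ (h.v_mem 0 0 1)) _ (hyS _ (h.v_mem 0 0 s))
      (hyC _ (h.v_mem 0 0 s)) with h1 | h1 | h1
    · exact ⟨1, one_ne_zero, h1⟩
    · exact ⟨s, hs0, h1⟩
    · refine ⟨1 + s, ?_, ?_⟩
      · intro h3
        apply hs1
        have h4 := T.add_selfk (h2 := h.h2) (1 : k)
        calc s = (1 + 1) + s := by rw [h4, zero_add]
          _ = 1 + (1 + s) := by ring
          _ = 1 := by rw [h3, add_zero]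
      · have e : y * v 0 0 1 * y⁻¹ * (y * v 0 0 s * y⁻¹) = y * v 0 0 (1 + s) * y⁻¹ := by
          have h3 : v 0 0 (1 + s) = v 0 0 1 * v 0 0 s := by rw [← h.v_add, add_zero, add_zero]
          rw [h3]; group
        rw [e] at h1
        exact h1
  -- `y⁻¹ E y ≤ C_Q(V) = E`
  have key : ∀ a b, ∃ a' b', y⁻¹ * v a b 0 * y = v a' b' 0 := by
    intro a b
    have hq : y⁻¹ * v a b 0 * y ∈ Q := h.nor_inv hyR (h.E_le a b)
    obtain ⟨a1, ha1⟩ := hd b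
    have h1 : v a b 0 = v a 0 0 * v 0 b 0 := by rw [← h.v_add, add_zero, zero_add, add_zero]
    -- `[v 0 0 d, y⁻¹ e y] ∈ R`
    have h3 : (y * v 0 0 d * y⁻¹) * v a b 0 * (y * v 0 0 d * y⁻¹)⁻¹ * (v a b 0)⁻¹ ∈ R := by
      have h4 := h.CR_v (hyC _ (h.v_mem 0 0 d)) a
      have e : (y * v 0 0 d * y⁻¹) * (v a 0 0 * v 0 b 0) * (y * v 0 0 d * y⁻¹)⁻¹ =
          ((y * v 0 0 d * y⁻¹) * v a 0 0 * (y * v 0 0 d * y⁻¹)⁻¹) *
          ((y * v 0 0 d * y⁻¹) * v 0 b 0 * (y * v 0 0 d * y⁻¹)⁻¹) := by group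
      rw [h1, e, h4, ha1, ← h.v_add, ← h.v_add, h.v_inv, ← h.v_add]
      refine h.mem_R.2 ⟨a + a1 + a, ?_⟩
      simp only [add_zero, zero_add, T.add_self (h2 := h.h2)]
    have h5 : v 0 0 d * (y⁻¹ * v a b 0 * y) * (v 0 0 d)⁻¹ * (y⁻¹ * v a b 0 * y)⁻¹ ∈ R := by
      have h6 := (mem_normalizer_iff.1 (inv_mem hyR) _).1 h3
      have e : y⁻¹ * ((y * v 0 0 d * y⁻¹) * v a b 0 * (y * v 0 0 d * y⁻¹)⁻¹ * (v a b 0)⁻¹) * y⁻¹⁻¹ =
          v 0 0 d * (y⁻¹ * v a b 0 * y) * (v 0 0 d)⁻¹ * (y⁻¹ * v a b 0 * y)⁻¹ := by group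
      rwa [e] at h6
    obtain ⟨a2, ha2⟩ := h.comm_V 0 0 d hq
    rw [ha2] at h5
    obtain ⟨a3, ha3⟩ := h.mem_R.1 h5
    have h7 := (h.v_eq ha3).2.1
    have h8 : p (y⁻¹ * v a b 0 * y) = 0 := by
      rcases mul_eq_zero.1 h7 with h9 | h9
      · exact h9
      · exact absurd ((map_eq_zero _).1 h9) hd0
    exact (f.φ_ker _ hq ((h.p_eq_zero hq).1 h8)).1 (Subsingleton.elim _ _)
  -- finiteness
  have := T.finF
  have := T.fink
  let f1 : k × F → k × F := fun x => ((key x.1 x.2).choose, (key x.1 x.2).choose_spec.choose)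
  have hf1 : ∀ x : k × F, y⁻¹ * v x.1 x.2 0 * y = v (f1 x).1 (f1 x).2 0 := fun x =>
    (key x.1 x.2).choose_spec.choose_spec
  have hinj : Function.Injective f1 := by
    intro x x' hxx
    have h1 := hf1 x
    rw [hxx, ← hf1 x'] at h1
    have h3 := h.v_eq (mul_left_cancel (mul_right_cancel h1))
    exact Prod.ext h3.1 h3.2.1
  have hsurj := Finite.surjective_of_injective hinj
  intro a b
  obtain ⟨z, hz⟩ := hsurj (a, b)
  refine ⟨z.1, z.2, ?_⟩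
  have h1 := hf1 z
  rw [hz] at h1
  rw [← h1]; group

variable [Module k Φ] [IsScalarTower k F Φ] [Finite G] [Module F (h.M sc)] (D : (h.uni sc f).Herm)

include D in
/-- the field `pt` of `Out` -/
theorem pt_of {c : G} (hc : c ∈ normalizer (R : Set G)) :
    ∃ m : h.M sc, m ≠ 0 ∧ D.g m m = 0 ∧ ∀ b : F, ∃ s : F, h.prM sc (c * v 0 b 0 * c⁻¹) = s • m := by
  rcases subsingleton_or_nontrivial Φ with hΦ | hΦ
  · obtain ⟨x, hx, hE⟩ := h.pt0 f hc
    have hxi : x⁻¹ ∈ centralizer (R : Set G) := inv_mem hx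
    obtain ⟨h', ht, hl, h1, -⟩ := D.conj _ (ind_linC (h := h) (sc := sc) x⁻¹ hxi).mem
    have hsm : ∀ (s : F) m, h' (s • m) = s • h' m := hl
    have hf : ∀ m m', h.fM sc (h' m) (h' m') = h.fM sc m m' :=
      fun m m' => isom ((h.uni sc f).HT_le ht) m m'
    refine ⟨h' (h.epM sc 1), ?_, ?_, fun b => ?_⟩
    · intro e
      have h3 : h.epM sc 1 = 0 := h'.injective (e.trans (map_zero h').symm)
      exact one_ne_zero (h.epM_inj sc (h3.trans (map_zero _).symm))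
    · have h3 : D.g (h' (h.epM sc 1)) (h' (h.epM sc 1)) = D.g (h.epM sc 1) (h.epM sc 1) :=
        D.isom h' hsm hf _ _
      rw [h3, OC.g_ee]
    · obtain ⟨a', b', hab⟩ := hE 0 b
      obtain ⟨c', hc'⟩ := h1 b'
      refine ⟨c', ?_⟩
      have h4 : c * v 0 b 0 * c⁻¹ = x⁻¹ * v a' b' 0 * x⁻¹⁻¹ := by rw [← hab]; group
      have h5 : h.prM sc (c * v 0 b 0 * c⁻¹) = h.linC sc x⁻¹ hxi (h.epM sc b') := by
        rw [h4, ← (ind_linC (sc := sc) x⁻¹ hxi).2 _ (h.E_le a' b'), h.prM_E]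
      rw [h5]
      exact hc'.trans ((congrArg h' (OC.ep_eq D c')).trans (hsm c' _))
  · exact h.zt_pt sc f D hc

/-- **THEOREM UNI at the level of the group.** -/
theorem out_of : Out T V R Q Q' v p φ χ (h.hmΦ sc f) (h.prM sc) D.g (OC.f0 D) (OC.iot D) where
  w_mul := fun _ hx _ hy => h.prM_mul sc hx hy
  w_eq := fun _ hx => h.prM_eq_zero sc hx
  w_surj := h.prM_surj sc
  comm := fun _ hx _ hy => OC.comm D hx hy
  g_add := D.add_left
  g_smul := D.smul_left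
  g_sym := D.sym
  w_e := OC.w_e D
  g_ee := by rw [h.prM_E]; exact OC.g_ee D
  g_ef := by rw [h.prM_E]; exact OC.g_ef D
  g_ff := OC.g_ff D
  g_eι := by rw [h.prM_E]; exact OC.g_eiot D
  g_fι := OC.g_fiot D
  g_ιι := OC.g_iotiot D
  span := by rw [h.prM_E]; exact OC.span D
  hm_nondeg := h.hmΦ_nondeg sc f
  p_eq := fun _ hy => OC.p_eq D hy
  φ_eq := fun _ hy hyV => OC.φ_eq D hy hyV
  χ_act := fun _ hn hnV => OC.chi_act D hn hnV
  ker := fun _ hc hk => h.ker_NR hc hk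
  tran := by
    intro m hm0 hm
    obtain ⟨h', ht, hl, c, hc, he⟩ := D.pt m hm hm0
    obtain ⟨x, hx⟩ := (h.uni sc f).HT_le ht
    have hsm : ∀ (s : F) m, h' (s • m) = s • h' m := hl
    refine ⟨x, hx.1, ?_, ?_, c⁻¹, ?_⟩
    · intro s a ha b hb hab
      rw [← hx.2 b hb, ← hx.2 a ha, hab]
      exact hsm s _
    · intro a ha b hb
      rw [← hx.2 b hb, ← hx.2 a ha]
      exact D.isom h' hsm (fun m m' => isom hx.mem m m') _ _
    · rw [← hx.2 _ (h.E_le 0 1), h.prM_E]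
      have h1 : h' (h.epM sc c) = m := he
      have h2 : h.epM sc 1 = c⁻¹ • h.epM sc c := by
        rw [OC.ep_eq D c, smul_smul, inv_mul_cancel₀ hc, one_smul]
      rw [h2]
      exact (hsm _ _).trans (congrArg (fun z => c⁻¹ • z) h1)
  stab := by
    intro c hc ⟨s, hs⟩
    obtain ⟨m, hm0, -, hm⟩ := h.pt_of sc f D hc
    apply h.normalizes_V' sc hc
    obtain ⟨s1, hs1⟩ := hm 1
    -- `m ∈ F e₀`
    have h1 : s1 ≠ 0 := by
      intro h2
      rw [h2, zero_smul, h.prM_eq_zero sc (h.nor c hc _ (h.E_le 0 1))] at hs1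
      have h3 := (mem_normalizer_iff.1 hc _).2 hs1
      obtain ⟨a, ha⟩ := h.mem_R.1 h3
      exact one_ne_zero (h.v_eq ha).2.1
    have h2 : m = (s1⁻¹ * s) • h.epM sc 1 := by
      rw [hs1, h.prM_E] at hs
      rw [mul_smul, ← hs, smul_smul, inv_mul_cancel₀ h1, one_smul]
    intro a b
    obtain ⟨s2, hs2⟩ := hm b
    have hv : v a b 0 = v a 0 0 * v 0 b 0 := by rw [← h.v_add, add_zero, zero_add, add_zero]
    have h3 : h.prM sc (c * v a b 0 * c⁻¹) = h.epM sc (s2 * (s1⁻¹ * s)) := by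
      have e : c * v a b 0 * c⁻¹ = (c * v a 0 0 * c⁻¹) * (c * v 0 b 0 * c⁻¹) := by rw [hv]; group
      have h4 := h.nor c hc _ (h.E_le a 0)
      rw [e, h.prM_mul sc h4 (h.nor c hc _ (h.E_le 0 b)), hs2, h2, smul_smul, ← OC.ep_eq D,
        (h.prM_eq_zero sc h4).2 ((mem_normalizer_iff.1 hc _).1 (h.mem_R.2 ⟨a, rfl⟩)), zero_add]
    rw [← h.prM_E sc 0, h.prM_eq sc (h.nor c hc _ (h.E_le a b)) (h.E_le _ _)] at h3
    obtain ⟨a3, ha3⟩ := h.mem_R.1 h3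
    refine ⟨a3, s2 * (s1⁻¹ * s), ?_⟩
    have e : c * v a b 0 * c⁻¹ = c * v a b 0 * c⁻¹ * (v 0 (s2 * (s1⁻¹ * s)) 0)⁻¹ * v 0 (s2 * (s1⁻¹ * s)) 0 := by
      group
    rw [e, ha3, ← h.v_add, add_zero, zero_add, add_zero]
  pt := fun _ hc => h.pt_of sc f D hc
  rad := by
    intro c hc h1 h2 h3
    apply h.rad_prM sc f hc h1
    · intro x hx hp
      rw [OC.p_eq D hx] at hp
      exact h2 x hx hp
    · intro x hx
      rw [OC.p_eq D hx, OC.p_eq D (h.nor c (h.CR_le_NR hc) x hx)]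
      exact h3 x hx

end GIn

/-- **THEOREM UNI at the level of the group**, existence form -/
theorem GIn.exists_Out.{u} {G : Type u} [Group G] [Finite G] {k F : Type*} [Field k] [Field F] [Algebra k F]
    {T : Quad k F} {S : Sylow 2 G} {V R Q Q' : Subgroup G} {v : k → F → k → G} {p p' : G → F}
    {Φ : Type*} [AddCommGroup Φ] [Module F Φ] [Module k Φ] [IsScalarTower k F Φ]
    {φ χ : G → Φ} (h : GIn T S V R Q Q' v p p') (f : Fld T V R Q Q' v p φ χ) :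
    ∃ (W : Type u) (_ : AddCommGroup W) (_ : Module F W) (w : G → W) (g : W → W → F) (f₀ : W)
      (ι : Φ →ₗ[F] W) (hm : Φ → Φ → F), Out T V R Q Q' v p φ χ hm w g f₀ ι := by
  have : CharP k 2 := CharTwo.of_one_ne_zero_of_two_eq_zero one_ne_zero h.h2
  have := h.finiteM (h.scal f)
  obtain ⟨_, ⟨D⟩⟩ := (h.uni (h.scal f) f).exists_herm
  exact ⟨_, _, _, _, _, _, _, _, h.out_of (h.scal f) f D⟩

end Cfsg.Agent.Omega.NOne.SU
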