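import Cfsg.Agent.Omega.NOne.SU.ZeroB
import Cfsg.Agent.RankTwoClose.UFour.Main

/-!
# `Φ = 0` (type `U₄(q)`): the end

* `known_zero` : `GIn + Fld + Out + Ext`, `Φ = 0`, `Full S` give `IsKnownSimple' G`.
-/

set_option autoImplicit false
set_option linter.unusedSectionVars false

open Subgroup

namespace Cfsg.Agent.Omega.NOne.SU

open RankTwoClose RankTwoClose.SLTwo RankTwoClose.UFour

universe u

variable {G : Type u} [Group G]
variable {k F : Type*} [Field k] [Field F] [Algebra k F] [CharP k 2]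
variable {T : Quad k F} {S : Sylow 2 G} {V R Q Q' : Subgroup G} {v : k → F → k → G} {p p' : G → F}

namespace Out

variable {Φ : Type*} [AddCommGroup Φ] [Module F Φ] {φ χ : G → Φ} {hm : Φ → Φ → F}
    {W : Type*} [AddCommGroup W] [Module F W] {w : G → W} {g : W → W → F} {f₀ : W}
    {ι : Φ →ₗ[F] W} (D : Out T V R Q Q' v p φ χ hm w g f₀ ι) (I : GIn T S V R Q Q' v p p')
  [Subsingleton Φ]

include D I

theorem matAct_smul {x : G} {A : SL k} (h : D.MatAct x A) (s : F) (m : W) :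
    D.rho x (s • m) = s • D.rho x m := by
  apply D.ext₂
  · rw [(h.2 _).1, D.g_smul, D.g_smul, D.g_smul, (h.2 m).1]; ring
  · rw [(h.2 _).2, D.g_smul, D.g_smul, D.g_smul, (h.2 m).2]; ring

/-- `N_G(R) = LL (N_G(R) ∩ N_G(V))` -/
theorem exists_LL {c : G} (hc : c ∈ normalizer (R : Set G)) :
    ∃ l ∈ LL V R Q, l⁻¹ * c ∈ normalizer (V : Set G) := by
  obtain ⟨m, h0, h1, h2⟩ := D.pt c hc
  obtain ⟨t, ht⟩ := h2 1
  rw [← D.rho_e I hc] at ht
  -- a matrix with first column proportional to `m`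
  have key : ∃ A : SL k, ∃ s : F, algebraMap k F (A.1 0 0) = s * g m f₀ ∧
      algebraMap k F (A.1 1 0) = s * g m (w (v 0 1 0)) ∧ s ≠ 0 := by
    have hm := D.decomp₀ m
    set α := g m f₀ with hα
    set β := g m (w (v 0 1 0)) with hβ
    by_cases hb : β = 0
    · have ha : α ≠ 0 := by
        intro ha
        apply h0
        rw [hm, ha, hb, zero_smul, zero_smul, add_zero]
      refine ⟨1, α⁻¹, ?_, ?_, inv_ne_zero ha⟩
      · rw [one_00, map_one, inv_mul_cancel₀ ha]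
      · rw [one_10, map_zero, hb, mul_zero]
    · have h3 : α * T.sg β + β * T.sg α = 0 := by
        have e : g m m = β * T.sg α + α * T.sg β := by
          nth_rewrite 2 [hm]
          rw [D.g_add_right, D.g_smul_right, D.g_smul_right, ← hα, ← hβ]; ring
        rw [h1] at e
        rw [add_comm]; exact e.symm
      have hbs := T.sg_ne β hb
      have h4 : T.sg (α * β⁻¹) = α * β⁻¹ := by
        rw [map_mul, map_inv₀, ← div_eq_mul_inv, ← div_eq_mul_inv, div_eq_div_iff hbs hb]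
        have := T.two_F (α * T.sg β)
        linear_combination h3 - this
      obtain ⟨a, ha⟩ := T.fix _ h4
      refine ⟨⟨!![a, 1; 1, 0], by
        rw [Matrix.det_fin_two]
        show a * 0 - 1 * 1 = 1
        have : (2 : k) = 0 := CharTwo.two_eq_zero
        linear_combination -this⟩, β⁻¹, ?_, ?_, inv_ne_zero hb⟩
      · show algebraMap k F a = _
        rw [ha]; ring
      · show algebraMap k F 1 = _
        rw [map_one, inv_mul_cancel₀ hb]
  obtain ⟨A, s, hA0, hA1, hs⟩ := key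
  obtain ⟨l, hl⟩ := D.piL_surj I A
  have hlA := D.matAct_piL I l
  rw [hl] at hlA
  have hlN := I.CR_NR hlA.1
  have hcc : (l : G)⁻¹ * c ∈ normalizer (R : Set G) := mul_mem (inv_mem hlN) hc
  refine ⟨l, l.2, D.stab _ hcc ⟨t * s⁻¹, ?_⟩⟩
  have h5 : D.rho l (w (v 0 1 0)) = s • m := by
    apply D.ext₂
    · rw [(hlA.2 _).1, D.g_ef, D.g_ee, hA0, D.g_smul]; ring
    · rw [(hlA.2 _).2, D.g_ef, D.g_ee, hA1, D.g_smul]; ring
  rw [← D.rho_e I hcc, D.rho_mul I (inv_mem hlN) hc, ht]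
  have h6 : t • m = (t * s⁻¹) • D.rho l (w (v 0 1 0)) := by
    rw [h5, smul_smul, mul_assoc, inv_mul_cancel₀ hs, mul_one]
  rw [h6, ← D.matAct_smul I hlA, D.rho_inv_left I hlN]

/-- `N_G(R) ∩ N_G(V)` normalises both parabolics -/
theorem norm_both (E : Ext V R Q Q' p') {c : G} (h1 : c ∈ normalizer (R : Set G))
    (h2 : c ∈ normalizer (V : Set G)) :
    c ∈ normalizer ((Q ⊔ Q' : Subgroup G) : Set G) ∧ c ∈ normalizer (LL V R Q : Set G) :=
  ⟨I.NV_NX E h2, NR_LL I.nor h1⟩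

variable [CharP F 2]

omit D in
theorem U_eq (E : Ext V R Q Q' p') (hC : centralizer (V : Set G) ≤ V) {x : G} :
    x ∈ (I.model E hC).U ↔ ∃ y ∈ Q, ∃ d, x = y * v 0 0 d := by
  constructor
  · rintro ⟨z, rfl, hz⟩
    have h1 : I.pi z = up ((I.pi z).1 0 1) := by
      rw [ext_iff']
      exact ⟨hz.1, rfl, hz.2.1, hz.2.2⟩
    obtain ⟨y, hy, hp⟩ := I.p_surj ((I.pi z).1 0 1)
    have h2 : I.pi (⟨y, mem_sup_left hy⟩⁻¹ * z) = 1 := by
      rw [map_mul, map_inv, I.pi_Q hy, h1, hp]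
      simp
    have h3 := hC ((I.pi_eq_one _).1 h2)
    obtain ⟨a, b, d, h4⟩ := I.v_surj _ h3
    refine ⟨y * v a b 0, mul_mem hy (I.E_le _ _), d, ?_⟩
    have h5 : v a b 0 * v 0 0 d = v a b d := by rw [I.v_mul, add_zero, add_zero, zero_add]
    rw [mul_assoc, h5, h4]
    show (z : G) = y * (y⁻¹ * z)
    group
  · rintro ⟨y, hy, d, rfl⟩
    have hv : v 0 0 d ∈ Q ⊔ Q' := I.V_X (I.v_mem _ _ _)
    refine ⟨⟨y, mem_sup_left hy⟩ * ⟨v 0 0 d, hv⟩, rfl, ?_⟩
    have h1 : I.pi (⟨y, mem_sup_left hy⟩ * ⟨v 0 0 d, hv⟩) = up (p y) := by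
      rw [map_mul, I.pi_Q hy, (I.pi_eq_one _).2 (I.V_CV (I.v_mem _ _ _)), mul_one]
    refine ⟨?_, ?_, ?_⟩
    · show (I.pi _).1 0 0 = 1
      rw [h1]; rfl
    · show (I.pi _).1 1 0 = 0
      rw [h1]; rfl
    · show (I.pi _).1 1 1 = 1
      rw [h1]; rfl

/-- `LL/Q = SL(2, k)`, `U = S ∩ LL` -/
theorem slPre (E : Ext V R Q Q' p') (hC : centralizer (V : Set G) ≤ V) (h2 : IsPGroup 2 (I.model E hC).U) :
    SLPre (LL V R Q) (I.model E hC).U Q (D.piL I) where
  surj := D.piL_surj I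
  ker := D.piL_ker I
  QL := Q_LL V R Q
  UL := by
    intro x hx
    obtain ⟨y, hy, d, rfl⟩ := (U_eq I E hC).1 hx
    exact mul_mem (Q_LL V R Q hy) (V_LL V R Q (I.v_mem _ _ _))
  memU x := by
    constructor
    · intro hx
      obtain ⟨y, hy, d, hxy⟩ := (U_eq I E hC).1 hx
      have h1 : D.piL I x = up d := by
        apply D.piL_eq I
        rw [hxy]
        have h3 := D.matAct_mul I (D.matAct_Q I hy) (D.matAct_V I 0 0 d)
        rwa [one_mul] at h3
      rw [h1]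
      exact ⟨rfl, rfl⟩
    · rintro ⟨h00, h10⟩
      have h1 : D.piL I x = up ((D.piL I x).1 0 1) := SLTwo.eq_up h00 h10
      set d := (D.piL I x).1 0 1 with hd
      have hv : v 0 0 d ∈ LL V R Q := V_LL V R Q (I.v_mem _ _ _)
      have h3 : D.piL I (x * ⟨v 0 0 d, hv⟩⁻¹) = 1 := by
        rw [map_mul, map_inv, D.piL_eq I (x := ⟨v 0 0 d, hv⟩) (D.matAct_V I 0 0 d), h1, mul_inv_cancel]
      have h4 := (D.piL_ker I _).1 h3
      refine (U_eq I E hC).2 ⟨(x : G) * (v 0 0 d)⁻¹, h4, d, ?_⟩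
      rw [inv_mul_cancel_right]
  two := h2

omit D [Subsingleton Φ] in
/-- `Q ≤ S`, `V ≤ S` -/
theorem le_S [Finite G] : Q ≤ S ∧ V ≤ S := by
  have hV2 : IsPGroup 2 V := by
    rintro ⟨x, hx⟩
    obtain ⟨a, b, d, rfl⟩ := I.v_surj x hx
    refine ⟨1, Subtype.ext ?_⟩
    show v a b d ^ (2 ^ 1) = 1
    rw [pow_one, pow_two, I.v_sq]
  have key : ∀ X : Subgroup G, IsPGroup 2 X → (S : Subgroup G) ≤ normalizer (X : Set G) → X ≤ S := by
    intro X hX hSX
    have h1 : IsPGroup 2 ((S : Subgroup G) ⊔ X : Subgroup G) :=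
      S.isPGroup'.to_sup_of_normal_right' hX hSX
    have h3 := S.is_maximal' h1 le_sup_left
    exact le_sup_right.trans h3.le
  refine ⟨key Q I.Q_two ?_, key V hV2 I.S_V⟩
  have hN : normalizer (R : Set G) ≤ normalizer (Q : Set G) := by
    intro c hc
    rw [mem_normalizer_iff]
    intro x
    refine ⟨I.nor c hc x, fun h => ?_⟩
    have := I.nor c⁻¹ (inv_mem hc) _ h
    simpa [mul_assoc] using this
  exact I.S_R.trans hN

variable [Finite G]

omit [Subsingleton Φ] D in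
theorem Z_eq (E : Ext V R Q Q' p') (hC : centralizer (V : Set G) ≤ V) : (I.model E hC).Z = R := by
  ext x
  constructor
  · rintro ⟨y, rfl, hb, hc⟩
    obtain ⟨a, b, d, h⟩ := I.v_surj y y.2
    have h1 := I.hV_v h.symm
    have hb' : (hM T a b d) 0 1 = 0 := by rw [← h1]; exact hb
    have hc' : (hM T a b d) 1 1 = 0 := by rw [← h1]; exact hc
    have hb'' : b = 0 := hb'
    have hc'' : algebraMap k F d = 0 := hc'
    have hd : d = 0 := (map_eq_zero _).1 hc''
    rw [← h, hb'', hd]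
    exact I.v_R a
  · intro hx
    obtain ⟨a, rfl⟩ := I.mem_R.1 hx
    refine ⟨⟨v a 0 0, I.v_mem _ _ _⟩, rfl, ?_, ?_⟩
    · show (I.hV _) 0 1 = 0
      rw [I.hV_v rfl]
      rfl
    · show (I.hV _) 1 1 = 0
      rw [I.hV_v rfl]
      show algebraMap k F 0 = 0
      rw [map_zero]

end Out

variable {Φ : Type*} [AddCommGroup Φ] [Module F Φ] {φ χ : G → Φ} {hm : Φ → Φ → F}
    {W : Type*} [AddCommGroup W] [Module F W] {w : G → W} {g : W → W → F} {f₀ : W}
    {ι : Φ →ₗ[F] W}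

open Cfsg Cfsg.Agent.Omega.Frame in
/-- **The end of type (β) for `Φ = 0`: `U₄(q)`.** -/
theorem known_zero [Finite G] [Subsingleton Φ] (hB : Omega.RootLemma.Bender.{u})
    (h1144 : Omega.Exits.St1144.{u}) (c : Ctx G) (hfull : Full (S : Subgroup G))
    (I : GIn T S V R Q Q' v p p') (f : Fld T V R Q Q' v p φ χ) (D : Out T V R Q Q' v p φ χ hm w g f₀ ι)
    (E : Ext V R Q Q' p') : IsKnownSimple' G := by
  have hC := D.CV_le I f
  have := T.finite_F
  have := T.finite_k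
  have hF2 : CharP F 2 := charP_of_injective_algebraMap (algebraMap k F).injective 2
  obtain ⟨hQS, hVS⟩ := Out.le_S I
  have hUS : (I.model E hC).U ≤ S := by
    intro x hx
    obtain ⟨y, hy, d, rfl⟩ := (Out.U_eq I E hC).1 hx
    exact mul_mem (hQS hy) (hVS (I.v_mem _ _ _))
  have h2U : IsPGroup 2 (I.model E hC).U := S.isPGroup'.to_le hUS
  have D2 := D.slPre I E hC h2U
  have hRN : normalizer (R : Set G) ≤ normalizer (LL V R Q : Set G) := NR_LL I.nor
  refine known_of_model (S := S) (K := F) (F := k) (s := (T.sg : F ≃+* F)) (L2 := LL V R Q) (Q := Q)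
    (fun x => T.sg_sg x) ?_ ?_ ?_ (I.model E hC) (D.piL I) (D.piL_surj I) (D.piL_ker I) ?_ D2.UL hUS ?_ I.S_V
    ?_ ?_ (I.NV_NX E) ?_ ?_ ?_ ?_ hB h1144 c hfull
  · intro h
    obtain ⟨θ, hθ⟩ := T.exists_theta
    have h1 : T.sg θ = θ := congrArg (fun r : F ≃+* F => r θ) h
    obtain ⟨a, ha⟩ := T.fix θ h1
    exact hθ a ha
  · rw [T.card]
    have := T.four
    nlinarith
  · have := T.four
    omega
  · intro x hx
    exact (Out.U_eq I E hC).2 ⟨x, hx, 0, by rw [I.v_zero, mul_one]⟩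
  · exact D2.sylow (S.isPGroup'.to_le inf_le_left) (le_inf hUS D2.UL) inf_le_right
  · rw [Out.Z_eq I E hC]
    exact I.S_R
  · intro s _ hs
    apply hC
    rw [mem_centralizer_iff]
    exact fun x hx => (hs x hx).symm
  · rw [Out.Z_eq I E hC]
    exact hRN
  · rw [Out.Z_eq I E hC]
    intro z hz x hx
    have h1 := (D.LL_matGrp I hx).choose_spec.1
    exact mem_centralizer_iff.1 h1 z hz
  · intro x _ hq
    apply I.char2
    rw [mem_centralizer_iff]
    exact fun y hy => (hq y hy).symm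
  · intro h
    have h1 : v 0 0 1 ∈ Q := by rw [h]; exact I.v_mem _ _ _
    exact one_ne_zero (I.V_Q 0 0 1 h1)

end Cfsg.Agent.Omega.NOne.SU
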