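import Cfsg.Agent.Omega.NOne.SU.Grp1

/-!
# THEOREM UNI, group part 2: the conjugates of `e` span `W`; the `k`-structure of `W`
-/

set_option autoImplicit false
set_option linter.unusedSectionVars false

open Subgroup

namespace Cfsg.Agent.Omega.NOne.SU

variable {G : Type*} [Group G] {k F : Type*} [Field k] [Field F] [Algebra k F]

namespace GIn

variable {T : Quad k F} {S : Sylow 2 G} {V R Q Q' : Subgroup G} {v : k → F → k → G} {p p' : G → F}
  (h : GIn T S V R Q Q' v p p')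
include h

omit h in
/-- elements of `Q` whose conjugates by `C(R)` centralise `V` -/
def N1 (V R Q : Subgroup G) : Subgroup G where
  carrier := {n | n ∈ Q ∧ ∀ c ∈ centralizer (R : Set G), c * n * c⁻¹ ∈ centralizer (V : Set G)}
  one_mem' := ⟨one_mem _, fun c _ => by
    have e : c * 1 * c⁻¹ = 1 := by group
    rw [e]; exact one_mem _⟩
  mul_mem' := fun {a b} ha hb => ⟨mul_mem ha.1 hb.1, fun c hc => by
    have := mul_mem (ha.2 c hc) (hb.2 c hc)
    have e : c * a * c⁻¹ * (c * b * c⁻¹) = c * (a * b) * c⁻¹ := by group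
    rwa [e] at this⟩
  inv_mem' := fun {a} ha => ⟨inv_mem ha.1, fun c hc => by
    have := inv_mem (ha.2 c hc)
    have e : (c * a * c⁻¹)⁻¹ = c * a⁻¹ * c⁻¹ := by group
    rwa [e] at this⟩

theorem N1_conj {c n : G} (hc : c ∈ centralizer (R : Set G)) (hn : n ∈ N1 V R Q) : c * n * c⁻¹ ∈ N1 V R Q := by
  refine ⟨h.nor c (h.CR_le_NR hc) n hn.1, fun d hd => ?_⟩
  have := hn.2 (d * c) (mul_mem hd hc)
  have e : d * c * n * (d * c)⁻¹ = d * (c * n * c⁻¹) * d⁻¹ := by group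
  rwa [e] at this

/-- the elements of `C(R)` which centralise `N1` and `Q/N1` -/
def K1 (h : GIn T S V R Q Q' v p p') : Subgroup G where
  carrier := {x | x ∈ centralizer (R : Set G) ∧ (∀ n ∈ N1 V R Q, x * n * x⁻¹ = n) ∧
    ∀ y ∈ Q, x * y * x⁻¹ * y⁻¹ ∈ N1 V R Q}
  one_mem' := ⟨one_mem _, fun n _ => by group, fun y _ => by
    have e : 1 * y * 1⁻¹ * y⁻¹ = 1 := by group
    rw [e]; exact one_mem _⟩
  mul_mem' := fun {a b} ha hb => ⟨mul_mem ha.1 hb.1, fun n hn => by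
      have e : a * b * n * (a * b)⁻¹ = a * (b * n * b⁻¹) * a⁻¹ := by group
      rw [e, hb.2.1 n hn, ha.2.1 n hn], fun y hy => by
      have h1 := h.N1_conj ha.1 (hb.2.2 y hy)
      have h3 := mul_mem h1 (ha.2.2 y hy)
      have e : a * (b * y * b⁻¹ * y⁻¹) * a⁻¹ * (a * y * a⁻¹ * y⁻¹) = a * b * y * (a * b)⁻¹ * y⁻¹ := by group
      rwa [e] at h3⟩
  inv_mem' := fun {a} ha => ⟨inv_mem ha.1, fun n hn => by
      have h1 := ha.2.1 n hn
      calc a⁻¹ * n * a⁻¹⁻¹ = a⁻¹ * (a * n * a⁻¹) * a := by rw [h1]; group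
        _ = n := by group, fun y hy => by
      have h1 := h.N1_conj (inv_mem ha.1) (inv_mem (ha.2.2 y hy))
      have e2 : a⁻¹ * (a * y * a⁻¹ * y⁻¹)⁻¹ * a⁻¹⁻¹ = a⁻¹ * y * a⁻¹⁻¹ * y⁻¹ := by group
      rwa [e2] at h1⟩

/-- **some conjugate of `e` under `C(R)` is not in `e^⊥`** -/
theorem exists_nonperp [Finite G] : ∃ c ∈ centralizer (R : Set G), ∃ b, h.Bm (h.cj c (h.ep b)) ≠ 0 := by
  by_contra hcon
  push Not at hcon
  have hE : ∀ a b, v a b 0 ∈ N1 V R Q := by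
    intro a b
    refine ⟨h.E_le a b, fun c hc => ?_⟩
    have h1 := hcon c hc b
    rw [← h.pr_E a b, h.cj_pr (h.CR_le_NR hc) (h.E_le a b),
      h.Bm_pr (h.nor c (h.CR_le_NR hc) _ (h.E_le a b))] at h1
    exact (h.p_eq_zero (h.nor c (h.CR_le_NR hc) _ (h.E_le a b))).1 h1
  have hV : V ≤ h.K1 := by
    intro x hx
    have hxC := h.V_le_CV hx
    refine ⟨h.CV_le_CR hxC, fun n hn => ?_, fun y hy => ?_⟩
    · have h1 := hn.2 1 (one_mem _)
      rw [one_mul, inv_one, mul_one, mem_centralizer_iff] at h1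
      rw [h1 x hx, mul_inv_cancel_right]
    · obtain ⟨a, b, d, rfl⟩ := h.v_surj x hx
      obtain ⟨a', ha'⟩ := h.comm_V a b d hy
      rw [ha']
      exact hE _ _
  have h4 : ∀ x ∈ h.K1, x ^ 4 ∈ Q := by
    intro x hx
    apply h.char2
    rw [mem_centralizer_iff]
    intro y hy
    -- `x y x⁻¹ = n y`
    set n := x * y * x⁻¹ * y⁻¹ with hn
    have hnN : n ∈ N1 V R Q := hx.2.2 y hy
    have h1 : x * y * x⁻¹ = n * y := by rw [hn]; group
    have h3 : x * n * x⁻¹ = n := hx.2.1 n hnN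
    have h5 : x ^ 2 * y * (x ^ 2)⁻¹ = n * n * y := by
      calc x ^ 2 * y * (x ^ 2)⁻¹ = x * (x * y * x⁻¹) * x⁻¹ := by rw [pow_two]; group
        _ = x * (n * y) * x⁻¹ := by rw [h1]
        _ = (x * n * x⁻¹) * (x * y * x⁻¹) := by group
        _ = n * n * y := by rw [h3, h1]; group
    have hr := h.sp.sq n hnN.1
    have h6 : x ^ 2 * (n * n) * (x ^ 2)⁻¹ = n * n := by
      calc x ^ 2 * (n * n) * (x ^ 2)⁻¹ = x * ((x * n * x⁻¹) * (x * n * x⁻¹)) * x⁻¹ := by rw [pow_two]; group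
        _ = x * (n * n) * x⁻¹ := by rw [h3]
        _ = (x * n * x⁻¹) * (x * n * x⁻¹) := by group
        _ = n * n := by rw [h3]
    have h7 : x ^ 4 * y * (x ^ 4)⁻¹ = y := by
      calc x ^ 4 * y * (x ^ 4)⁻¹ = x ^ 2 * (x ^ 2 * y * (x ^ 2)⁻¹) * (x ^ 2)⁻¹ := by group
        _ = x ^ 2 * (n * n * y) * (x ^ 2)⁻¹ := by rw [h5]
        _ = (x ^ 2 * (n * n) * (x ^ 2)⁻¹) * (x ^ 2 * y * (x ^ 2)⁻¹) := by group
        _ = (n * n) * (n * n) * y := by rw [h6, h5]; group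
        _ = y := by rw [h.sp.r_sq hr, one_mul]
    calc y * x ^ 4 = (x ^ 4 * y * (x ^ 4)⁻¹) * x ^ 4 := by rw [h7]
      _ = x ^ 4 * y := by group
  have hK2 : IsPGroup 2 h.K1 := by
    intro x
    obtain ⟨m, hm⟩ := h.Q_two ⟨(x : G) ^ 4, h4 x x.2⟩
    refine ⟨m + 2, Subtype.ext ?_⟩
    have h1 := congrArg Subtype.val hm
    simp only [SubmonoidClass.coe_pow, OneMemClass.coe_one] at h1 ⊢
    rw [← h1, ← pow_mul, pow_add, mul_comm]
    norm_num
  have hKQ : h.K1 ≤ Q := by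
    refine h.max h.K1 hK2 (fun x hx => hx.1) ?_
    intro c hc x hx
    have hci : c⁻¹ ∈ centralizer (R : Set G) := inv_mem hc
    refine ⟨mul_mem (mul_mem hc hx.1) (inv_mem hc), fun n hn => ?_, fun y hy => ?_⟩
    · have h1 := hx.2.1 _ (h.N1_conj hci hn)
      rw [inv_inv] at h1
      calc c * x * c⁻¹ * n * (c * x * c⁻¹)⁻¹ = c * (x * (c⁻¹ * n * c) * x⁻¹) * c⁻¹ := by group
        _ = n := by rw [h1]; group
    · have h1 := h.N1_conj hc (hx.2.2 _ (h.nor_inv (h.CR_le_NR hc) hy))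
      have e : c * (x * (c⁻¹ * y * c) * x⁻¹ * (c⁻¹ * y * c)⁻¹) * c⁻¹ =
          c * x * c⁻¹ * y * (c * x * c⁻¹)⁻¹ * y⁻¹ := by group
      rwa [e] at h1
  have h5 := h.V_Q 0 0 1 (hKQ (hV (h.v_mem 0 0 1)))
  exact one_ne_zero h5

variable {Φ : Type*} [AddCommGroup Φ] [Module F Φ] {φ χ : G → Φ} (f : Fld T V R Q Q' v p φ χ)

theorem Q'_le_N : ∀ y ∈ Q', y ∈ normalizer (V : Set G) := by
  intro y hy
  rw [mem_normalizer_iff]
  intro x
  constructor
  · intro hx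
    obtain ⟨a, b, d, rfl⟩ := h.v_surj x hx
    rw [h.act' y hy]
    exact h.v_mem _ _ _
  · intro hx
    obtain ⟨a, b, d, hx'⟩ := h.v_surj _ hx
    have h1 := h.act' y⁻¹ (inv_mem hy) a b d
    have h3 : y⁻¹ * v a b d * y⁻¹⁻¹ = x := by rw [hx']; group
    rw [← h3, h1]
    exact h.v_mem _ _ _

theorem Q_le_N : Q ≤ normalizer (V : Set G) := by
  intro y hy
  rw [mem_normalizer_iff]
  intro x
  constructor
  · intro hx
    obtain ⟨a, b, d, rfl⟩ := h.v_surj x hx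
    rw [h.act y hy]
    exact h.v_mem _ _ _
  · intro hx
    obtain ⟨a, b, d, hx'⟩ := h.v_surj _ hx
    have h1 := h.act y⁻¹ (inv_mem hy) a b d
    have h3 : y⁻¹ * v a b d * y⁻¹⁻¹ = x := by rw [hx']; group
    rw [← h3, h1]
    exact h.v_mem _ _ _

/-- `N(V)` normalises `C(V)` -/
theorem CV_conj {y c : G} (hy : y ∈ normalizer (V : Set G)) (hc : c ∈ centralizer (V : Set G)) :
    y * c * y⁻¹ ∈ centralizer (V : Set G) := by
  rw [mem_centralizer_iff] at hc ⊢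
  intro x hx
  have h1 : y⁻¹ * x * y ∈ V := by
    have := (mem_normalizer_iff.1 (inv_mem hy) x).1 hx
    rwa [inv_inv] at this
  have h3 := hc _ h1
  calc x * (y * c * y⁻¹) = y * ((y⁻¹ * x * y) * c) * y⁻¹ := by group
    _ = y * (c * (y⁻¹ * x * y)) * y⁻¹ := by rw [h3]
    _ = _ := by group

/-- `[C(V), Q] ≤ C_Q(V)` -/
theorem comm_CV {c y : G} (hc : c ∈ centralizer (V : Set G)) (hy : y ∈ Q) :
    c * y * c⁻¹ * y⁻¹ ∈ Q ∧ c * y * c⁻¹ * y⁻¹ ∈ centralizer (V : Set G) := by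
  constructor
  · exact mul_mem (h.nor c (h.CR_le_NR (h.CV_le_CR hc)) y hy) (inv_mem hy)
  · have h1 := h.CV_conj (h.Q_le_N hy) (inv_mem hc)
    have e : c * y * c⁻¹ * y⁻¹ = c * (y * c⁻¹ * y⁻¹) := by group
    rw [e]
    exact mul_mem hc h1

include f in
/-- **the conjugates of `e` span `W`** -/
theorem span [Finite G] (N : AddSubgroup h.sp.W)
    (hN : ∀ c ∈ centralizer (R : Set G), ∀ b, h.cj c (h.ep b) ∈ N) : N = ⊤ := by
  classical
  let N0 : AddSubgroup h.sp.W := AddSubgroup.closure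
    {w | ∃ c ∈ centralizer (R : Set G), ∃ b, w = h.cj c (h.ep b)}
  have hN0 : N0 ≤ N := by
    rw [AddSubgroup.closure_le]
    rintro w ⟨c, hc, b, rfl⟩
    exact hN c hc b
  have hmem : ∀ c ∈ centralizer (R : Set G), ∀ b, h.cj c (h.ep b) ∈ N0 := fun c hc b =>
    AddSubgroup.subset_closure ⟨c, hc, b, rfl⟩
  -- `N0` is invariant under elements which normalise `C(R)` and `e`
  have hinv : ∀ g ∈ normalizer (R : Set G), (∀ b, ∃ c ∈ centralizer (R : Set G), ∃ b', h.cj g (h.ep b) =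
      h.cj c (h.ep b')) → ∀ w ∈ N0, h.cj g w ∈ N0 := by
    intro g hg hge w hw
    induction hw using AddSubgroup.closure_induction with
    | mem w hw =>
      obtain ⟨c, hc, b, rfl⟩ := hw
      obtain ⟨c', hc', b', hb'⟩ := hge b
      have hgc : g * c * g⁻¹ ∈ centralizer (R : Set G) := by
        rw [mem_centralizer_iff] at hc ⊢
        intro r hr
        have h1 : g⁻¹ * r * g ∈ R := by
          have := (mem_normalizer_iff.1 (inv_mem hg) r).1 hr
          rwa [inv_inv] at this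
        have h3 := hc _ h1
        calc r * (g * c * g⁻¹) = g * ((g⁻¹ * r * g) * c) * g⁻¹ := by group
          _ = g * (c * (g⁻¹ * r * g)) * g⁻¹ := by rw [h3]
          _ = _ := by group
      have h1 : h.cj g (h.cj c (h.ep b)) = h.cj (g * c * g⁻¹ * c') (h.ep b') := by
        rw [h.cj_mul (h.CR_le_NR hgc) (h.CR_le_NR hc'), ← hb', ← h.cj_mul hg (h.CR_le_NR hc),
          ← h.cj_mul (h.CR_le_NR hgc) hg]
        congr 1
        group
      rw [h1]
      exact hmem _ (mul_mem hgc hc') _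
    | zero =>
      have h1 : h.cj g (0 : h.sp.W) = 0 := by
        have := h.cj_add hg 0 0
        rw [add_zero] at this
        exact left_eq_add.1 this
      rw [h1]; exact zero_mem _
    | add x y _ _ hx hy =>
      rw [h.cj_add hg]
      exact add_mem hx hy
    | neg x _ hx =>
      rwa [h.sp.neg_eq]
  have hinvC : ∀ g ∈ centralizer (R : Set G), ∀ w ∈ N0, h.cj g w ∈ N0 := fun g hg =>
    hinv g (h.CR_le_NR hg) (fun b => ⟨g, hg, b, rfl⟩)
  have hep : ∀ b, h.ep b ∈ N0 := fun b => by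
    have := hmem 1 (one_mem _) b
    rwa [h.cj_one] at this
  -- a nonperpendicular element
  obtain ⟨κ, hκ, b0, hb0⟩ := h.exists_nonperp
  set w0 := h.cj κ (h.ep b0) with hw0
  have hw0N : w0 ∈ N0 := hmem κ hκ b0
  obtain ⟨y0, hy0, hy0w⟩ := h.sp.pr_surj w0
  have hp0 : p y0 ≠ 0 := by
    rw [← hy0w, h.Bm_pr hy0] at hb0
    exact hb0
  -- `e^⊥ ≤ N0`
  have hperp : ∀ x ∈ Q, x ∈ centralizer (V : Set G) → h.sp.pr x ∈ N0 := by
    intro x hx hxV
    obtain ⟨n, hn, hnV, hnχ⟩ := f.χ_surj ((p y0)⁻¹ • φ x)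
    have h1 := h.comm_CV hnV hy0
    have h3 := f.bil y0 hy0 n hn hnV
    rw [hnχ, smul_smul, mul_inv_cancel₀ hp0, one_smul] at h3
    -- `[n, y0] ≡ x` mod `E`
    have h4 : φ (x * (n * y0 * n⁻¹ * y0⁻¹)) = 0 := by
      rw [f.φ_add x hx hxV _ h1.1 h1.2, h3, ← two_smul F, T.twoF h.h2, zero_smul]
    obtain ⟨a, b, hab⟩ := (f.φ_ker _ (mul_mem hx h1.1) (mul_mem hxV h1.2)).1 h4
    have h5 : h.sp.pr x + h.sp.pr (n * y0 * n⁻¹ * y0⁻¹) = h.ep b := by
      rw [← h.sp.pr_mul hx h1.1, hab, h.pr_E]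
    have h6 : h.sp.pr (n * y0 * n⁻¹ * y0⁻¹) = h.cj n w0 + w0 := by
      rw [h.sp.pr_mul (h.nor n (h.CR_le_NR (h.CV_le_CR hnV)) y0 hy0) (inv_mem hy0), h.sp.pr_inv hy0,
        h.sp.neg_eq, hy0w, ← hy0w, h.cj_pr (h.CR_le_NR (h.CV_le_CR hnV)) hy0]
    have h7 : h.sp.pr x = h.ep b + (h.cj n w0 + w0) := by
      rw [← h5, h6, add_assoc, h.sp.add_self, add_zero]
    rw [h7]
    exact add_mem (hep b) (add_mem (hinvC n (h.CV_le_CR hnV) _ hw0N) hw0N)
  -- the `B`-values of `N0`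
  have hB : ∀ l : F, ∃ w ∈ N0, h.Bm w = l := by
    intro l
    obtain ⟨z, hz⟩ := T.exists_sq h.h2 (l * (p y0)⁻¹)
    by_cases hz0 : z = 0
    · refine ⟨0, zero_mem _, ?_⟩
      rw [hz0, zero_pow two_ne_zero] at hz
      have hl : l = 0 := by
        rcases mul_eq_zero.1 hz.symm with h1 | h1
        · exact h1
        · exact absurd (inv_eq_zero.1 h1) hp0
      rw [hl]
      have := h.Bm_ep 0
      have h1 : h.ep 0 = 0 := by
        have := h.ep_add 0 0
        rw [add_zero] at this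
        exact left_eq_add.1 this
      rwa [h1] at this
    · obtain ⟨t, -, ht1, ht2, -, -⟩ := f.tor z hz0
      have htR : t ∈ normalizer (R : Set G) := by
        rw [mem_normalizer_iff]
        intro x
        constructor
        · intro hx
          obtain ⟨a, rfl⟩ := h.mem_R.1 hx
          rw [ht1, mul_zero, mul_zero]
          exact h.mem_R.2 ⟨_, rfl⟩
        · intro hx
          obtain ⟨a, ha⟩ := h.mem_R.1 hx
          refine h.mem_R.2 ⟨(T.nm z)⁻¹ * a, ?_⟩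
          have h1 := ht1 ((T.nm z)⁻¹ * a) 0 0
          rw [mul_zero, mul_zero, mul_inv_cancel_left₀ (T.nm_ne hz0)] at h1
          have h3 : t * x * t⁻¹ = t * v ((T.nm z)⁻¹ * a) 0 0 * t⁻¹ := by rw [ha, h1]
          exact mul_left_cancel (mul_right_cancel h3)
      refine ⟨h.cj t w0, hinv t htR ?_ w0 hw0N, ?_⟩
      · intro b
        refine ⟨1, one_mem _, z * (T.sg z)⁻¹ * b, ?_⟩
        rw [h.cj_one]
        unfold ep
        rw [h.cj_pr htR (h.E_le 0 b), ht1, mul_zero, mul_zero]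
      · rw [← hy0w, h.cj_pr htR hy0, h.Bm_pr (ht2 y0 hy0).1, (ht2 y0 hy0).2, hz, mul_assoc,
          inv_mul_cancel₀ hp0, mul_one]
  rw [eq_top_iff]
  intro w _
  apply hN0
  obtain ⟨w1, hw1, hB1⟩ := hB (h.Bm w)
  obtain ⟨x, hx, rfl⟩ := h.sp.pr_surj w
  obtain ⟨x1, hx1, rfl⟩ := h.sp.pr_surj w1
  rw [h.Bm_pr hx, h.Bm_pr hx1] at hB1
  have h1 : p (x * x1) = 0 := by rw [h.p_add x hx x1 hx1, hB1, T.add_self (h2 := h.h2)]
  have h3 := hperp (x * x1) (mul_mem hx hx1) ((h.p_eq_zero (mul_mem hx hx1)).1 h1)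
  rw [h.sp.pr_mul hx hx1] at h3
  have h4 := add_mem h3 hw1
  rwa [add_assoc, h.sp.add_self, add_zero] at h4

include f in
/-- **the scalars act on `W`** -/
theorem scal [Finite G] : Scal h.sp.form := by
  apply h.sp.scal_of
  intro N hN
  apply h.span f
  intro c hc b
  apply hN
  intro s
  refine ⟨h.cj c (h.ep (algebraMap k F s * b)), fun y => ?_⟩
  have h1 : ∀ b', h.sp.form (h.cj c (h.ep b')) y = T.tr (b' * T.sg (h.Bm (h.cj c⁻¹ y))) := by
    intro b'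
    rw [← h.form_ep, ← h.form_cj hc (h.ep b'), h.cj_cj_inv (h.CR_le_NR hc)]
  rw [h1, h1, mul_comm (algebraMap k F s) b, mul_assoc, mul_comm (algebraMap k F s), ← mul_assoc,
    T.tr_mul_alg, mul_comm]

end GIn

end Cfsg.Agent.Omega.NOne.SU
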