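import Cfsg.Agent.Omega.NOne.SU.Defs

/-!
# THEOREM UNI: first consequences of the input

* `Quad.*`: the quadratic extension (`exists_theta`, `tr_mul_sg`, `mem_of_tr`).
* `B_ε`, `B_surj`, `n` (`n m = ε (B m)`), `u a` (`u a m = m + a • n m`, an element of `J`).
* `cn g` (`= g n g⁻¹`), `cu g a` (`= g (u a) g⁻¹`, an element of `H`).
* `L g c = B (g (ε c))`, adjunction `L_adj`.
-/

set_option autoImplicit false

namespace Cfsg.Agent.Omega.NOne.SU

namespace Quad

variable {k F : Type*} [Field k] [Field F] [Algebra k F] (Q : Quad k F)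
include Q

theorem two_F [CharP k 2] (x : F) : x + x = 0 := by
  have _ := Q
  have h : (2 : F) = 0 := by
    have h1 : algebraMap k F 2 = 0 := by rw [CharTwo.two_eq_zero, map_zero]
    rwa [map_ofNat] at h1
  linear_combination x * h

theorem finite_k : Finite k := by
  have h := Q.four
  exact Nat.finite_of_card_ne_zero (by omega)

theorem finite_F : Finite F := by
  have h := Q.four
  refine Nat.finite_of_card_ne_zero ?_
  rw [Q.card]
  positivity

theorem exists_theta : ∃ θ : F, ∀ a : k, algebraMap k F a ≠ θ := by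
  by_contra hcon
  push Not at hcon
  have hk := Q.finite_k
  have h1 : Nat.card F ≤ Nat.card k := Nat.card_le_card_of_surjective _ hcon
  rw [Q.card] at h1
  have h2 := Q.four
  nlinarith

theorem exists_b : ∃ b : k, b ≠ 0 ∧ b ≠ 1 := by
  classical
  by_contra hcon
  push Not at hcon
  have hk := Q.finite_k
  have := Fintype.ofFinite k
  have h2 := Q.four
  rw [Nat.card_eq_fintype_card] at h2
  have h3 : (Finset.univ : Finset k) ⊆ {0, 1} := by
    intro x _
    by_cases hx : x = 0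
    · simp [hx]
    · simp [hcon x hx]
  have h4 := Finset.card_le_card h3
  have h5 : ({0, 1} : Finset k).card ≤ 2 := Finset.card_le_two
  rw [Finset.card_univ] at h4
  omega

theorem alg_inj {a b : k} (h : algebraMap k F a = algebraMap k F b) : a = b := by
  have _ := Q
  exact (algebraMap k F).injective h

theorem sg_ne (x : F) (hx : x ≠ 0) : Q.sg x ≠ 0 := by
  intro h
  exact hx (by simpa using h)

theorem tr_sg (x : F) : Q.tr (Q.sg x) = Q.tr x := by
  apply Q.alg_inj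
  rw [Q.tr_eq, Q.tr_eq, Q.sg_sg, add_comm]

/-- `tr (x * sg y) = tr (y * sg x)` -/
theorem tr_comm (x y : F) : Q.tr (x * Q.sg y) = Q.tr (y * Q.sg x) := by
  rw [← Q.tr_sg, map_mul, Q.sg_sg, mul_comm]

section
variable [CharP k 2]

/-- `tr (x * sg x) = 0` -/
theorem tr_self (x : F) : Q.tr (x * Q.sg x) = 0 := by
  apply Q.alg_inj
  rw [Q.tr_eq, map_mul, Q.sg_sg, mul_comm (Q.sg x) x, Q.two_F, map_zero]

/-- if `tr (x * sg r) = 0` and `r ≠ 0` then `x ∈ k r`. -/
theorem mem_of_tr {x r : F} (hr : r ≠ 0) (h : Q.tr (x * Q.sg r) = 0) :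
    ∃ a : k, x = a • r := by
  have h1 := Q.tr_eq (x * Q.sg r)
  rw [h, map_zero, map_mul, Q.sg_sg] at h1
  have hsr := Q.sg_ne r hr
  have h2 : Q.sg (x / r) = x / r := by
    rw [map_div₀, div_eq_div_iff hsr hr]
    have h3 := Q.two_F (x * Q.sg r)
    have h4 : Q.sg x * r = x * Q.sg r := by
      have : x * Q.sg r + Q.sg x * r = x * Q.sg r + x * Q.sg r := by rw [h3, ← h1]
      exact add_left_cancel this
    exact h4
  obtain ⟨a, ha⟩ := Q.fix _ h2
  refine ⟨a, ?_⟩
  rw [Algebra.smul_def, ha, div_mul_cancel₀ _ hr]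

/-- `tr` is nondegenerate. -/
theorem tr_nondeg {x : F} (h : ∀ c, Q.tr (c * x) = 0) : x = 0 := by
  by_contra hx
  obtain ⟨θ, hθ⟩ := Q.exists_theta
  have h1 := h (θ / x)
  rw [div_mul_cancel₀ _ hx] at h1
  have h2 := Q.tr_eq θ
  rw [h1, map_zero] at h2
  have h3 : Q.sg θ = θ := by
    have := Q.two_F θ
    have h4 : θ + Q.sg θ = θ + θ := by rw [← h2, this]
    exact add_left_cancel h4
  obtain ⟨a, ha⟩ := Q.fix _ h3
  exact hθ a ha

end

end Quad

namespace Uni

variable {k F M Φ : Type*} [Field k] [Field F] [Algebra k F] [AddCommGroup M] [Module k M]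
    [AddCommGroup Φ] [Module k Φ] [Module F Φ] (U : Uni k F M Φ)
include U

section
variable [CharP k 2]

theorem two_M (m : M) : m + m = 0 := by
  have _ := U
  rw [← two_smul k, CharTwo.two_eq_zero, zero_smul]

theorem sub_eq (m m' : M) : m - m' = m + m' := by
  have h := U.two_M m'
  rw [sub_eq_add_neg, neg_eq_of_add_eq_zero_left h]

theorem f_comm (m m' : M) : U.f m m' = U.f m' m := by
  have h : U.f.IsAlt := U.alt
  rw [← h.neg, CharTwo.neg_eq]

end

theorem B_ε (c : F) : U.B (U.ε c) = 0 := by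
  obtain ⟨j, hj, h⟩ := U.Jn 1
  have h1 := h (U.ε c)
  rw [U.Je j hj, one_smul] at h1
  have h2 : U.ε (U.B (U.ε c)) = 0 := by
    have : U.ε c + U.ε (U.B (U.ε c)) = U.ε c + 0 := by rw [add_zero]; exact h1.symm
    exact add_left_cancel this
  exact U.ε_inj (by rw [h2, map_zero])

theorem f_ε_ε (c c' : F) : U.f (U.ε c) (U.ε c') = 0 := by
  rw [U.fe, U.B_ε, map_zero, mul_zero, map_zero]

section
variable [CharP k 2]

omit [CharP k 2] in
theorem exists_B_ne (c : F) (hc : c ≠ 0) : ∃ m, U.tr (c * U.sg (U.B m)) ≠ 0 := by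
  by_contra hcon
  push Not at hcon
  have h1 : U.ε c = 0 := U.nondeg _ fun m => by rw [U.fe]; exact hcon m
  exact hc (U.ε_inj (by rw [h1, map_zero]))

theorem B_surj (b : F) : ∃ m, U.B m = b := by
  obtain ⟨m1, h1⟩ := U.exists_B_ne 1 one_ne_zero
  have hb1 : U.B m1 ≠ 0 := by
    intro h; apply h1; rw [h, map_zero, mul_zero, map_zero]
  obtain ⟨m2, h2⟩ := U.exists_B_ne (U.B m1) hb1
  -- `B m2` is not in `k (B m1)`
  have h3 : ∀ a : k, U.B m2 ≠ a • U.B m1 := by
    intro a ha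
    apply h2
    rw [ha, map_smul, mul_smul_comm, map_smul, U.toQuad.tr_self, smul_zero]
  -- the trace form on `k (B m1) + k (B m2)`
  by_contra hcon
  push Not at hcon
  -- find a combination `x` with `tr (b sg x)` matching
  have hdet : U.tr (U.B m1 * U.sg (U.B m2)) ≠ 0 := h2
  have key : ∃ α β : k, b = α • U.B m1 + β • U.B m2 := by
    refine ⟨U.tr (b * U.sg (U.B m2)) / U.tr (U.B m1 * U.sg (U.B m2)),
      U.tr (b * U.sg (U.B m1)) / U.tr (U.B m1 * U.sg (U.B m2)), ?_⟩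
    set D := U.tr (U.B m1 * U.sg (U.B m2)) with hD
    set x := b - ((U.tr (b * U.sg (U.B m2)) / D) • U.B m1 +
      (U.tr (b * U.sg (U.B m1)) / D) • U.B m2) with hx
    have e1 : U.tr (x * U.sg (U.B m1)) = 0 := by
      rw [hx, sub_mul, add_mul, smul_mul_assoc, smul_mul_assoc, map_sub, map_add, map_smul,
        map_smul, U.toQuad.tr_self, U.toQuad.tr_comm (U.B m2), ← hD, smul_zero, zero_add,
        smul_eq_mul, div_mul_cancel₀ _ hdet, sub_self]
    have e2 : U.tr (x * U.sg (U.B m2)) = 0 := by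
      rw [hx, sub_mul, add_mul, smul_mul_assoc, smul_mul_assoc, map_sub, map_add, map_smul,
        map_smul, U.toQuad.tr_self, ← hD, smul_zero, add_zero,
        smul_eq_mul, div_mul_cancel₀ _ hdet, sub_self]
    obtain ⟨a, ha⟩ := U.toQuad.mem_of_tr hb1 e1
    have hx0 : x = 0 := by
      rw [ha] at e2 ⊢
      rw [smul_mul_assoc, map_smul, ← hD, smul_eq_mul] at e2
      rcases mul_eq_zero.1 e2 with h | h
      · rw [h, zero_smul]
      · exact absurd h hdet
    exact sub_eq_zero.1 hx0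
  obtain ⟨α, β, h⟩ := key
  exact hcon (α • m1 + β • m2) (by rw [map_add, map_smul, map_smul, ← h])

end

/-- `n m = ε (B m)` -/
def n : M →ₗ[k] M := U.ε ∘ₗ U.B

theorem n_apply (m : M) : U.n m = U.ε (U.B m) := rfl

/-- `u a m = m + a • n m`. -/
noncomputable def u (a : k) : M ≃ₗ[k] M := (U.Jn a).choose

theorem u_mem (a : k) : U.u a ∈ U.J := (U.Jn a).choose_spec.1

theorem u_apply (a : k) (m : M) : U.u a m = m + a • U.n m := by
  rw [n_apply, ← map_smul]
  exact (U.Jn a).choose_spec.2 m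

/-- the conjugate `g n g⁻¹`. -/
def cn (g : M ≃ₗ[k] M) : M →ₗ[k] M := g.toLinearMap ∘ₗ U.n ∘ₗ g.symm.toLinearMap

theorem cn_apply (g : M ≃ₗ[k] M) (m : M) : U.cn g m = g (U.ε (U.B (g.symm m))) := rfl

/-- the conjugate `g (u a) g⁻¹`. -/
noncomputable def cu (g : M ≃ₗ[k] M) (a : k) : M ≃ₗ[k] M := g * U.u a * g⁻¹

theorem cu_mem {g : M ≃ₗ[k] M} (hg : g ∈ U.H) (a : k) : U.cu g a ∈ U.H :=
  mul_mem (mul_mem hg (U.J_le (U.u_mem a))) (inv_mem hg)

theorem cu_apply (g : M ≃ₗ[k] M) (a : k) (m : M) : U.cu g a m = m + a • U.cn g m := by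
  have h1 : U.cu g a m = g (U.u a (g.symm m)) := rfl
  rw [h1, u_apply, map_add, map_smul, LinearEquiv.apply_symm_apply]
  rfl

/-- `L g c = B (g (ε c))`. -/
def L (g : M ≃ₗ[k] M) : F →ₗ[k] F := U.B ∘ₗ g.toLinearMap ∘ₗ U.ε

theorem L_apply (g : M ≃ₗ[k] M) (c : F) : U.L g c = U.B (g (U.ε c)) := rfl

theorem n_gε (g : M ≃ₗ[k] M) (c : F) : U.n (g (U.ε c)) = U.ε (U.L g c) := rfl

theorem cn_ε (g : M ≃ₗ[k] M) (c : F) : U.cn g (U.ε c) = g (U.ε (U.L g.symm c)) := rfl

theorem cn_gε (g : M ≃ₗ[k] M) (c : F) : U.cn g (g (U.ε c)) = 0 := by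
  rw [cn_apply, LinearEquiv.symm_apply_apply, B_ε, map_zero, map_zero]

theorem n_n (m : M) : U.n (U.n m) = 0 := by
  rw [n_apply, n_apply, B_ε, map_zero]

theorem cn_cn (g : M ≃ₗ[k] M) (m : M) : U.cn g (U.cn g m) = 0 := by
  rw [cn_apply U g m, cn_gε]

/-- `f (g m) m' = f m (g⁻¹ m')` -/
theorem f_left {g : M ≃ₗ[k] M} (hg : g ∈ U.H) (m m' : M) : U.f (g m) m' = U.f m (g.symm m') := by
  have h := U.isom g hg m (g.symm m')
  rwa [LinearEquiv.apply_symm_apply] at h

/-- **Adjunction.** -/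
theorem L_adj [CharP k 2] {g : M ≃ₗ[k] M} (hg : g ∈ U.H) (c c' : F) :
    U.tr (c * U.sg (U.L g c')) = U.tr (c' * U.sg (U.L g.symm c)) := by
  have h1 : U.f (U.ε c) (g (U.ε c')) = U.tr (c * U.sg (U.L g c')) := by rw [U.fe]; rfl
  have h2 : U.f (U.ε c') (g.symm (U.ε c)) = U.tr (c' * U.sg (U.L g.symm c)) := by
    rw [U.fe]; rfl
  rw [← h1, ← h2, U.f_comm, U.f_left hg]

end Uni

end Cfsg.Agent.Omega.NOne.SU
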