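import Cfsg.Agent.Omega.NO1.Beta.Herm

/-!
# The elements of `M ∩ C(R0)` on `V = O₄⁻(q)`

An element `g ∈ M` which centralises `R0` and normalises `Roo` acts on `V` as
`(x, y, z) ↦ (x, κ β(y), N(κ) z)` with `β ∈ {1, σ}` (`diag`); every element of `M ∩ C(R0)` is such an element up to the
unipotent radical (`exists_diag`).
-/

set_option autoImplicit false
set_option linter.unusedVariables false
set_option linter.unusedSectionVars false

open Subgroup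
open scoped Pointwise
open Cfsg.Agent.Omega.NO1.Beta.Inst

namespace Cfsg.Agent.Omega.NOne.SU.CoAct

open Co

variable {G : Type*} [Group G] {K : Type*} [Field K] [CharP K 2] {σ : K ≃+* K} {M V : Subgroup G}
  (d : Co K σ M V)

theorem sq_one {t : K} (h : t * t = 1) : t = 1 := by
  have h2 : (2 : K) = 0 := CharTwo.two_eq_zero
  have : (t - 1) * (t - 1) = 0 := by linear_combination h - t * h2 + h2
  exact sub_eq_zero.mp (mul_self_eq_zero.mp this)

include d in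
theorem cj_mem {g v : G} {H : Subgroup G} (h : cj g H = H) (hv : v ∈ H) : g * v * g⁻¹ ∈ H := by
  have := conj_mem_cj (c := g) hv
  rwa [h] at this

include d in
theorem cj_mem' {g v : G} {H : Subgroup G} (h : cj g H = H) (hv : v ∈ H) : g⁻¹ * v * g ∈ H := by
  rw [← mem_cj, h]; exact hv

/-- conjugates of the root elements -/
theorem conj_u {g : G} (hg : g ∈ M) (hR : cj g d.R0 = d.R0) {y : G} (hy : y ∈ M) {a : K}
    (hya : d.Act y (u a).1) : ∃ b, d.Act (g * y * g⁻¹) (u b).1 := by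
  obtain ⟨B, hB⟩ := d.conj_act hg hy hya
  obtain ⟨r, hr, r1, r2, r3⟩ := d.exists_v 1 0 0 (map_one σ) (map_zero σ)
  have hr0 : r ∈ d.R0 := ⟨hr, r2, r3⟩
  have hfix : (g * y * g⁻¹) * r * (g * y * g⁻¹)⁻¹ = r := by
    have h1 := cj_mem' d hR hr0
    have h2 := d.fix_of_mem_R0 h1 hy hya
    calc (g * y * g⁻¹) * r * (g * y * g⁻¹)⁻¹ = g * (y * (g⁻¹ * r * g) * y⁻¹) * g⁻¹ := by group
      _ = r := by rw [h2]; group
  have c1 := hB.Y hr
  have c2 := hB.X hr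
  rw [hfix, r1, r2, r3] at c1 c2
  simp only [map_zero, mul_zero, add_zero, mul_one, zero_mul] at c1 c2
  have e0 : B.1 0 0 ≠ 0 := by
    intro h0
    rw [h0, zero_mul] at c2
    exact one_ne_zero c2
  have e1 : B.1 1 0 = 0 := by
    rcases mul_eq_zero.mp c1.symm with h | h
    · exact absurd h e0
    · exact (map_eq_zero σ).mp h
  have hM : g * y * g⁻¹ ∈ M := M.mul_mem (M.mul_mem hg hy) (M.inv_mem hg)
  have hBB : B * B = 1 := by
    have h2 : d.Act (y * y) (1 : Matrix.SpecialLinearGroup (Fin 2) K).1 := by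
      have := hya.mulS hya hy
      rwa [u_mul, CharTwo.add_self_eq_zero, u_zero] at this
    have h3 : y * y ∈ centralizer (V : Set G) := (act_one_iff (M.mul_mem hy hy)).mp h2
    have h4 := d.cen_conj hg h3
    have hM2 : g * (y * y) * g⁻¹ ∈ M := M.mul_mem (M.mul_mem hg (M.mul_mem hy hy)) (M.inv_mem hg)
    have h5 : d.Act (g * (y * y) * g⁻¹) (1 : Matrix.SpecialLinearGroup (Fin 2) K).1 :=
      (act_one_iff hM2).mpr h4
    have h6 := hB.mulS hB hM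
    have e : g * y * g⁻¹ * (g * y * g⁻¹) = g * (y * y) * g⁻¹ := by group
    rw [e] at h6
    exact d.act_faithful h6 h5 hM2
  have e2 : B.1 0 0 = 1 := by
    apply sq_one
    have := congrFun (congrFun (congrArg Subtype.val hBB) 0) 0
    simpa [Matrix.mul_apply, Fin.sum_univ_two, e1] using this
  have e3 : B.1 1 1 = 1 := by
    have hdet := B.2
    rw [Matrix.det_fin_two, e1, mul_zero, sub_zero, e2, one_mul] at hdet
    exact hdet
  refine ⟨B.1 0 1, ?_⟩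
  have e4 : B = u (B.1 0 1) := by
    apply Subtype.ext
    ext i j
    fin_cases i <;> fin_cases j
    · simpa [u] using e2
    · simp [u]
    · simpa [u] using e1
    · simpa [u] using e3
  rw [← e4]
  exact hB

/-- `g` normalising `R0` normalises `E0 = R0^⊥` -/
theorem nor_E0 {g : G} (hg : g ∈ M) (hR : cj g d.R0 = d.R0) {v : G} (hv : v ∈ V) (hZ : d.Z v = 0) :
    d.Z (g * v * g⁻¹) = 0 := by
  obtain ⟨y, hy, hya⟩ := d.exists_act (u 1)
  obtain ⟨b, hb⟩ := conj_u d hg hR hy hya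
  have hM : g * y * g⁻¹ ∈ M := M.mul_mem (M.mul_mem hg hy) (M.inv_mem hg)
  have hgv := d.conj_mem' hg hv
  have hb0 : b ≠ 0 := by
    rintro rfl
    rw [u_zero] at hb
    have h2 : g * y * g⁻¹ ∈ centralizer (V : Set G) := (act_one_iff hM).mp hb
    have h3 := d.cen_conj (M.inv_mem hg) h2
    have h4 : g⁻¹ * (g * y * g⁻¹) * g⁻¹⁻¹ = y := by group
    rw [h4] at h3
    have h5 : d.Act y (1 : Matrix.SpecialLinearGroup (Fin 2) K).1 := (act_one_iff hy).mpr h3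
    exact one_ne_u one_ne_zero (d.act_faithful h5 hya hy).symm
  -- `[y, v] ∈ R0`
  have hr : y * v * y⁻¹ * v⁻¹ ∈ d.R0 := by
    have h1 := d.conj_mem' hy hv
    refine ⟨V.mul_mem h1 (V.inv_mem hv), ?_, ?_⟩
    · rw [d.Y_mul h1 (V.inv_mem hv), d.inv_eq hv, d.u_Y hya hv, hZ, mul_zero, add_zero,
        CharTwo.add_self_eq_zero]
    · rw [d.Z_mul h1 (V.inv_mem hv), d.inv_eq hv, d.u_Z hya hv, CharTwo.add_self_eq_zero]
  have hr2 := cj_mem d hR hr
  have h3 : (g * y * g⁻¹) * (g * v * g⁻¹) * (g * y * g⁻¹)⁻¹ = (g * (y * v * y⁻¹ * v⁻¹) * g⁻¹) * (g * v * g⁻¹) := by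
    group
  have h4 := d.u_Y hb hgv
  rw [h3, d.Y_mul hr2.1 hgv, hr2.2.1, zero_add] at h4
  have h5 : b * d.Z (g * v * g⁻¹) = 0 := left_eq_add.mp h4
  exact (mul_eq_zero.mp h5).resolve_left hb0

/-- `g` normalising `Roo` normalises `Roo^⊥` -/
theorem nor_Eoo {g : G} (hg : g ∈ M) (hR : cj g d.Roo = d.Roo) {v : G} (hv : v ∈ V) (hX : d.X v = 0) :
    d.X (g * v * g⁻¹) = 0 := by
  obtain ⟨m, hm, hma⟩ := d.exists_act w
  have hmR := d.w_R0 hm hma
  have w1 : (w * w : Matrix.SpecialLinearGroup (Fin 2) K) = 1 := by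
    apply Subtype.ext
    simp only [Matrix.SpecialLinearGroup.coe_mul, Matrix.SpecialLinearGroup.coe_one]
    ext i j
    fin_cases i <;> fin_cases j <;> simp [w, Matrix.mul_apply, Fin.sum_univ_two]
  have w2 : (w : Matrix.SpecialLinearGroup (Fin 2) K)⁻¹ = w := inv_eq_of_mul_eq_one_left w1
  have hmi := hma.inv hm
  rw [w2] at hmi
  -- `Z (m⁻¹ v m) = X v`
  have hZX : ∀ v ∈ V, d.Z (m⁻¹ * v * m) = d.X v := by
    intro v hv
    have h1 := hmi.Z hv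
    rw [inv_inv] at h1
    simpa [w] using h1
  have hgm : m⁻¹ * g * m ∈ M := M.mul_mem (M.mul_mem (M.inv_mem hm) hg) hm
  have hRm : cj (m⁻¹ * g * m) d.R0 = d.R0 := by
    rw [cj_mul, cj_mul, hmR, hR, ← hmR, cj_inv_cj]
  have hv' : m⁻¹ * v * m ∈ V := by
    have := d.conj_mem' (M.inv_mem hm) hv
    rwa [inv_inv] at this
  have h1 := nor_E0 d hgm hRm hv' (by rw [hZX v hv, hX])
  have h2 : m⁻¹ * g * m * (m⁻¹ * v * m) * (m⁻¹ * g * m)⁻¹ = m⁻¹ * (g * v * g⁻¹) * m := by group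
  rw [h2, hZX _ (d.conj_mem' hg hv)] at h1
  exact h1

/-- `X, Y, Z` of an element of `V` with given coordinates -/
theorem eq_mul {v a b c : G} (hv : v ∈ V) (ha : a ∈ V) (hb : b ∈ V) (hc : c ∈ V)
    (hX : d.X v = d.X a + d.X b + d.X c) (hY : d.Y v = d.Y a + d.Y b + d.Y c)
    (hZ : d.Z v = d.Z a + d.Z b + d.Z c) : v = a * b * c := by
  apply d.ext hv (V.mul_mem (V.mul_mem ha hb) hc)
  · rw [hX, d.X_mul (V.mul_mem ha hb) hc, d.X_mul ha hb]
  · rw [hY, d.Y_mul (V.mul_mem ha hb) hc, d.Y_mul ha hb]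
  · rw [hZ, d.Z_mul (V.mul_mem ha hb) hc, d.Z_mul ha hb]

/-- an additive isometry of the norm form fixing `1` is `1` or `σ` -/
theorem iso_cases (d : Co K σ M V) (β : K → K) (hadd : ∀ a b, β (a + b) = β a + β b) (h1 : β 1 = 1)
    (hN : ∀ a, β a * σ (β a) = a * σ a) : (∀ a, β a = a) ∨ (∀ a, β a = σ a) := by
  have h2 : (2 : K) = 0 := CharTwo.two_eq_zero
  have htr : ∀ a, β a + σ (β a) = a + σ a := by
    intro a
    have e1 := hN (a + 1)
    rw [hadd, h1, map_add, map_add, map_one] at e1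
    linear_combination e1 - hN a
  have hor : ∀ a, β a = a ∨ β a = σ a := by
    intro a
    have e1 : (β a - a) * (β a - σ a) = 0 := by
      linear_combination (β a) * htr a - hN a
    rcases mul_eq_zero.mp e1 with h | h
    · left; exact sub_eq_zero.mp h
    · right; exact sub_eq_zero.mp h
  by_contra hcon
  rw [not_or, not_forall, not_forall] at hcon
  obtain ⟨⟨a, ha⟩, ⟨b, hb⟩⟩ := hcon
  have ha' := (hor a).resolve_left ha
  have hb' := (hor b).resolve_right hb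
  rcases hor (a + b) with h | h
  · rw [hadd, hb'] at h
    exact ha (add_right_cancel h)
  · rw [hadd, ha', map_add] at h
    exact hb (add_left_cancel h)

/-- **the elements of `M ∩ C(R0) ∩ N(Roo)`** -/
theorem diag {g : G} (hg : g ∈ M) (hc : ∀ r ∈ d.R0, g * r * g⁻¹ = r) (hoo : cj g d.Roo = d.Roo) :
    ∃ κ : K, κ ≠ 0 ∧ ∃ β : K → K, ((∀ a, β a = a) ∨ (∀ a, β a = σ a)) ∧
      ∀ v ∈ V, d.X (g * v * g⁻¹) = d.X v ∧ d.Y (g * v * g⁻¹) = κ * β (d.Y v) ∧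
        d.Z (g * v * g⁻¹) = κ * σ κ * d.Z v := by
  have h2 : (2 : K) = 0 := CharTwo.two_eq_zero
  have hR : cj g d.R0 = d.R0 := by
    ext x
    rw [mem_cj]
    constructor
    · intro h
      have h1 := hc _ h
      have h3 : g * (g⁻¹ * x * g) * g⁻¹ = x := by group
      rw [h3] at h1
      rw [h1]; exact h
    · intro h
      have h1 := hc _ h
      have h3 : g⁻¹ * x * g = g⁻¹ * (g * x * g⁻¹) * g := by rw [h1]
      have h4 : g⁻¹ * (g * x * g⁻¹) * g = x := by group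
      rw [h3, h4]; exact h
  choose vy hvy vyX vyY vyZ using fun y : K => d.exists_v 0 y 0 (map_zero σ) (map_zero σ)
  choose vz hvz vzX vzY vzZ using fun z : {z : K // σ z = z} => d.exists_v 0 0 z.1 (map_zero σ) z.2
  choose vx hvx vxX vxY vxZ using fun z : {z : K // σ z = z} => d.exists_v z.1 0 0 z.2 (map_zero σ)
  choose y hy hya using fun a : K => d.exists_act (u a)
  choose φ hφ using fun a : K => conj_u d hg hR (hy a) (hya a)
  have hM : ∀ a, g * y a * g⁻¹ ∈ M := fun a => M.mul_mem (M.mul_mem hg (hy a)) (M.inv_mem hg)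
  -- the three parts
  have gX : ∀ z, g * vx z * g⁻¹ = vx z := fun z => hc _ ⟨hvx z, vxY z, vxZ z⟩
  have gy1 : ∀ t, d.X (g * vy t * g⁻¹) = 0 := fun t => nor_Eoo d hg hoo (hvy t) (vyX t)
  have gy3 : ∀ t, d.Z (g * vy t * g⁻¹) = 0 := fun t => nor_E0 d hg hR (hvy t) (vyZ t)
  have gz : ∀ z, g * vz z * g⁻¹ ∈ d.Roo := fun z => cj_mem d hoo ⟨hvz z, vzX z, vzY z⟩
  set g2 : K → K := fun t => d.Y (g * vy t * g⁻¹) with hg2
  have g2add : ∀ a b, g2 (a + b) = g2 a + g2 b := by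
    intro a b
    have h1 : vy (a + b) = vy a * vy b := by
      apply d.ext (hvy _) (V.mul_mem (hvy a) (hvy b))
      · rw [d.X_mul (hvy a) (hvy b), vyX, vyX, vyX, add_zero]
      · rw [d.Y_mul (hvy a) (hvy b), vyY, vyY, vyY]
      · rw [d.Z_mul (hvy a) (hvy b), vyZ, vyZ, vyZ, add_zero]
    have h3 : g * (vy a * vy b) * g⁻¹ = (g * vy a * g⁻¹) * (g * vy b * g⁻¹) := by group
    simp only [hg2]
    rw [h1, h3, d.Y_mul (d.conj_mem' hg (hvy a)) (d.conj_mem' hg (hvy b))]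
  -- the key relation
  have key : ∀ (a : K) (z : {z : K // σ z = z}),
      a * σ a * z.1 = φ a * σ (φ a) * d.Z (g * vz z * g⁻¹) ∧ g2 (a * z.1) = φ a * d.Z (g * vz z * g⁻¹) := by
    intro a z
    have hs : σ (a * σ a * z.1) = a * σ a * z.1 := by
      rw [map_mul, map_mul, d.inv, z.2]; ring
    have h1 : y a * vz z * (y a)⁻¹ = vx ⟨a * σ a * z.1, hs⟩ * vy (a * z.1) * vz z := by
      apply eq_mul d (d.conj_mem' (hy a) (hvz z)) (hvx _) (hvy _) (hvz z)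
      · rw [d.u_X (hya a) (hvz z), vzX, vzY, vzZ, vxX, vyX]
        simp
      · rw [d.u_Y (hya a) (hvz z), vzY, vzZ, vxY, vyY]
        ring
      · rw [d.u_Z (hya a) (hvz z), vzZ, vxZ, vyZ]
        ring
    have h3 : (g * y a * g⁻¹) * (g * vz z * g⁻¹) * (g * y a * g⁻¹)⁻¹ =
        (g * vx ⟨a * σ a * z.1, hs⟩ * g⁻¹) * (g * vy (a * z.1) * g⁻¹) * (g * vz z * g⁻¹) := by
      calc (g * y a * g⁻¹) * (g * vz z * g⁻¹) * (g * y a * g⁻¹)⁻¹ = g * (y a * vz z * (y a)⁻¹) * g⁻¹ := by group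
        _ = _ := by rw [h1]; group
    have hgy := d.conj_mem' hg (hvy (a * z.1))
    have hgz := (gz z).1
    have h4 := d.u_X (hφ a) hgz
    have h5 := d.u_Y (hφ a) hgz
    rw [h3, gX, d.X_mul (V.mul_mem (hvx _) hgy) hgz, d.X_mul (hvx _) hgy, gy1, (gz z).2.1, (gz z).2.2, vxX] at h4
    rw [h3, gX, d.Y_mul (V.mul_mem (hvx _) hgy) hgz, d.Y_mul (hvx _) hgy, (gz z).2.2, vxY] at h5
    simp only [map_zero, mul_zero, zero_mul, add_zero, zero_add] at h4 h5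
    exact ⟨h4, h5⟩
  set e := d.Z (g * vz ⟨1, map_one σ⟩ * g⁻¹) with he
  have key1 : ∀ a, a * σ a = φ a * σ (φ a) * e ∧ g2 a = φ a * e := by
    intro a
    have := key a ⟨1, map_one σ⟩
    simpa using this
  have hse : σ e = e := d.sZ (gz _).1
  have hN : ∀ a, g2 a * σ (g2 a) = e * (a * σ a) := by
    intro a
    rw [(key1 a).2, (key1 a).1, map_mul, hse]; ring
  have he0 : e ≠ 0 := by
    intro h0
    have := (key1 1).1
    rw [h0, map_one, mul_one, mul_zero] at this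
    exact one_ne_zero this
  have hκ := hN 1
  rw [map_one, mul_one, mul_one] at hκ
  have hκ0 : g2 1 ≠ 0 := by
    intro h0
    rw [h0, zero_mul] at hκ
    exact he0 hκ.symm
  have hsκ0 : σ (g2 1) ≠ 0 := by
    intro h0
    exact hκ0 ((map_eq_zero σ).mp h0)
  have hβ := iso_cases d (fun a => (g2 1)⁻¹ * g2 a) (fun a b => by rw [g2add]; ring)
    (inv_mul_cancel₀ hκ0) (fun a => by
      rw [map_mul, map_inv₀]
      have : (g2 1)⁻¹ * g2 a * ((σ (g2 1))⁻¹ * σ (g2 a)) = (g2 a * σ (g2 a)) * (g2 1 * σ (g2 1))⁻¹ := by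
        field_simp
      rw [this, hN, hκ]
      field_simp)
  refine ⟨g2 1, hκ0, fun a => (g2 1)⁻¹ * g2 a, hβ, ?_⟩
  have hβk : ∀ z, σ z = z → g2 z = g2 1 * z := by
    intro z hz
    have h3 : (g2 1)⁻¹ * g2 z = z := by
      rcases hβ with h | h
      · exact h z
      · exact (h z).trans hz
    rwa [inv_mul_eq_iff_eq_mul₀ hκ0] at h3
  have g3 : ∀ z : {z : K // σ z = z}, d.Z (g * vz z * g⁻¹) = e * z.1 := by
    intro z
    have h3 := (key 1 z).2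
    have h4 := (key1 1).2
    rw [one_mul, hβk z.1 z.2, h4] at h3
    have hφ1 : φ 1 ≠ 0 := by
      intro h0
      rw [h0, zero_mul] at h4
      exact hκ0 h4
    have : φ 1 * (e * z.1) = φ 1 * d.Z (g * vz z * g⁻¹) := by rw [← h3]; ring
    exact (mul_left_cancel₀ hφ1 this).symm
  intro v hv
  have h1 : v = vx ⟨d.X v, d.sX hv⟩ * vy (d.Y v) * vz ⟨d.Z v, d.sZ hv⟩ := by
    apply eq_mul d hv (hvx _) (hvy _) (hvz _)
    · rw [vxX, vyX, vzX]; ring
    · rw [vxY, vyY, vzY]; ring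
    · rw [vxZ, vyZ, vzZ]; ring
  have h3 : g * v * g⁻¹ = (g * vx ⟨d.X v, d.sX hv⟩ * g⁻¹) * (g * vy (d.Y v) * g⁻¹) *
      (g * vz ⟨d.Z v, d.sZ hv⟩ * g⁻¹) := by
    conv_lhs => rw [h1]
    group
  have hgy := d.conj_mem' hg (hvy (d.Y v))
  have hgz := (gz ⟨d.Z v, d.sZ hv⟩).1
  rw [h3, gX, d.X_mul (V.mul_mem (hvx _) hgy) hgz, d.X_mul (hvx _) hgy, d.Y_mul (V.mul_mem (hvx _) hgy) hgz,
    d.Y_mul (hvx _) hgy, d.Z_mul (V.mul_mem (hvx _) hgy) hgz, d.Z_mul (hvx _) hgy, gy1, gy3, (gz _).2.1,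
    (gz _).2.2, vxX, vxY, vxZ, g3]
  refine ⟨by ring, ?_, ?_⟩
  · change 0 + g2 (d.Y v) + 0 = g2 1 * ((g2 1)⁻¹ * g2 (d.Y v))
    field_simp
    ring
  · rw [hκ]; ring

theorem cj_of_fix {g : G} {H : Subgroup G} (hc : ∀ r ∈ H, g * r * g⁻¹ = r) : cj g H = H := by
  ext x
  rw [mem_cj]
  constructor
  · intro h
    have h1 := hc _ h
    have h3 : g * (g⁻¹ * x * g) * g⁻¹ = x := by group
    rw [h3] at h1
    rw [h1]; exact h
  · intro h
    have h1 := hc _ h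
    have h3 : g⁻¹ * x * g = g⁻¹ * (g * x * g⁻¹) * g := by rw [h1]
    have h4 : g⁻¹ * (g * x * g⁻¹) * g = x := by group
    rw [h3, h4]; exact h

/-- **the elements of `M ∩ C(R0)`** -/
theorem struct [Finite G] {g : G} (hg : g ∈ M) (hc : ∀ r ∈ d.R0, g * r * g⁻¹ = r) :
    ∃ (b κ : K) (β : K → K), κ ≠ 0 ∧ ((∀ a, β a = a) ∨ (∀ a, β a = σ a)) ∧
      (∀ v ∈ V, d.Z v = 0 → d.Y (g * v * g⁻¹) = κ * β (d.Y v)) ∧
      (κ = 1 → (∀ a, β a = a) → d.Act g (u b).1) := by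
  obtain ⟨m, hm, hma⟩ := d.exists_act w
  have hmR := d.w_R0 hm hma
  have hgR := cj_of_fix hc
  have hne : cj (g * m) d.R0 ≠ d.R0 := by
    intro h
    rw [cj_mul, hmR] at h
    have h1 : cj g⁻¹ (cj g d.Roo) = cj g⁻¹ d.R0 := by rw [h]
    rw [cj_inv_cj] at h1
    have h3 : cj g⁻¹ d.R0 = d.R0 := by
      conv_lhs => rw [← hgR]
      rw [cj_inv_cj]
    rw [h3] at h1
    exact d.R0_ne_Roo h1.symm
  obtain ⟨b, hb⟩ := d.two_trans (M.mul_mem hg hm) hne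
  obtain ⟨k, hk, hka⟩ := d.exists_act (u b)
  have h1 := hb k hk hka
  rw [cj_mul, hmR] at h1
  have hki := M.inv_mem hk
  have hfk : ∀ r ∈ d.R0, k * r * k⁻¹ = r := fun r hr => d.fix_of_mem_R0 hr hk hka
  have hg' : k⁻¹ * g ∈ M := M.mul_mem hki hg
  have hoo : cj (k⁻¹ * g) d.Roo = d.Roo := by
    rw [cj_mul, h1, cj_inv_cj]
  have hc' : ∀ r ∈ d.R0, (k⁻¹ * g) * r * (k⁻¹ * g)⁻¹ = r := by
    intro r hr
    have h2 : (k⁻¹ * g) * r * (k⁻¹ * g)⁻¹ = k⁻¹ * (g * r * g⁻¹) * k := by group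
    have h3 : k⁻¹ * (k * r * k⁻¹) * k = r := by group
    rw [h2, hc r hr]
    conv_lhs => rw [← hfk r hr]
    exact h3
  obtain ⟨κ, hκ, β, hβ, hdg⟩ := diag d hg' hc' hoo
  have hgk : ∀ v, g * v * g⁻¹ = k * ((k⁻¹ * g) * v * (k⁻¹ * g)⁻¹) * k⁻¹ := fun v => by group
  refine ⟨b, κ, β, hκ, hβ, ?_, ?_⟩
  · intro v hv hZ
    rw [hgk, d.u_Y hka (d.conj_mem' hg' hv), (hdg v hv).2.1, (hdg v hv).2.2, hZ, mul_zero, mul_zero, add_zero]
  · intro h2 h3
    apply hka.congr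
    intro v hv
    rw [hgk]
    have : (k⁻¹ * g) * v * (k⁻¹ * g)⁻¹ = v := by
      obtain ⟨e1, e2, e3⟩ := hdg v hv
      apply d.ext (d.conj_mem' hg' hv) hv e1
      · rw [e2, h2, h3, one_mul]
      · rw [e3, h2, map_one, one_mul, one_mul]
    rw [this]

/-- **(S_U)** -/
theorem act_of_triv [Finite G] {g : G} (hg : g ∈ M) (hc : ∀ r ∈ d.R0, g * r * g⁻¹ = r)
    (ht : ∀ v ∈ V, d.Z v = 0 → d.Y (g * v * g⁻¹) = d.Y v) : ∃ b, d.Act g (u b).1 := by
  obtain ⟨b, κ, β, hκ, hβ, h1, h2⟩ := struct d hg hc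
  have h3 : ∀ y, κ * β y = y := by
    intro y
    obtain ⟨v, hv, -, e2, e3⟩ := d.exists_v 0 y 0 (map_zero σ) (map_zero σ)
    have := h1 v hv e3
    rw [ht v hv e3, e2] at this
    exact this.symm
  have hβ1 : β 1 = 1 := by
    rcases hβ with h | h
    · exact h 1
    · rw [h 1, map_one]
  have hκ1 : κ = 1 := by
    have := h3 1
    rwa [hβ1, mul_one] at this
  refine ⟨b, h2 hκ1 fun a => ?_⟩
  have := h3 a
  rwa [hκ1, one_mul] at this

/-- `g` acts on `E0 / R0` as the multiplication by `κ`; if it has 2-power order, it is trivial there -/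
theorem triv_of_scalar {g : G} (hg : g ∈ M) (hc : ∀ r ∈ d.R0, g * r * g⁻¹ = r) {κ : K}
    (h1 : ∀ v ∈ V, d.Z v = 0 → d.Y (g * v * g⁻¹) = κ * d.Y v) {n : ℕ} (hn : g ^ 2 ^ n = 1) : κ = 1 := by
  have hgR := cj_of_fix hc
  have hpow : ∀ m : ℕ, ∀ v ∈ V, d.Z v = 0 → d.Z (g ^ m * v * (g ^ m)⁻¹) = 0 ∧ g ^ m * v * (g ^ m)⁻¹ ∈ V ∧
      d.Y (g ^ m * v * (g ^ m)⁻¹) = κ ^ m * d.Y v := by
    intro m
    induction m with
    | zero => intro v hv hZ; simp [hv, hZ]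
    | succ m ih =>
      intro v hv hZ
      obtain ⟨i1, i2, i3⟩ := ih v hv hZ
      have e : g ^ (m + 1) * v * (g ^ (m + 1))⁻¹ = g * (g ^ m * v * (g ^ m)⁻¹) * g⁻¹ := by
        rw [pow_succ']; group
      rw [e]
      refine ⟨nor_E0 d hg hgR i2 i1, d.conj_mem' hg i2, ?_⟩
      rw [h1 _ i2 i1, i3, pow_succ']; ring
  obtain ⟨v, hv, -, e2, e3⟩ := d.exists_v 0 1 0 (map_zero σ) (map_zero σ)
  have h2 := (hpow (2 ^ n) v hv e3).2.2
  rw [hn, one_mul, inv_one, mul_one, e2, mul_one] at h2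
  have h3 : ∀ n : ℕ, κ ^ 2 ^ n = 1 → κ = 1 := by
    intro n
    induction n with
    | zero => intro h; simpa using h
    | succ n ih =>
      intro h
      apply ih
      apply sq_one
      rw [← pow_two, ← pow_mul, ← pow_succ]
      exact h
  exact h3 n h2.symm

/-- **(S_2)** -/
theorem two_cases [Finite G] {P : Subgroup G} (hP : IsPGroup 2 P) (hPM : P ≤ M) {s t : G} (hs : s ∈ P)
    (ht : t ∈ P) (hsc : ∀ r ∈ d.R0, s * r * s⁻¹ = r) (htc : ∀ r ∈ d.R0, t * r * t⁻¹ = r) :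
    (∀ v ∈ V, d.Z v = 0 → d.Y (s * v * s⁻¹) = d.Y v) ∨ (∀ v ∈ V, d.Z v = 0 → d.Y (t * v * t⁻¹) = d.Y v) ∨
      (∀ v ∈ V, d.Z v = 0 → d.Y ((s * t) * v * (s * t)⁻¹) = d.Y v) := by
  have hpow : ∀ g ∈ P, ∃ n : ℕ, g ^ 2 ^ n = 1 := by
    intro g hg
    obtain ⟨n, hn⟩ := hP ⟨g, hg⟩
    exact ⟨n, by simpa using congrArg Subtype.val hn⟩
  have hlin : ∀ g ∈ P, (∀ r ∈ d.R0, g * r * g⁻¹ = r) → ∀ κ : K,
      (∀ v ∈ V, d.Z v = 0 → d.Y (g * v * g⁻¹) = κ * d.Y v) → ∀ v ∈ V, d.Z v = 0 → d.Y (g * v * g⁻¹) = d.Y v := by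
    intro g hg hc κ h1 v hv hZ
    obtain ⟨n, hn⟩ := hpow g hg
    have := triv_of_scalar d (hPM hg) hc h1 hn
    rw [h1 v hv hZ, this, one_mul]
  obtain ⟨b, κ, β, hκ, hβ, h1, -⟩ := struct d (hPM hs) hsc
  obtain ⟨b', κ', β', hκ', hβ', h1', -⟩ := struct d (hPM ht) htc
  rcases hβ with hβ | hβ
  · left
    exact hlin s hs hsc κ fun v hv hZ => by rw [h1 v hv hZ, hβ]
  rcases hβ' with hβ' | hβ'
  · right; left
    exact hlin t ht htc κ' fun v hv hZ => by rw [h1' v hv hZ, hβ']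
  right; right
  have hstc : ∀ r ∈ d.R0, (s * t) * r * (s * t)⁻¹ = r := by
    intro r hr
    have e : (s * t) * r * (s * t)⁻¹ = s * (t * r * t⁻¹) * s⁻¹ := by group
    rw [e, htc r hr, hsc r hr]
  refine hlin (s * t) (P.mul_mem hs ht) hstc (κ * σ κ') fun v hv hZ => ?_
  have e : (s * t) * v * (s * t)⁻¹ = s * (t * v * t⁻¹) * s⁻¹ := by group
  rw [e, h1 _ (d.conj_mem' (hPM ht) hv) (nor_E0 d (hPM ht) (cj_of_fix htc) hv hZ), h1' v hv hZ, hβ, hβ',
    map_mul, d.inv]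
  ring

end Cfsg.Agent.Omega.NOne.SU.CoAct
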