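import Mathlib

/-!
# THEOREM UNI (bb #13466, blueprints/OMEGA-UNI-helper495.md), section 0: the input

`k ⊆ F` finite fields of characteristic 2, `|F| = |k|²`, `|k| ≥ 4`; `M` a finite `k`-space with a
nondegenerate alternating form `f`; `H` a group of isometries.  `y : M → Φ` is used only on
`P = ker B` (a linear extension of the map of the blueprint; `LinearMap.exists_extend`).
-/

set_option autoImplicit false

namespace Cfsg.Agent.Omega.NOne.SU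

/-- the quadratic extension: `sg` is the involution, `tr` the trace, `nm` the norm. -/
structure Quad (k F : Type*) [Field k] [Field F] [Algebra k F] where
  sg : F ≃ₐ[k] F
  tr : F →ₗ[k] k
  nm : F → k
  sg_sg : ∀ x, sg (sg x) = x
  fix : ∀ x, sg x = x → ∃ a : k, algebraMap k F a = x
  tr_eq : ∀ x, algebraMap k F (tr x) = x + sg x
  nm_eq : ∀ x, algebraMap k F (nm x) = x * sg x
  card : Nat.card F = Nat.card k ^ 2
  four : 4 ≤ Nat.card k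

/-- **The input of THEOREM UNI.** -/
structure Uni (k F M Φ : Type*) [Field k] [Field F] [Algebra k F] [AddCommGroup M] [Module k M]
    [AddCommGroup Φ] [Module k Φ] [Module F Φ] extends Quad k F where
  /-- the alternating form -/
  f : M →ₗ[k] M →ₗ[k] k
  alt : ∀ m, f m m = 0
  nondeg : ∀ m, (∀ m', f m m' = 0) → m = 0
  /-- the group -/
  H : Subgroup (M ≃ₗ[k] M)
  isom : ∀ g ∈ H, ∀ m m', f (g m) (g m') = f m m'
  /-- the hermitian form on `Φ` -/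
  hm : Φ → Φ → F
  hm_add : ∀ x x' u, hm (x + x') u = hm x u + hm x' u
  hm_smul : ∀ (s : F) x u, hm (s • x) u = s * hm x u
  hm_sym : ∀ x u, hm u x = sg (hm x u)
  hm_nondeg : ∀ x, (∀ u, hm x u = 0) → x = 0
  /-- `e = range ε`, `P = ker B = e^⊥` -/
  ε : F →ₗ[k] M
  ε_inj : Function.Injective ε
  B : M →ₗ[k] F
  fe : ∀ c m, f (ε c) m = tr (c * sg (B m))
  /-- `P/e = Φ` -/
  y : M →ₗ[k] Φ
  y_surj : ∀ x, ∃ m, B m = 0 ∧ y m = x
  y_ker : ∀ m, B m = 0 → (y m = 0 ↔ ∃ c, m = ε c)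
  fy : ∀ m m', B m = 0 → B m' = 0 → f m m' = tr (hm (y m) (y m'))
  /-- the unipotent radical of the stabiliser of `e` -/
  J : Subgroup (M ≃ₗ[k] M)
  J_le : J ≤ H
  χ : (M ≃ₗ[k] M) → Φ
  Je : ∀ j ∈ J, ∀ c, j (ε c) = ε c
  JP : ∀ j ∈ J, ∀ m, B m = 0 → j m = m + ε (hm (y m) (χ j))
  JM : ∀ j ∈ J, ∀ m, B (j m - m) = 0 ∧ y (j m - m) = B m • χ j
  JA : ∀ j ∈ J, χ j = 0 → ∃ a : k, ∀ m, j m = m + ε (a • B m)
  Jall : ∀ x, ∃ j ∈ J, χ j = x
  Jn : ∀ a : k, ∃ j ∈ J, ∀ m, j m = m + ε (a • B m)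
  Jmax : ∀ g ∈ H, (∀ c, g (ε c) = ε c) → (∀ m, B m = 0 → ∃ c, g m - m = ε c) →
    (∀ m, B (g m - m) = 0) → g ∈ J
  /-- an elementary abelian 2-subgroup of the stabiliser of `e` acts on `e` as a group of
  order `≤ 2` -/
  Se : ∀ g ∈ H, ∀ g' ∈ H, g * g' = g' * g → g * g = 1 → g' * g' = 1 →
    (∀ c, ∃ c', g (ε c) = ε c') → (∀ c, ∃ c', g' (ε c) = ε c') →
    (∀ c, g (ε c) = ε c) ∨ (∀ c, g' (ε c) = ε c) ∨ (∀ c, g (g' (ε c)) = ε c)
  /-- the torus -/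
  t : Fˣ →* (M ≃ₗ[k] M)
  tH : ∀ z, ∀ g ∈ H, t z * g * (t z)⁻¹ ∈ H
  te : ∀ (z : Fˣ) c, t z (ε c) = ε ((z : F) * (sg z)⁻¹ * c)
  tB : ∀ (z : Fˣ) m, B (t z m) = (z : F) ^ 2 * B m
  ty : ∀ (z : Fˣ) m, B m = 0 → y (t z m) = (z : F) • y m
  tf : ∀ (z : Fˣ) m m', f (t z m) (t z m') = nm z * f m m'
  /-- the conjugates of `e` span `M` -/
  Om : ∀ N : Submodule k M, (∀ g ∈ H, ∀ c, g (ε c) ∈ N) → N = ⊤

end Cfsg.Agent.Omega.NOne.SU
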