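import Mathlib

/-!
# THE FIELD (step (0) of THEOREM SU, #13356), abstract part

`α : K → Hom(M, N)`, `β : K → Hom(N, M)` additive with `β(1/l) = α(l)⁻¹` and `α(l²m) = α(l) β(m) α(l)`.
Then `θ l = α l ∘ β 1` is a ring homomorphism `K → End N`, `N` and `M` are `K`-modules with `α l = l • α 1`,
`β l = l • β 1`, and `n(l) = (α l, β l⁻¹)` gives the torus `h l = n(l) n(1)` of weights `l` on `N`, `l⁻¹` on `M`.
-/

set_option autoImplicit false

namespace Cfsg.Agent.Omega.NOne.SU

/-- The data of a rank 1 situation: `x(l)` acts as `1 + α l`, `y(l)` as `1 + β l` on `N ⊕ M`. -/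
structure Hua (K : Type*) [Field K] (M N : Type*) [AddCommGroup M] [AddCommGroup N] where
  α : K → M → N
  β : K → N → M
  α_add : ∀ l m m', α l (m + m') = α l m + α l m'
  β_add : ∀ l n n', β l (n + n') = β l n + β l n'
  add_α : ∀ l l' m, α (l + l') m = α l m + α l' m
  add_β : ∀ l l' n, β (l + l') n = β l n + β l' n
  βα : ∀ l, l ≠ 0 → ∀ m, β l⁻¹ (α l m) = m
  αβ : ∀ l, l ≠ 0 → ∀ n, α l (β l⁻¹ n) = n
  hua : ∀ l m x, l ≠ 0 → m ≠ 0 → α (l * l * m) x = α l (β m (α l x))

namespace Hua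

section

variable {K : Type*} [Field K] {M N : Type*} [AddCommGroup M] [AddCommGroup N] (D : Hua K M N)
include D

theorem zero_α (m : M) : D.α 0 m = 0 := by
  have := D.add_α 0 0 m
  simpa using this

theorem zero_β (n : N) : D.β 0 n = 0 := by
  have := D.add_β 0 0 n
  simpa using this

theorem α_zero (l : K) : D.α l 0 = 0 := by
  have := D.α_add l 0 0
  simpa using this

theorem β_zero (l : K) : D.β l 0 = 0 := by
  have := D.β_add l 0 0
  simpa using this

theorem β1α (m : M) : D.β 1 (D.α 1 m) = m := by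
  have := D.βα 1 one_ne_zero m
  simpa using this

theorem α1β (n : N) : D.α 1 (D.β 1 n) = n := by
  have := D.αβ 1 one_ne_zero n
  simpa using this

theorem hua' (l m : K) (x : M) : D.α (l * l * m) x = D.α l (D.β m (D.α l x)) := by
  by_cases hl : l = 0
  · subst hl
    rw [zero_mul, zero_mul, D.zero_α, D.zero_α]
  by_cases hm : m = 0
  · subst hm
    rw [mul_zero, D.zero_α, D.zero_β, D.α_zero]
  exact D.hua l m x hl hm

/-- `β m = β 1 ∘ α m ∘ β 1` -/
theorem β_eq (m : K) (n : N) : D.β m n = D.β 1 (D.α m (D.β 1 n)) := by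
  have := D.hua' 1 m (D.β 1 n)
  rw [one_mul, one_mul, D.α1β] at this
  rw [this, D.β1α]

variable [CharP K 2]

omit D in
theorem h2 : (1 : K) + 1 = 0 := CharTwo.add_self_eq_zero (1 : K)

theorem two_N (n : N) : n + n = 0 := by
  have := D.add_α 1 1 (D.β 1 n)
  rw [D.α1β, h2, D.zero_α] at this
  exact this.symm

theorem two_M (m : M) : m + m = 0 := by
  have := D.add_β 1 1 (D.α 1 m)
  rw [D.β1α, h2, D.zero_β] at this
  exact this.symm

theorem eq_of_add {a b : N} (h : a + b = 0) : a = b := by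
  have h1 := D.two_N b
  exact add_right_cancel (h.trans h1.symm)

/-- the linearised relation -/
theorem lin (l m n : K) (x : M) : D.α l (D.β m (D.α n x)) = D.α n (D.β m (D.α l x)) := by
  have h1 := D.hua' (l + n) m x
  have h3 : (l + n) * (l + n) * m = l * l * m + n * n * m := by
    have : l * n + n * l = 0 := by rw [mul_comm n l]; exact CharTwo.add_self_eq_zero _
    calc (l + n) * (l + n) * m = l * l * m + n * n * m + (l * n + n * l) * m := by ring
      _ = l * l * m + n * n * m := by rw [this]; ring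
  rw [h3, D.add_α, D.hua', D.hua', D.add_α l n (D.β m (D.α (l + n) x)), D.add_α l n x,
    (by intro a b; exact D.β_add m a b : ∀ a b, D.β m (a + b) = D.β m a + D.β m b),
    D.α_add, D.α_add] at h1
  apply D.eq_of_add
  have h4 : D.α l (D.β m (D.α l x)) + D.α n (D.β m (D.α n x)) =
      (D.α l (D.β m (D.α l x)) + D.α n (D.β m (D.α n x))) +
        (D.α l (D.β m (D.α n x)) + D.α n (D.β m (D.α l x))) := by
    refine h1.trans ?_
    abel
  exact (left_eq_add.mp h4)

/-- `θ l = α l ∘ β 1` on `N` -/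
theorem θ_comm (l n : K) (x : N) : D.α l (D.β 1 (D.α n (D.β 1 x))) = D.α n (D.β 1 (D.α l (D.β 1 x))) :=
  D.lin l 1 n _

theorem θ_sq (l m : K) (x : N) : D.α (l * l * m) (D.β 1 x) =
    D.α (l * l) (D.β 1 (D.α m (D.β 1 x))) := by
  have e : ∀ y : M, D.α (l * l) y = D.α l (D.β 1 (D.α l y)) := fun y => by
    have := D.hua' l 1 y
    rwa [mul_one] at this
  rw [D.hua', D.β_eq m, e, D.θ_comm m l]

theorem θ_mul (hsq : ∀ a : K, ∃ l, a = l * l) (a m : K) (x : N) :
    D.α (a * m) (D.β 1 x) = D.α a (D.β 1 (D.α m (D.β 1 x))) := by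
  obtain ⟨l, rfl⟩ := hsq a
  exact D.θ_sq l m x

theorem θ_mul' [Finite K] (a m : K) (x : N) :
    D.α (a * m) (D.β 1 x) = D.α a (D.β 1 (D.α m (D.β 1 x))) :=
  D.θ_mul (fun a => by
    obtain ⟨l, hl⟩ := FiniteField.isSquare_of_char_two (F := K) (ringChar.eq K 2) a
    exact ⟨l, hl⟩) a m x

end

section

variable {K : Type*} [Field K] [Finite K] [CharP K 2] {M N : Type*} [AddCommGroup M] [AddCommGroup N]
  (D : Hua K M N)

/-- **the ring homomorphism** `θ : K → End N`, `θ l = α l ∘ β 1`. -/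
def θ : K →+* AddMonoid.End N where
  toFun l :=
    { toFun := fun n => D.α l (D.β 1 n)
      map_zero' := by rw [D.β_zero, D.α_zero]
      map_add' := fun a b => by rw [D.β_add, D.α_add] }
  map_one' := by
    ext n
    exact D.α1β n
  map_mul' a b := by
    ext n
    exact D.θ_mul' a b n
  map_zero' := by
    ext n
    exact D.zero_α _
  map_add' a b := by
    ext n
    exact D.add_α a b _

theorem θ_apply (l : K) (n : N) : D.θ l n = D.α l (D.β 1 n) := rfl

/-- the ring homomorphism `K → End M`, `l ↦ β 1 ∘ α l`. -/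
def θ' : K →+* AddMonoid.End M where
  toFun l :=
    { toFun := fun m => D.β 1 (D.α l m)
      map_zero' := by rw [D.α_zero, D.β_zero]
      map_add' := fun a b => by rw [D.α_add, D.β_add] }
  map_one' := by
    ext m
    exact D.β1α m
  map_mul' a b := by
    ext m
    have := D.θ_mul' a b (D.α 1 m)
    rw [D.β1α] at this
    exact congrArg (D.β 1) this
  map_zero' := by
    ext m
    change D.β 1 (D.α 0 m) = 0
    rw [D.zero_α, D.β_zero]
  map_add' a b := by
    ext m
    change D.β 1 (D.α (a + b) m) = D.β 1 (D.α a m) + D.β 1 (D.α b m)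
    rw [D.add_α, D.β_add]

theorem θ'_apply (l : K) (m : M) : D.θ' l m = D.β 1 (D.α l m) := rfl

theorem α_eq (l : K) (m : M) : D.α l m = D.θ l (D.α 1 m) := by
  rw [D.θ_apply, D.β1α]

theorem α_eq' (l : K) (m : M) : D.α l m = D.α 1 (D.θ' l m) := by
  rw [D.θ'_apply, D.α1β]

theorem β_eq' (l : K) (n : N) : D.β l n = D.β 1 (D.θ l n) := D.β_eq l n

theorem β_eq'' (l : K) (n : N) : D.β l n = D.θ' l (D.β 1 n) := by
  rw [D.β_eq, D.θ'_apply]

theorem θ_mul_ap (l c : K) (n : N) : D.θ (l * c) n = D.θ l (D.θ c n) := by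
  rw [map_mul]; rfl

theorem θ'_mul_ap (l c : K) (m : M) : D.θ' (l * c) m = D.θ' l (D.θ' c m) := by
  rw [map_mul]; rfl

/-- `α 1` is `K`-linear -/
theorem α1_smul (c : K) (m : M) : D.α 1 (D.θ' c m) = D.θ c (D.α 1 m) := by
  rw [← D.α_eq', D.α_eq]

/-- `β 1` is `K`-linear -/
theorem β1_smul (c : K) (n : N) : D.β 1 (D.θ c n) = D.θ' c (D.β 1 n) := by
  rw [← D.β_eq', D.β_eq'']

/-- `α l` is `K`-linear -/
theorem α_smul (l c : K) (m : M) : D.α l (D.θ' c m) = D.θ c (D.α l m) := by
  rw [D.α_eq' l, ← D.θ'_mul_ap, mul_comm, D.θ'_mul_ap, D.α1_smul, ← D.α_eq']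

/-- `β l` is `K`-linear -/
theorem β_smul (l c : K) (n : N) : D.β l (D.θ c n) = D.θ' c (D.β l n) := by
  rw [D.β_eq' l, ← D.θ_mul_ap, mul_comm, D.θ_mul_ap, D.β1_smul, ← D.β_eq']

/-- the torus element `h l = n(l) n(1)` has weight `l` on `N` -/
theorem torus_N (l : K) (n : N) : D.α l (D.β 1 n) = D.θ l n := rfl

/-- the torus element `h l = n(l) n(1)` has weight `l⁻¹` on `M` -/
theorem torus_M (l : K) (m : M) : D.β l⁻¹ (D.α 1 m) = D.θ' l⁻¹ m := by
  rw [D.β_eq'', D.β1α]

/-- `N` as a `K`-module -/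
@[reducible] def modN : Module K N := Module.compHom N D.θ

/-- `M` as a `K`-module -/
@[reducible] def modM : Module K M := Module.compHom M D.θ'

/-- a pair of additive maps commuting with `α` (e.g. from an element of `C_G(V)`) is `K`-linear on `N` -/
theorem comm_of (u : N → N) (w : M → M) (hu : ∀ l m, D.α l (w m) = u (D.α l m)) (l : K) (n : N) :
    u (D.θ l n) = D.θ l (u n) := by
  have h1 := hu 1 (D.β 1 n)
  rw [D.α1β] at h1
  have h2 : D.β 1 (u n) = w (D.β 1 n) := by rw [← h1, D.β1α]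
  rw [D.θ_apply, D.θ_apply, h2, hu]

end

end Hua

end Cfsg.Agent.Omega.NOne.SU
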