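import Cfsg.Agent.Omega.NOne.SU.Field

/-!
# THE FIELD (step (0) of THEOREM SU, #13356), group part

`Frm K A B x y` : `x l` acts on `A × B` (elementary abelian) trivially on `A` and `(A B) / A`, `y l` trivially on `B` and
`(A B) / B`, `x`, `y` additive, `y l⁻¹` is matched with `x l`, and `n(l) y(m) n(l)⁻¹ ≡ x(l² m)` for `n(l) = x(l) y(l⁻¹) x(l)`.
`Frm.toHua` is the resulting `Hua K (Additive B) (Additive A)`.
-/

set_option autoImplicit false

namespace Cfsg.Agent.Omega.NOne.SU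

/-- the commutator `[x, b] = x b x⁻¹ b⁻¹` -/
abbrev cm {Γ : Type*} [Group Γ] (x b : Γ) : Γ := x * b * x⁻¹ * b⁻¹

/-- The frame of a rank 1 group over `K` acting on `A × B`. -/
structure Frm (K : Type*) [Field K] {Γ : Type*} [Group Γ] (A B : Subgroup Γ) (x y : K → Γ) : Prop where
  AA : ∀ a ∈ A, ∀ a' ∈ A, a * a' = a' * a
  BB : ∀ b ∈ B, ∀ b' ∈ B, b * b' = b' * b
  AB : ∀ a ∈ A, ∀ b ∈ B, a * b = b * a
  A2 : ∀ a ∈ A, a * a = 1
  B2 : ∀ b ∈ B, b * b = 1
  xA : ∀ l, ∀ a ∈ A, x l * a = a * x l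
  yB : ∀ l, ∀ b ∈ B, y l * b = b * y l
  xB : ∀ l, ∀ b ∈ B, cm (x l) b ∈ A
  yA : ∀ l, ∀ a ∈ A, cm (y l) a ∈ B
  x_add : ∀ l m, ∃ a ∈ A, x (l + m) = x l * x m * a
  y_add : ∀ l m, ∃ b ∈ B, y (l + m) = y l * y m * b
  mA : ∀ l, l ≠ 0 → ∀ a ∈ A, cm (x l) (cm (y l⁻¹) a) = a
  mB : ∀ l, l ≠ 0 → ∀ b ∈ B, cm (y l⁻¹) (cm (x l) b) = b
  hua : ∀ l m, l ≠ 0 → m ≠ 0 →
    ∃ a ∈ A, (x l * y l⁻¹ * x l) * y m * (x l * y l⁻¹ * x l)⁻¹ = x (l * l * m) * a

theorem cm_mul_right {Γ : Type*} [Group Γ] {x b b' : Γ} (h : b * cm x b' = cm x b' * b) :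
    cm x (b * b') = cm x b * cm x b' := by
  have h1 : cm x (b * b') = cm x b * (b * cm x b') * b⁻¹ := by simp only [cm]; group
  rw [h1, h]
  group

theorem cm_mul_left {Γ : Type*} [Group Γ] {x x' b : Γ} (h : x * cm x' b = cm x' b * x) :
    cm (x * x') b = cm x' b * cm x b := by
  have h1 : cm (x * x') b = x * cm x' b * b * x⁻¹ * b⁻¹ := by simp only [cm]; group
  rw [h1, h]
  simp only [cm]; group

theorem cm_mul_comm {Γ : Type*} [Group Γ] {x a b : Γ} (h : a * b = b * a) :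
    cm (x * a) b = cm x b := by
  have h1 : cm (x * a) b = x * (a * b) * a⁻¹ * x⁻¹ * b⁻¹ := by simp only [cm]; group
  rw [h1, h]
  simp only [cm]; group

namespace Frm

variable {K : Type*} [Field K] {Γ : Type*} [Group Γ] {A B : Subgroup Γ} {x y : K → Γ} (F : Frm K A B x y)
include F

theorem cx_mul {l : K} {b b' : Γ} (hb : b ∈ B) (hb' : b' ∈ B) : cm (x l) (b * b') = cm (x l) b * cm (x l) b' :=
  cm_mul_right (F.AB _ (F.xB l b' hb') b hb).symm

theorem cy_mul {l : K} {a a' : Γ} (ha : a ∈ A) (ha' : a' ∈ A) : cm (y l) (a * a') = cm (y l) a * cm (y l) a' :=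
  cm_mul_right (F.AB a ha _ (F.yA l a' ha'))

theorem cx_add {l m : K} {b : Γ} (hb : b ∈ B) : cm (x (l + m)) b = cm (x l) b * cm (x m) b := by
  obtain ⟨a, ha, h⟩ := F.x_add l m
  rw [h, cm_mul_comm (F.AB a ha b hb), cm_mul_left (F.xA l _ (F.xB m b hb)),
    F.AA _ (F.xB m b hb) _ (F.xB l b hb)]

theorem cy_add {l m : K} {a : Γ} (ha : a ∈ A) : cm (y (l + m)) a = cm (y l) a * cm (y m) a := by
  obtain ⟨b, hb, h⟩ := F.y_add l m
  rw [h, cm_mul_comm (F.AB a ha b hb).symm, cm_mul_left (F.yB l _ (F.yA m a ha)),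
    F.BB _ (F.yA m a ha) _ (F.yA l a ha)]

/-- `n(l)` maps `b` to `[x l, b]` -/
theorem n_B {l : K} (hl : l ≠ 0) {b : Γ} (hb : b ∈ B) :
    (x l * y l⁻¹ * x l) * b * (x l * y l⁻¹ * x l)⁻¹ = cm (x l) b := by
  have ha := F.xB l b hb
  have e1 : x l * b = cm (x l) b * b * x l := by simp only [cm]; group
  have e2 : y l⁻¹ * cm (x l) b = b * cm (x l) b * y l⁻¹ := by
    have := F.mB l hl b hb
    calc y l⁻¹ * cm (x l) b = cm (y l⁻¹) (cm (x l) b) * cm (x l) b * y l⁻¹ := by
          simp only [cm]; group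
      _ = b * cm (x l) b * y l⁻¹ := by rw [this]
  generalize cm (x l) b = a at *
  rw [mul_inv_eq_iff_eq_mul]
  calc x l * y l⁻¹ * x l * b = x l * y l⁻¹ * (x l * b) := by group
    _ = x l * (y l⁻¹ * a) * b * x l := by rw [e1]; group
    _ = x l * b * a * (y l⁻¹ * b) * x l := by rw [e2]; group
    _ = x l * (b * a) * b * y l⁻¹ * x l := by rw [F.yB _ b hb]; group
    _ = x l * a * (b * b) * y l⁻¹ * x l := by rw [← F.AB a ha b hb]; group
    _ = a * (x l * y l⁻¹ * x l) := by rw [F.B2 b hb, F.xA l a ha]; group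

/-- `n(l)` maps `a` to `[y l⁻¹, a]` -/
theorem n_A {l : K} (hl : l ≠ 0) {a : Γ} (ha : a ∈ A) :
    (x l * y l⁻¹ * x l) * a * (x l * y l⁻¹ * x l)⁻¹ = cm (y l⁻¹) a := by
  have hb := F.yA l⁻¹ a ha
  have e1 : y l⁻¹ * a = cm (y l⁻¹) a * a * y l⁻¹ := by simp only [cm]; group
  have e2 : x l * cm (y l⁻¹) a = a * cm (y l⁻¹) a * x l := by
    have := F.mA l hl a ha
    calc x l * cm (y l⁻¹) a = cm (x l) (cm (y l⁻¹) a) * cm (y l⁻¹) a * x l := by
          simp only [cm]; group
      _ = a * cm (y l⁻¹) a * x l := by rw [this]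
  generalize cm (y l⁻¹) a = b at *
  rw [mul_inv_eq_iff_eq_mul]
  calc x l * y l⁻¹ * x l * a = x l * y l⁻¹ * (x l * a) := by group
    _ = x l * (y l⁻¹ * a) * x l := by rw [F.xA l a ha]; group
    _ = (x l * b) * a * y l⁻¹ * x l := by rw [e1]; group
    _ = a * b * (x l * a) * y l⁻¹ * x l := by rw [e2]; group
    _ = (a * b) * a * x l * y l⁻¹ * x l := by rw [F.xA l a ha]; group
    _ = b * (a * a) * x l * y l⁻¹ * x l := by rw [F.AB a ha b hb]; group
    _ = b * (x l * y l⁻¹ * x l) := by rw [F.A2 a ha]; group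

theorem cx_hua {l m : K} (hl : l ≠ 0) (hm : m ≠ 0) {b : Γ} (hb : b ∈ B) :
    cm (x (l * l * m)) b = cm (x l) (cm (y m) (cm (x l) b)) := by
  obtain ⟨a, ha, h⟩ := F.hua l m hl hm
  have ha' := F.xB l b hb
  have h1 : cm (x (l * l * m)) b = cm (x (l * l * m) * a) b := (cm_mul_comm (F.AB a ha b hb)).symm
  rw [h1, ← h]
  have h2 : (x l * y l⁻¹ * x l) * cm (x l) b * (x l * y l⁻¹ * x l)⁻¹ = b := by
    rw [F.n_A hl ha', F.mB l hl b hb]
  have h3 := F.n_B hl (F.yA m _ ha')
  rw [← h3]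
  generalize cm (x l) b = a' at *
  generalize x l * y l⁻¹ * x l = n at *
  rw [← h2]
  simp only [cm]; group

/-- `A` is commutative -/
@[reducible] def commA : CommGroup ↥A :=
  { (inferInstance : Group ↥A) with mul_comm := fun a b => Subtype.ext (F.AA a a.2 b b.2) }

/-- `B` is commutative -/
@[reducible] def commB : CommGroup ↥B :=
  { (inferInstance : Group ↥B) with mul_comm := fun a b => Subtype.ext (F.BB a a.2 b b.2) }

/-- **THE FIELD** -/
def toHua : @Hua K _ (Additive ↥B) (Additive ↥A) (@Additive.addCommGroup _ F.commB)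
    (@Additive.addCommGroup _ F.commA) := by
  letI := F.commA
  letI := F.commB
  exact
  { α := fun l b => Additive.ofMul ⟨cm (x l) (Additive.toMul b : ↥B), F.xB l _ (Additive.toMul b).2⟩
    β := fun l a => Additive.ofMul ⟨cm (y l) (Additive.toMul a : ↥A), F.yA l _ (Additive.toMul a).2⟩
    α_add := fun l b b' => by
      apply Additive.toMul.injective
      apply Subtype.ext
      exact F.cx_mul (Additive.toMul b).2 (Additive.toMul b').2
    β_add := fun l b b' => by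
      apply Additive.toMul.injective
      apply Subtype.ext
      exact F.cy_mul (Additive.toMul b).2 (Additive.toMul b').2
    add_α := fun l l' b => by
      apply Additive.toMul.injective
      apply Subtype.ext
      exact F.cx_add (Additive.toMul b).2
    add_β := fun l l' b => by
      apply Additive.toMul.injective
      apply Subtype.ext
      exact F.cy_add (Additive.toMul b).2
    βα := fun l hl b => by
      apply Additive.toMul.injective
      apply Subtype.ext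
      exact F.mB l hl _ (Additive.toMul b).2
    αβ := fun l hl b => by
      apply Additive.toMul.injective
      apply Subtype.ext
      exact F.mA l hl _ (Additive.toMul b).2
    hua := fun l m b hl hm => by
      apply Additive.toMul.injective
      apply Subtype.ext
      exact F.cx_hua hl hm (Additive.toMul b).2 }

end Frm

end Cfsg.Agent.Omega.NOne.SU
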