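import Cfsg.Agent.Omega.NOne.SU.ScalForm

/-!
# THEOREM UNI, group part: the quotient `W = Q/R` and the commutator form

`Sp k Q R a` : `[Q,Q] ≤ R ≤ Z(Q)`, squares in `R`, `Z(Q) = R`, and `a : k → R` is an additive bijection.
`Sp.W` is `Q/R`, `Sp.pr : G → W` the projection (used on `Q`), `Sp.form` the commutator form with values in `k`.
-/

set_option autoImplicit false

open Subgroup

namespace Cfsg.Agent.Omega.NOne.SU

variable {G : Type*} [Group G] {k : Type*} [Field k]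

/-- `Q` is special with centre `R ≅ (k, +)`. -/
structure Sp (Q R : Subgroup G) (a : k → G) : Prop where
  le : R ≤ Q
  comm : ∀ x ∈ Q, ∀ y ∈ Q, x * y * x⁻¹ * y⁻¹ ∈ R
  cen : ∀ r ∈ R, ∀ y ∈ Q, r * y = y * r
  sq : ∀ x ∈ Q, x * x ∈ R
  cent : ∀ x ∈ Q, (∀ y ∈ Q, x * y = y * x) → x ∈ R
  a_add : ∀ s t, a (s + t) = a s * a t
  a_mem : ∀ s, a s ∈ R
  a_surj : ∀ r ∈ R, ∃ s, a s = r
  a_inj : Function.Injective a
  two : (2 : k) = 0

namespace Sp

variable {Q R : Subgroup G} {a : k → G}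

theorem normal (h : Sp Q R a) : (R.subgroupOf Q).Normal := by
  refine ⟨fun n hn g => ?_⟩
  rw [mem_subgroupOf] at hn ⊢
  have h1 := h.cen _ hn g g.2
  have h2 : ((g * n * g⁻¹ : Q) : G) = n := by
    show (g : G) * n * (g : G)⁻¹ = n
    rw [← h1]; group
  rw [h2]; exact hn

/-- `W = Q/R` -/
def W (_h : Sp Q R a) : Type _ := Additive (Q ⧸ R.subgroupOf Q)

noncomputable instance (h : Sp Q R a) : AddCommGroup (W h) :=
  letI := h.normal
  letI : CommGroup (Q ⧸ R.subgroupOf Q) :=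
    { (inferInstance : Group (Q ⧸ R.subgroupOf Q)) with
      mul_comm := by
        intro x y
        obtain ⟨x, rfl⟩ := QuotientGroup.mk_surjective x
        obtain ⟨y, rfl⟩ := QuotientGroup.mk_surjective y
        rw [← QuotientGroup.mk_mul, ← QuotientGroup.mk_mul, QuotientGroup.eq, mem_subgroupOf]
        have := h.comm _ (inv_mem y.2) _ (inv_mem x.2)
        have e : (((x * y)⁻¹ * (y * x) : Q) : G) = (y : G)⁻¹ * (x : G)⁻¹ * ((y : G)⁻¹)⁻¹ * ((x : G)⁻¹)⁻¹ := by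
          simp [mul_assoc]
        rw [e]; exact this }
  inferInstanceAs (AddCommGroup (Additive (Q ⧸ R.subgroupOf Q)))

/-- the projection `Q → W` -/
def mkW (h : Sp Q R a) (x : Q) : W h := Additive.ofMul (x : Q ⧸ R.subgroupOf Q)

theorem mkW_mul (h : Sp Q R a) (x y : Q) : h.mkW (x * y) = h.mkW x + h.mkW y := rfl

theorem mkW_surj (h : Sp Q R a) (w : W h) : ∃ x, h.mkW x = w := by
  obtain ⟨x, hx⟩ := QuotientGroup.mk_surjective (Additive.toMul (α := Q ⧸ R.subgroupOf Q) w)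
  exact ⟨x, congrArg Additive.ofMul hx⟩

theorem mkW_eq_zero (h : Sp Q R a) (x : Q) : h.mkW x = 0 ↔ (x : G) ∈ R := by
  have := h.normal
  have h1 : h.mkW x = 0 ↔ (x : Q ⧸ R.subgroupOf Q) = 1 := Iff.rfl
  rw [h1, QuotientGroup.eq_one_iff, mem_subgroupOf]

open Classical in
/-- the projection `Q → W`, as a function on `G` -/
noncomputable def pr (h : Sp Q R a) (x : G) : W h :=
  if hx : x ∈ Q then h.mkW ⟨x, hx⟩ else 0

theorem pr_of (h : Sp Q R a) {x : G} (hx : x ∈ Q) : h.pr x = h.mkW ⟨x, hx⟩ := by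
  unfold pr
  rw [dif_pos hx]

theorem pr_mul (h : Sp Q R a) {x y : G} (hx : x ∈ Q) (hy : y ∈ Q) : h.pr (x * y) = h.pr x + h.pr y := by
  rw [h.pr_of hx, h.pr_of hy, h.pr_of (mul_mem hx hy), ← mkW_mul]
  rfl

theorem pr_surj (h : Sp Q R a) (w : W h) : ∃ x ∈ Q, h.pr x = w := by
  obtain ⟨x, hx⟩ := h.mkW_surj w
  exact ⟨x, x.2, by rw [h.pr_of x.2]; exact hx⟩

theorem pr_eq_zero (h : Sp Q R a) {x : G} (hx : x ∈ Q) : h.pr x = 0 ↔ x ∈ R := by
  rw [h.pr_of hx, h.mkW_eq_zero]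

theorem pr_one (h : Sp Q R a) : h.pr 1 = 0 := (h.pr_eq_zero (one_mem Q)).2 (one_mem R)

theorem pr_inv (h : Sp Q R a) {x : G} (hx : x ∈ Q) : h.pr x⁻¹ = - h.pr x := by
  have := h.pr_mul (inv_mem hx) hx
  rw [inv_mul_cancel, h.pr_one] at this
  exact eq_neg_of_add_eq_zero_left this.symm

theorem pr_eq (h : Sp Q R a) {x y : G} (hx : x ∈ Q) (hy : y ∈ Q) : h.pr x = h.pr y ↔ x * y⁻¹ ∈ R := by
  rw [← h.pr_eq_zero (mul_mem hx (inv_mem hy)), h.pr_mul hx (inv_mem hy), h.pr_inv hy, ← sub_eq_add_neg,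
    sub_eq_zero]

theorem add_self (h : Sp Q R a) (w : W h) : w + w = 0 := by
  obtain ⟨x, hx, rfl⟩ := h.pr_surj w
  rw [← h.pr_mul hx hx, h.pr_eq_zero (mul_mem hx hx)]
  exact h.sq x hx

theorem neg_eq (h : Sp Q R a) (w : W h) : - w = w := by
  have := h.add_self w
  exact neg_eq_of_add_eq_zero_left this

theorem sub_eq (h : Sp Q R a) (w w' : W h) : w - w' = w + w' := by
  rw [sub_eq_add_neg, h.neg_eq]

/-- the inverse of `a : k → R` -/
noncomputable def co (_h : Sp Q R a) (r : G) : k := Function.invFun a r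

theorem co_a (h : Sp Q R a) (s : k) : h.co (a s) = s := Function.leftInverse_invFun h.a_inj s

theorem a_co (h : Sp Q R a) {r : G} (hr : r ∈ R) : a (h.co r) = r := by
  obtain ⟨s, rfl⟩ := h.a_surj r hr
  rw [h.co_a]

theorem co_mul (h : Sp Q R a) {r t : G} (hr : r ∈ R) (ht : t ∈ R) : h.co (r * t) = h.co r + h.co t := by
  obtain ⟨s, rfl⟩ := h.a_surj r hr
  obtain ⟨u, rfl⟩ := h.a_surj t ht
  rw [← h.a_add, h.co_a, h.co_a, h.co_a]

theorem a_zero (h : Sp Q R a) : a 0 = 1 := by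
  have := h.a_add 0 0
  rw [add_zero] at this
  exact (mul_eq_left (a := a 0)).1 this.symm

theorem co_one (h : Sp Q R a) : h.co 1 = 0 := by
  rw [← h.a_zero, h.co_a]

theorem co_inj (h : Sp Q R a) {r t : G} (hr : r ∈ R) (ht : t ∈ R) (H : h.co r = h.co t) : r = t := by
  rw [← h.a_co hr, ← h.a_co ht, H]

theorem co_eq_zero (h : Sp Q R a) {r : G} (hr : r ∈ R) : h.co r = 0 ↔ r = 1 := by
  constructor
  · intro H
    rw [← h.a_co hr, H, h.a_zero]
  · rintro rfl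
    exact h.co_one

theorem r_sq (h : Sp Q R a) {r : G} (hr : r ∈ R) : r * r = 1 := by
  obtain ⟨s, rfl⟩ := h.a_surj r hr
  rw [← h.a_add, ← two_mul, h.two, zero_mul, h.a_zero]

theorem r_inv (h : Sp Q R a) {r : G} (hr : r ∈ R) : r⁻¹ = r := inv_eq_of_mul_eq_one_left (h.r_sq hr)

theorem co_inv (h : Sp Q R a) {r : G} (hr : r ∈ R) : h.co r⁻¹ = h.co r := by rw [h.r_inv hr]

/-- representative -/
noncomputable def rep (h : Sp Q R a) (w : W h) : G := (h.pr_surj w).choose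

theorem rep_mem (h : Sp Q R a) (w : W h) : h.rep w ∈ Q := (h.pr_surj w).choose_spec.1

theorem pr_rep (h : Sp Q R a) (w : W h) : h.pr (h.rep w) = w := (h.pr_surj w).choose_spec.2

/-- the commutator form -/
noncomputable def form (h : Sp Q R a) (w w' : W h) : k :=
  h.co (h.rep w * h.rep w' * (h.rep w)⁻¹ * (h.rep w')⁻¹)

theorem comm_left (h : Sp Q R a) {x x' y : G} (hx : x ∈ Q) (hx' : x' ∈ Q) (hy : y ∈ Q) :
    (x * x') * y * (x * x')⁻¹ * y⁻¹ = (x * y * x⁻¹ * y⁻¹) * (x' * y * x'⁻¹ * y⁻¹) := by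
  have h1 := h.comm x' hx' y hy
  have h2 := h.cen _ h1 (x * y * x⁻¹ * y⁻¹) (h.le (h.comm x hx y hy))
  have h3 := h.cen _ h1 x hx
  calc (x * x') * y * (x * x')⁻¹ * y⁻¹ = x * (x' * y * x'⁻¹ * y⁻¹) * y * x⁻¹ * y⁻¹ := by group
    _ = (x' * y * x'⁻¹ * y⁻¹) * x * y * x⁻¹ * y⁻¹ := by rw [← h3]
    _ = (x' * y * x'⁻¹ * y⁻¹) * (x * y * x⁻¹ * y⁻¹) := by group
    _ = _ := h2

theorem comm_right (h : Sp Q R a) {x y y' : G} (hx : x ∈ Q) (hy : y ∈ Q) (hy' : y' ∈ Q) :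
    x * (y * y') * x⁻¹ * (y * y')⁻¹ = (x * y * x⁻¹ * y⁻¹) * (x * y' * x⁻¹ * y'⁻¹) := by
  have h1 := h.comm x hx y' hy'
  have h3 := h.cen _ h1 y hy
  calc x * (y * y') * x⁻¹ * (y * y')⁻¹ = x * y * x⁻¹ * (x * y' * x⁻¹ * y'⁻¹) * y⁻¹ := by group
    _ = x * y * x⁻¹ * ((x * y' * x⁻¹ * y'⁻¹) * y⁻¹) := by group
    _ = x * y * x⁻¹ * (y⁻¹ * (x * y' * x⁻¹ * y'⁻¹)) := by
        rw [h.cen _ h1 y⁻¹ (inv_mem hy)]
    _ = _ := by group

theorem comm_eq_of_pr (h : Sp Q R a) {x x' y y' : G} (hx : x ∈ Q) (hx' : x' ∈ Q) (hy : y ∈ Q) (hy' : y' ∈ Q)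
    (e : h.pr x = h.pr x') (e' : h.pr y = h.pr y') : x * y * x⁻¹ * y⁻¹ = x' * y' * x'⁻¹ * y'⁻¹ := by
  rw [h.pr_eq hx hx'] at e
  rw [h.pr_eq hy hy'] at e'
  have e1 : x = (x * x'⁻¹) * x' := by group
  have e2 : y = (y * y'⁻¹) * y' := by group
  have z1 : ∀ r ∈ R, ∀ u ∈ Q, r * u * r⁻¹ * u⁻¹ = 1 := by
    intro r hr u hu
    rw [h.cen r hr u hu]; group
  have z2 : ∀ r ∈ R, ∀ u ∈ Q, u * r * u⁻¹ * r⁻¹ = 1 := by
    intro r hr u hu
    rw [← h.cen r hr u hu]; group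
  calc x * y * x⁻¹ * y⁻¹ = ((x * x'⁻¹) * x') * y * ((x * x'⁻¹) * x')⁻¹ * y⁻¹ := by rw [← e1]
    _ = x' * y * x'⁻¹ * y⁻¹ := by rw [h.comm_left (h.le e) hx' hy, z1 _ e _ hy, one_mul]
    _ = x' * ((y * y'⁻¹) * y') * x'⁻¹ * ((y * y'⁻¹) * y')⁻¹ := by rw [← e2]
    _ = _ := by rw [h.comm_right hx' (h.le e') hy', z2 _ e' _ hx', one_mul]

theorem form_pr (h : Sp Q R a) {x y : G} (hx : x ∈ Q) (hy : y ∈ Q) :
    h.form (h.pr x) (h.pr y) = h.co (x * y * x⁻¹ * y⁻¹) := by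
  unfold form
  rw [h.comm_eq_of_pr (h.rep_mem _) hx (h.rep_mem _) hy (h.pr_rep _) (h.pr_rep _)]

theorem form_add_left (h : Sp Q R a) (x x' y : W h) : h.form (x + x') y = h.form x y + h.form x' y := by
  obtain ⟨x, hx, rfl⟩ := h.pr_surj x
  obtain ⟨x', hx', rfl⟩ := h.pr_surj x'
  obtain ⟨y, hy, rfl⟩ := h.pr_surj y
  rw [← h.pr_mul hx hx', h.form_pr (mul_mem hx hx') hy, h.form_pr hx hy, h.form_pr hx' hy,
    h.comm_left hx hx' hy, h.co_mul (h.comm x hx y hy) (h.comm x' hx' y hy)]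

theorem form_alt (h : Sp Q R a) (x : W h) : h.form x x = 0 := by
  obtain ⟨x, hx, rfl⟩ := h.pr_surj x
  rw [h.form_pr hx hx]
  have : x * x * x⁻¹ * x⁻¹ = 1 := by group
  rw [this, h.co_one]

theorem form_symm (h : Sp Q R a) (x y : W h) : h.form x y = h.form y x := by
  obtain ⟨x, hx, rfl⟩ := h.pr_surj x
  obtain ⟨y, hy, rfl⟩ := h.pr_surj y
  rw [h.form_pr hx hy, h.form_pr hy hx]
  have : x * y * x⁻¹ * y⁻¹ = (y * x * y⁻¹ * x⁻¹)⁻¹ := by group
  rw [this, h.co_inv (h.comm y hy x hx)]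

theorem form_add_right (h : Sp Q R a) (x y y' : W h) : h.form x (y + y') = h.form x y + h.form x y' := by
  rw [h.form_symm, h.form_add_left, h.form_symm y, h.form_symm y']

theorem form_nondeg (h : Sp Q R a) (x : W h) (H : ∀ y, h.form x y = 0) : x = 0 := by
  obtain ⟨x, hx, rfl⟩ := h.pr_surj x
  rw [h.pr_eq_zero hx]
  apply h.cent x hx
  intro y hy
  have h1 := H (h.pr y)
  rw [h.form_pr hx hy, h.co_eq_zero (h.comm x hx y hy)] at h1
  calc x * y = (x * y * x⁻¹ * y⁻¹) * (y * x) := by group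
    _ = y * x := by rw [h1, one_mul]

theorem finite (h : Sp Q R a) [Finite G] : Finite (W h) :=
  inferInstanceAs (Finite (Q ⧸ R.subgroupOf Q))

/-- The elements of `W` on which the scalars act form a subgroup. -/
theorem scal_of (h : Sp Q R a)
    (H : ∀ N : AddSubgroup (W h), (∀ w, (∀ s : k, ∃ w', ∀ y, h.form w' y = s * h.form w y) → w ∈ N) → N = ⊤) :
    Scal h.form where
  add_left := h.form_add_left
  add_right := h.form_add_right
  alt := h.form_alt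
  symm := h.form_symm
  nondeg := h.form_nondeg
  ex s x := by
    let N : AddSubgroup (W h) :=
      { carrier := {w | ∀ s : k, ∃ w', ∀ y, h.form w' y = s * h.form w y}
        zero_mem' := fun s => ⟨0, fun y => by
          have h0 : h.form 0 y = 0 := by
            have := h.form_add_left 0 0 y
            rw [add_zero] at this
            simpa using this
          rw [h0, mul_zero]⟩
        add_mem' := fun {x y} hx hy s => by
          obtain ⟨x', hx'⟩ := hx s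
          obtain ⟨y', hy'⟩ := hy s
          exact ⟨x' + y', fun u => by rw [h.form_add_left, h.form_add_left, hx', hy', mul_add]⟩
        neg_mem' := fun {x} hx => by rwa [h.neg_eq] }
    have hN := H N (fun w hw => hw)
    have : x ∈ N := by rw [hN]; trivial
    exact this s

end Sp

end Cfsg.Agent.Omega.NOne.SU
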