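import Cfsg.Agent.Omega.NOne.SU.Defs
import Cfsg.Agent.Omega.NOne.SU.Quo

/-!
# THEOREM UNI, group part: the input

`GIn` : the group data (THEOREM BETA + `Q ∩ Q' ≤ V` + the coordinates of `V = O_4^-(q)`) for two opposite points
`R = {v a 0 0}`, `R' = {v 0 0 d}` of `V`; `Q = O_2(N_G(R))`, `Q' = O_2(N_G(R'))`.
`Fld` : the `F`-space `Φ = C_Q(V)/(V ∩ Q) ≅ C_{Q'}(V)/(V ∩ Q')` and the torus.

The main theorem of the group part is `GIn → Fld → Uni k F W Φ` (file `Main.lean`).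
-/

set_option autoImplicit false

open Subgroup

namespace Cfsg.Agent.Omega.NOne.SU

variable {G : Type*} [Group G] {k F : Type*} [Field k] [Field F] [Algebra k F]

/-- The group data for the pair of opposite points `R = {v a 0 0}`, `R' = {v 0 0 d}`. -/
structure GIn (T : Quad k F) (S : Sylow 2 G) (V R Q Q' : Subgroup G) (v : k → F → k → G)
    (p p' : G → F) : Prop where
  /-- `R = {v a 0 0}` is the centre of the special group `Q` -/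
  sp : Sp Q R (fun a => v a 0 0)
  v_add : ∀ a b d a' b' d', v (a + a') (b + b') (d + d') = v a b d * v a' b' d'
  v_inj : ∀ a b d, v a b d = 1 → a = 0 ∧ b = 0 ∧ d = 0
  v_mem : ∀ a b d, v a b d ∈ V
  v_surj : ∀ x ∈ V, ∃ a b d, v a b d = x
  -- the point `R`
  Q_two : IsPGroup 2 Q
  p_add : ∀ x ∈ Q, ∀ y ∈ Q, p (x * y) = p x + p y
  p_surj : ∀ l, ∃ y ∈ Q, p y = l
  act : ∀ y ∈ Q, ∀ a b d, y * v a b d * y⁻¹ =
    v (a + T.tr (T.sg (p y) * b) + T.nm (p y) * d) (b + p y * algebraMap k F d) d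
  E_le : ∀ a b, v a b 0 ∈ Q
  V_Q : ∀ a b d, v a b d ∈ Q → d = 0
  nor : ∀ c ∈ normalizer (R : Set G), ∀ y ∈ Q, c * y * c⁻¹ ∈ Q
  max : ∀ N : Subgroup G, IsPGroup 2 N → N ≤ centralizer (R : Set G) →
    (∀ c ∈ centralizer (R : Set G), ∀ x ∈ N, c * x * c⁻¹ ∈ N) → N ≤ Q
  char2 : centralizer (Q : Set G) ≤ Q
  -- the point `R'`
  p'_add : ∀ x ∈ Q', ∀ y ∈ Q', p' (x * y) = p' x + p' y
  act' : ∀ y ∈ Q', ∀ a b d, y * v a b d * y⁻¹ =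
    v a (b + T.sg (p' y) * algebraMap k F a) (d + T.tr (p' y * b) + T.nm (p' y) * a)
  E'_le : ∀ b d, v 0 b d ∈ Q'
  nor' : ∀ c ∈ centralizer (V : Set G), ∀ y ∈ Q', c * y * c⁻¹ ∈ Q'
  comm' : ∀ x ∈ Q', ∀ y ∈ Q', ∃ d, x * y * x⁻¹ * y⁻¹ = v 0 0 d
  meet : ∀ x ∈ Q, x ∈ Q' → ∃ b, x = v 0 b 0
  -- the Sylow group
  S_V : (S : Subgroup G) ≤ normalizer (V : Set G)
  S_R : (S : Subgroup G) ≤ normalizer (R : Set G)
  /-- a 2-element of `C(R)` which is trivial on `(V ∩ Q)/R` acts on `V` as an element of `Q` -/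
  S_U : ∀ s ∈ S, s ∈ centralizer (R : Set G) → (∀ b, ∃ a, s * v 0 b 0 * s⁻¹ = v a b 0) →
    ∃ y ∈ Q, s * y⁻¹ ∈ centralizer (V : Set G)
  /-- `S ∩ C(R)` acts on `(V ∩ Q)/R` as a group of order `≤ 2` -/
  S_2 : ∀ s ∈ S, s ∈ centralizer (R : Set G) → ∀ t ∈ S, t ∈ centralizer (R : Set G) →
    (∀ b, ∃ a, s * v 0 b 0 * s⁻¹ = v a b 0) ∨ (∀ b, ∃ a, t * v 0 b 0 * t⁻¹ = v a b 0) ∨
      (∀ b, ∃ a, (s * t) * v 0 b 0 * (s * t)⁻¹ = v a b 0)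

/-- The field data: `φ` is used on `C_Q(V)`, `χ` on `C_{Q'}(V)`. -/
structure Fld (T : Quad k F) (V R Q Q' : Subgroup G) (v : k → F → k → G) (p : G → F)
    {Φ : Type*} [AddCommGroup Φ] [Module F Φ] (φ χ : G → Φ) : Prop where
  φ_add : ∀ x ∈ Q, x ∈ centralizer (V : Set G) → ∀ y ∈ Q, y ∈ centralizer (V : Set G) →
    φ (x * y) = φ x + φ y
  φ_ker : ∀ x ∈ Q, x ∈ centralizer (V : Set G) → (φ x = 0 ↔ ∃ a b, x = v a b 0)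
  φ_surj : ∀ u, ∃ x ∈ Q, x ∈ centralizer (V : Set G) ∧ φ x = u
  χ_add : ∀ x ∈ Q', x ∈ centralizer (V : Set G) → ∀ y ∈ Q', y ∈ centralizer (V : Set G) →
    χ (x * y) = χ x + χ y
  χ_ker : ∀ n ∈ Q', n ∈ centralizer (V : Set G) → χ n = 0 → ∃ b d, n = v 0 b d
  χ_surj : ∀ u, ∃ n ∈ Q', n ∈ centralizer (V : Set G) ∧ χ n = u
  /-- `[n, y] = p(y) χ(n)` -/
  bil : ∀ y ∈ Q, ∀ n ∈ Q', n ∈ centralizer (V : Set G) → φ (n * y * n⁻¹ * y⁻¹) = p y • χ n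
  /-- the torus, inside `⟨Q, Q'⟩` -/
  tor : ∀ z : F, z ≠ 0 → ∃ t ∈ Q ⊔ Q',
    (∀ a b d, t * v a b d * t⁻¹ = v (T.nm z * a) (z * (T.sg z)⁻¹ * b) ((T.nm z)⁻¹ * d)) ∧
    (∀ y ∈ Q, t * y * t⁻¹ ∈ Q ∧ p (t * y * t⁻¹) = z ^ 2 * p y) ∧
    (∀ x ∈ Q, x ∈ centralizer (V : Set G) → φ (t * x * t⁻¹) = z • φ x) ∧
    (∀ n ∈ Q', n ∈ centralizer (V : Set G) → t * n * t⁻¹ ∈ Q' ∧ χ (t * n * t⁻¹) = z⁻¹ • χ n)

end Cfsg.Agent.Omega.NOne.SU
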