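import Cfsg.Agent.Omega.NOne.SU.GIn
import Cfsg.Agent.Omega.NOne.SU.CoAct
import Cfsg.Agent.Omega.NO1.Beta.Basic

/-!
# The instance `GIn`

`gin` : hermitian coordinates `d : Co K σ M V`, `Beta M V Rf Qf`, `Mt V Rf Qf`, `Rf i = d.R0`, `Rf j = d.Roo`,
`Qf i` induces exactly the group of the `u a`, `Qf j` induces `l a`'s, `Qf i ⊓ Qf j ≤ V`, `S ≤ M ∩ N(R0)` ⟹ `GIn`.
-/

set_option autoImplicit false
set_option linter.unusedVariables false
set_option linter.unusedSectionVars false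

open Subgroup
open scoped Pointwise
open Cfsg.Agent.Omega.NO1.Beta.Inst

namespace Cfsg.Agent.Omega.NOne.SU.GInst

open Co Cfsg.Agent.Omega.NO1.Beta

section field

variable {K : Type*} [Field K] (σ : K ≃+* K)

/-- the fixed field of `σ` -/
def kf : Subfield K where
  carrier := {x | σ x = x}
  mul_mem' := fun {a b} ha hb => by
    change σ (a * b) = a * b
    rw [map_mul]; exact congrArg₂ (· * ·) ha hb
  one_mem' := map_one σ
  add_mem' := fun {a b} ha hb => by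
    change σ (a + b) = a + b
    rw [map_add]; exact congrArg₂ (· + ·) ha hb
  zero_mem' := map_zero σ
  neg_mem' := fun {a} ha => by
    change σ (-a) = -a
    rw [map_neg]; exact congrArg Neg.neg ha
  inv_mem' := fun a ha => by
    change σ a⁻¹ = a⁻¹
    rw [map_inv₀]; exact congrArg Inv.inv ha

theorem mem_kf {x : K} : x ∈ kf σ ↔ σ x = x := Iff.rfl

variable {σ}

/-- `σ` as a `k`-automorphism -/
def sg : K ≃ₐ[kf σ] K := AlgEquiv.ofRingEquiv (f := σ) fun x => x.2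

theorem sg_apply (x : K) : (sg (σ := σ)) x = σ x := rfl

/-- the trace -/
def tr (hσ : ∀ x, σ (σ x) = x) : K →ₗ[kf σ] kf σ where
  toFun x := ⟨x + σ x, by rw [mem_kf, map_add, hσ, add_comm]⟩
  map_add' x y := by
    apply Subtype.ext
    change x + y + σ (x + y) = (x + σ x) + (y + σ y)
    rw [map_add]; ring
  map_smul' c x := by
    apply Subtype.ext
    change (c : K) * x + σ ((c : K) * x) = (c : K) * (x + σ x)
    rw [map_mul, (show σ (c : K) = c from c.2)]; ring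

/-- the norm -/
def nm (hσ : ∀ x, σ (σ x) = x) (x : K) : kf σ := ⟨x * σ x, by rw [mem_kf, map_mul, hσ, mul_comm]⟩

theorem card_kf [Finite K] [CharP K 2] (hσ : ∀ x, σ (σ x) = x) (hn : ∃ x, σ x ≠ x) :
    Nat.card K = Nat.card (kf σ) ^ 2 := by
  classical
  let f : K →+ kf σ := (tr hσ).toAddMonoidHom
  have hsurj : Function.Surjective f := by
    obtain ⟨x, hx⟩ := hn
    intro y
    have hne : x + σ x ≠ 0 := by
      intro h0
      apply hx
      have : σ x = -x := eq_neg_of_add_eq_zero_right h0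
      rw [this, CharTwo.neg_eq]
    refine ⟨(y : K) * (x + σ x)⁻¹ * x, ?_⟩
    apply Subtype.ext
    change (y : K) * (x + σ x)⁻¹ * x + σ ((y : K) * (x + σ x)⁻¹ * x) = y
    have e1 : σ (x + σ x) = x + σ x := by rw [map_add, hσ, add_comm]
    rw [map_mul, map_mul, map_inv₀, e1, (show σ (y : K) = y from y.2)]
    field_simp
  have hker : Nat.card f.ker = Nat.card (kf σ) := by
    apply Nat.card_congr
    refine ⟨fun x => ⟨x.1, ?_⟩, fun x => ⟨x.1, ?_⟩, fun _ => rfl, fun _ => rfl⟩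
    · have h1 : f x.1 = 0 := x.2
      have h2 : x.1 + σ x.1 = 0 := congrArg Subtype.val h1
      have : σ x.1 = -x.1 := eq_neg_of_add_eq_zero_right h2
      rw [mem_kf, this, CharTwo.neg_eq]
    · change f x.1 = 0
      apply Subtype.ext
      change x.1 + σ x.1 = 0
      rw [(show σ (x : K) = x from x.2), CharTwo.add_self_eq_zero]
  have h1 : Nat.card K = Nat.card (K ⧸ f.ker) * Nat.card f.ker :=
    AddSubgroup.card_eq_card_quotient_mul_card_addSubgroup _
  have h2 : Nat.card (K ⧸ f.ker) = Nat.card (kf σ) :=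
    Nat.card_congr (QuotientAddGroup.quotientKerEquivOfSurjective f hsurj).toEquiv
  rw [h1, h2, hker, pow_two]

/-- the quadratic extension -/
def quad [Finite K] [CharP K 2] (hσ : ∀ x, σ (σ x) = x) (hn : ∃ x, σ x ≠ x) (h16 : 16 ≤ Nat.card K) :
    Quad (kf σ) K where
  sg := sg
  tr := tr hσ
  nm := nm hσ
  sg_sg := hσ
  fix := fun x hx => ⟨⟨x, hx⟩, rfl⟩
  tr_eq := fun x => rfl
  nm_eq := fun x => rfl
  card := card_kf hσ hn
  four := by
    rw [card_kf hσ hn] at h16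
    by_contra h
    have h3 : Nat.card (kf σ) ≤ 3 := by omega
    have : Nat.card (kf σ) ^ 2 ≤ 3 ^ 2 := Nat.pow_le_pow_left h3 2
    omega

end field

section inst

variable {G : Type*} [Group G] {K : Type*} [Field K] [CharP K 2] {σ : K ≃+* K} {M V : Subgroup G}
  (d : Co K σ M V)

theorem exists_vv (a : kf σ) (b : K) (c : kf σ) : ∃ v ∈ V, d.X v = a ∧ d.Y v = b ∧ d.Z v = c :=
  d.exists_v a b c a.2 c.2

/-- the coordinates `k → K → k → V` -/
noncomputable def vv (a : kf σ) (b : K) (c : kf σ) : G := (exists_vv d a b c).choose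

theorem vv_mem (a : kf σ) (b : K) (c : kf σ) : vv d a b c ∈ V := (exists_vv d a b c).choose_spec.1

theorem vv_X (a : kf σ) (b : K) (c : kf σ) : d.X (vv d a b c) = a := (exists_vv d a b c).choose_spec.2.1

theorem vv_Y (a : kf σ) (b : K) (c : kf σ) : d.Y (vv d a b c) = b := (exists_vv d a b c).choose_spec.2.2.1

theorem vv_Z (a : kf σ) (b : K) (c : kf σ) : d.Z (vv d a b c) = c := (exists_vv d a b c).choose_spec.2.2.2

theorem eq_vv {v : G} (hv : v ∈ V) {a : kf σ} {b : K} {c : kf σ} (hX : d.X v = a) (hY : d.Y v = b)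
    (hZ : d.Z v = c) : v = vv d a b c :=
  d.ext hv (vv_mem d _ _ _) (by rw [hX, vv_X]) (by rw [hY, vv_Y]) (by rw [hZ, vv_Z])

theorem vv_inj {a : kf σ} {b : K} {c : kf σ} {a' : kf σ} {b' : K} {c' : kf σ}
    (h : vv d a b c = vv d a' b' c') : a = a' ∧ b = b' ∧ c = c' := by
  refine ⟨Subtype.ext ?_, ?_, Subtype.ext ?_⟩
  · rw [← vv_X d a b c, h, vv_X]
  · rw [← vv_Y d a b c, h, vv_Y]
  · rw [← vv_Z d a b c, h, vv_Z]

theorem vv_add (a : kf σ) (b : K) (c : kf σ) (a' : kf σ) (b' : K) (c' : kf σ) :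
    vv d (a + a') (b + b') (c + c') = vv d a b c * vv d a' b' c' := by
  symm
  apply eq_vv d (V.mul_mem (vv_mem d _ _ _) (vv_mem d _ _ _))
  · rw [d.X_mul (vv_mem d _ _ _) (vv_mem d _ _ _), vv_X, vv_X]; rfl
  · rw [d.Y_mul (vv_mem d _ _ _) (vv_mem d _ _ _), vv_Y, vv_Y]
  · rw [d.Z_mul (vv_mem d _ _ _) (vv_mem d _ _ _), vv_Z, vv_Z]; rfl

theorem vv_zero : vv d 0 0 0 = 1 := by
  symm
  apply eq_vv d V.one_mem
  · rw [d.X_one]; rfl
  · rw [d.Y_one]
  · rw [d.Z_one]; rfl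

theorem exists_eq {v : G} (hv : v ∈ V) : ∃ a b c, vv d a b c = v :=
  ⟨⟨d.X v, d.sX hv⟩, d.Y v, ⟨d.Z v, d.sZ hv⟩, (eq_vv d hv rfl rfl rfl).symm⟩

theorem mem_R0_vv {x : G} : x ∈ d.R0 ↔ ∃ a, x = vv d a 0 0 := by
  constructor
  · rintro ⟨h1, h2, h3⟩
    exact ⟨⟨d.X x, d.sX h1⟩, eq_vv d h1 rfl h2 (by rw [h3]; rfl)⟩
  · rintro ⟨a, rfl⟩
    exact ⟨vv_mem d _ _ _, vv_Y d _ _ _, vv_Z d _ _ _⟩

theorem mem_Roo_vv {x : G} : x ∈ d.Roo ↔ ∃ c, x = vv d 0 0 c := by
  constructor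
  · rintro ⟨h1, h2, h3⟩
    exact ⟨⟨d.Z x, d.sZ h1⟩, eq_vv d h1 (by rw [h2]; rfl) h3 rfl⟩
  · rintro ⟨a, rfl⟩
    exact ⟨vv_mem d _ _ _, vv_X d _ _ _, vv_Y d _ _ _⟩

/-- the parameter of an element which acts as `u a` -/
noncomputable def pu (y : G) : K := d.Y (y * vv d 0 0 1 * y⁻¹)

/-- the parameter of an element which acts as `l a` -/
noncomputable def pl (y : G) : K := σ (d.Y (y * vv d 1 0 0 * y⁻¹))

theorem pu_eq {y : G} {a : K} (h : d.Act y (u a).1) : pu d y = a := by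
  rw [pu, d.u_Y h (vv_mem d _ _ _), vv_Y, vv_Z]
  change 0 + a * (1 : K) = a
  ring

theorem l_X {g : G} {a : K} (hg : d.Act g (l a).1) {v : G} (hv : v ∈ V) : d.X (g * v * g⁻¹) = d.X v := by
  rw [hg.X hv]
  simp [l]

theorem l_Y {g : G} {a : K} (hg : d.Act g (l a).1) {v : G} (hv : v ∈ V) :
    d.Y (g * v * g⁻¹) = d.Y v + σ a * d.X v := by
  rw [hg.Y hv]
  simp [l]
  ring

theorem l_Z {g : G} {a : K} (hg : d.Act g (l a).1) {v : G} (hv : v ∈ V) :
    d.Z (g * v * g⁻¹) = d.Z v + (a * d.Y v + σ a * σ (d.Y v)) + a * σ a * d.X v := by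
  rw [hg.Z hv]
  simp [l]
  ring

theorem pl_eq {y : G} {a : K} (h : d.Act y (l a).1) : pl d y = a := by
  rw [pl, l_Y d h (vv_mem d _ _ _), vv_Y, vv_X]
  change σ (0 + σ a * (1 : K)) = a
  rw [zero_add, mul_one, d.inv]

theorem l_mul (a b : K) : (l a * l b : Matrix.SpecialLinearGroup (Fin 2) K) = l (a + b) := by
  apply Subtype.ext
  rw [Matrix.SpecialLinearGroup.coe_mul]
  ext i j
  fin_cases i <;> fin_cases j <;> simp [l, Matrix.mul_apply, Fin.sum_univ_two, add_comm]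

/-- **the instance `GIn`** -/
theorem gin [Finite G] [Finite K] (h16 : 16 ≤ Nat.card K) {I : Type*} {Rf Qf : I → Subgroup G}
    (B : Beta M V Rf Qf) (T : Meet.Mt V Rf Qf) {i j : I} (hij : i ≠ j) (hi : Rf i = d.R0) (hj : Rf j = d.Roo)
    (hu : ∀ y ∈ Qf i, ∃ a, d.Act y (u a).1) (hu' : ∀ a, ∃ y ∈ Qf i, d.Act y (u a).1)
    (hl : ∀ y ∈ Qf j, ∃ a, d.Act y (l a).1) (hl1 : ∃ y ∈ Qf j, d.Act y (l 1).1) (hm : Qf i ⊓ Qf j ≤ V)
    (S : Sylow 2 G) (hSM : (S : Subgroup G) ≤ M) (hSR : (S : Subgroup G) ≤ normalizer (d.R0 : Set G)) :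
    GIn (quad d.inv d.nt h16) S V (Rf i) (Qf i) (Qf j) (vv d) (pu d) (pl d) := by
  have hVnc : ∀ {x : G}, x ∈ V → ∀ {y : G}, y ∈ V → x * y = y * x := fun hx _ hy => d.comm hx hy
  -- `V ⊓ Q i = E0`
  have hVQ : ∀ x ∈ V, x ∈ Qf i → d.Z x = 0 := by
    intro x hx hxQ
    obtain ⟨y, hy, hya⟩ := hu' 1
    have h1 := T.QQ i y hy x hxQ
    rw [hi] at h1
    have h2 : y * x * y⁻¹ = (y * x * y⁻¹ * x⁻¹) * x := by group
    have h3 := d.u_Y hya hx
    rw [h2, d.Y_mul h1.1 hx, h1.2.1, zero_add, one_mul] at h3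
    exact left_eq_add.mp h3
  have hVQ' : ∀ x ∈ V, x ∈ Qf j → d.X x = 0 := by
    intro x hx hxQ
    obtain ⟨y, hy, hya⟩ := hl1
    have h1 := T.QQ j y hy x hxQ
    rw [hj] at h1
    have h2 : y * x * y⁻¹ = (y * x * y⁻¹ * x⁻¹) * x := by group
    have h3 := l_Y d hya hx
    rw [h2, d.Y_mul h1.1 hx, h1.2.2, zero_add, map_one, one_mul] at h3
    exact left_eq_add.mp h3
  have hEle : ∀ x ∈ V, d.Z x = 0 → x ∈ Qf i := by
    intro x hx hZ
    have h1 := T.VE i j hij hx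
    have hn : V ⊓ Qf i ≤ normalizer (Rf j : Set G) := by
      intro e he
      apply Meet.mem_normalizer_of_cj
      apply Meet.cj_eq_of_comm
      intro r hr
      exact d.comm he.1 (T.R_le j hr)
    rw [← SetLike.mem_coe, Subgroup.coe_mul_of_left_le_normalizer_right _ _ hn, Set.mem_mul] at h1
    obtain ⟨e, he, r, hr, rfl⟩ := h1
    have he' : e ∈ V ⊓ Qf i := he
    have hr' : r ∈ Rf j := hr
    rw [hj] at hr'
    have h2 := hVQ e he'.1 he'.2
    have h3 : d.Z r = 0 := by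
      rw [d.Z_mul he'.1 hr'.1, h2, zero_add] at hZ
      exact hZ
    have h4 : r = 1 := by
      apply d.ext hr'.1 V.one_mem
      · rw [hr'.2.1, d.X_one]
      · rw [hr'.2.2, d.Y_one]
      · rw [h3, d.Z_one]
    rw [h4, mul_one]; exact he'.2
  have hEle' : ∀ x ∈ V, d.X x = 0 → x ∈ Qf j := by
    intro x hx hZ
    have h1 := T.VE j i hij.symm hx
    have hn : V ⊓ Qf j ≤ normalizer (Rf i : Set G) := by
      intro e he
      apply Meet.mem_normalizer_of_cj
      apply Meet.cj_eq_of_comm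
      intro r hr
      exact d.comm he.1 (T.R_le i hr)
    rw [← SetLike.mem_coe, Subgroup.coe_mul_of_left_le_normalizer_right _ _ hn, Set.mem_mul] at h1
    obtain ⟨e, he, r, hr, rfl⟩ := h1
    have he' : e ∈ V ⊓ Qf j := he
    have hr' : r ∈ Rf i := hr
    rw [hi] at hr'
    have h2 := hVQ' e he'.1 he'.2
    have h3 : d.X r = 0 := by
      rw [d.X_mul he'.1 hr'.1, h2, zero_add] at hZ
      exact hZ
    have h4 : r = 1 := by
      apply d.ext hr'.1 V.one_mem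
      · rw [h3, d.X_one]
      · rw [hr'.2.1, d.Y_one]
      · rw [hr'.2.2, d.Z_one]
    rw [h4, mul_one]; exact he'.2
  have hQM : ∀ {y : G}, y ∈ Qf i → y ∈ M := fun hy => B.Q_M i hy
  have hQM' : ∀ {y : G}, y ∈ Qf j → y ∈ M := fun hy => B.Q_M j hy
  have htriv : ∀ s : G, s ∈ M → (∀ r ∈ d.R0, s * r * s⁻¹ = r) →
      ((∀ b, ∃ a, s * vv d 0 b 0 * s⁻¹ = vv d a b 0) ↔
        ∀ v ∈ V, d.Z v = 0 → d.Y (s * v * s⁻¹) = d.Y v) := by
    intro s hs hsc
    have hcj := CoAct.cj_of_fix hsc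
    constructor
    · intro h v hv hZ
      obtain ⟨a, ha⟩ := h (d.Y v)
      have h1 : v = vv d ⟨d.X v, d.sX hv⟩ 0 0 * vv d 0 (d.Y v) 0 := by
        rw [← vv_add, add_zero, add_zero, zero_add]
        exact eq_vv d hv rfl rfl (by rw [hZ]; rfl)
      have h2 : s * v * s⁻¹ = (s * vv d ⟨d.X v, d.sX hv⟩ 0 0 * s⁻¹) * (s * vv d 0 (d.Y v) 0 * s⁻¹) := by
        conv_lhs => rw [h1]
        group
      rw [h2, ha, hsc _ ((mem_R0_vv d).mpr ⟨_, rfl⟩), d.Y_mul (vv_mem d _ _ _) (vv_mem d _ _ _), vv_Y, vv_Y,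
        zero_add]
    · intro h b
      have hv := vv_mem d 0 b 0
      have h1 := h _ hv (vv_Z d _ _ _)
      rw [vv_Y] at h1
      have h2 := d.conj_mem' hs hv
      have h3 := CoAct.nor_E0 d hs hcj hv (vv_Z d _ _ _)
      exact ⟨⟨d.X (s * vv d 0 b 0 * s⁻¹), d.sX h2⟩, eq_vv d h2 rfl h1 (by rw [h3]; rfl)⟩
  have hfixR : ∀ s : G, s ∈ centralizer (Rf i : Set G) → ∀ r ∈ d.R0, s * r * s⁻¹ = r := by
    intro s hs r hr
    rw [← hi] at hr
    rw [← (mem_centralizer_iff.mp hs) r hr]; group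
  constructor
  · -- sp
    refine ⟨T.R_Q i, T.QQ i, T.RQ i, T.Qsq i, T.cen i, ?_, ?_, ?_, ?_, ?_⟩
    · intro s t
      have := vv_add d s 0 0 t 0 0
      rwa [add_zero, add_zero] at this
    · intro s
      rw [hi]; exact (mem_R0_vv d).mpr ⟨s, rfl⟩
    · intro r hr
      rw [hi] at hr
      obtain ⟨a, ha⟩ := (mem_R0_vv d).mp hr
      exact ⟨a, ha.symm⟩
    · intro s t h
      exact (vv_inj d h).1
    · apply Subtype.ext
      exact CharTwo.two_eq_zero
  · intro a b c a' b' c'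
    exact vv_add d a b c a' b' c'
  · intro a b c h
    rw [← vv_zero d] at h
    exact vv_inj d h
  · exact vv_mem d
  · intro x hx
    exact exists_eq d hx
  · exact B.two i
  · intro x hx y hy
    obtain ⟨a, ha⟩ := hu x hx
    obtain ⟨b, hb⟩ := hu y hy
    have h1 := ha.mulS hb (hQM hy)
    rw [u_mul] at h1
    rw [pu_eq d ha, pu_eq d hb, pu_eq d h1]
  · intro a
    obtain ⟨y, hy, ha⟩ := hu' a
    exact ⟨y, hy, pu_eq d ha⟩
  · intro y hy a b c
    obtain ⟨t, ht⟩ := hu y hy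
    rw [pu_eq d ht]
    have hv := vv_mem d a b c
    apply eq_vv d (d.conj_mem' (hQM hy) hv)
    · rw [d.u_X ht hv, vv_X, vv_Y, vv_Z]
      change (a : K) + t * σ b + b * σ t + t * σ t * c = (a : K) + (σ t * b + σ (σ t * b)) + (t * σ t) * c
      rw [map_mul, d.inv]; ring
    · rw [d.u_Y ht hv, vv_Y, vv_Z]; rfl
    · rw [d.u_Z ht hv, vv_Z]
  · intro a b
    exact hEle _ (vv_mem d _ _ _) (vv_Z d _ _ _)
  · intro a b c h
    have h1 := hVQ _ (vv_mem d _ _ _) h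
    rw [vv_Z] at h1
    exact Subtype.ext h1
  · exact B.nor i
  · -- max
    intro N hN hNC hNn
    obtain ⟨X, hX2, hXC, hXn, hXmax⟩ := exists_two_core (centralizer (Rf i : Set G))
    have hNX := hXmax N hN hNC hNn
    have hCn : ∀ c ∈ normalizer (Rf i : Set G), ∀ z ∈ centralizer (Rf i : Set G),
        c * z * c⁻¹ ∈ centralizer (Rf i : Set G) := by
      intro c hc z hz
      rw [mem_centralizer_iff] at hz ⊢
      intro r hr
      have h1 : c⁻¹ * r * c ∈ Rf i := by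
        have := (mem_normalizer_iff.mp ((normalizer (Rf i : Set G)).inv_mem hc) r).mp hr
        rwa [inv_inv] at this
      have h2 := hz _ h1
      calc r * (c * z * c⁻¹) = c * ((c⁻¹ * r * c) * z) * c⁻¹ := by group
        _ = c * (z * (c⁻¹ * r * c)) * c⁻¹ := by rw [h2]
        _ = c * z * c⁻¹ * r := by group
    refine hNX.trans (B.max i X hX2 ?_ ?_)
    · exact hXC.trans (Subgroup.centralizer_le_normalizer _)
    · intro c hc x hx
      -- `cj c X ≤ X`
      have h1 : cj c X ≤ X := by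
        apply hXmax
        · rw [cj]
          exact hX2.map (MulAut.conj c).toMonoidHom
        · intro z hz
          rw [mem_cj] at hz
          have h2 := hCn c hc _ (hXC hz)
          have h3 : c * (c⁻¹ * z * c) * c⁻¹ = z := by group
          rwa [h3] at h2
        · intro b hb y hy
          rw [mem_cj] at hy ⊢
          have h2 := hCn c⁻¹ (inv_mem hc) b hb
          have h3 := hXn _ h2 _ hy
          have h4 : c⁻¹ * b * c⁻¹⁻¹ * (c⁻¹ * y * c) * (c⁻¹ * b * c⁻¹⁻¹)⁻¹ = c⁻¹ * (b * y * b⁻¹) * c := by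
            group
          rwa [h4] at h3
      exact h1 (conj_mem_cj hx)
  · exact B.char2 i
  · intro x hx y hy
    obtain ⟨a, ha⟩ := hl x hx
    obtain ⟨b, hb⟩ := hl y hy
    have h1 := ha.mulS hb (hQM' hy)
    rw [l_mul] at h1
    rw [pl_eq d ha, pl_eq d hb, pl_eq d h1]
  · intro y hy a b c
    obtain ⟨t, ht⟩ := hl y hy
    rw [pl_eq d ht]
    have hv := vv_mem d a b c
    apply eq_vv d (d.conj_mem' (hQM' hy) hv)
    · rw [l_X d ht hv, vv_X]
    · rw [l_Y d ht hv, vv_Y, vv_X]; rfl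
    · rw [l_Z d ht hv, vv_X, vv_Y, vv_Z]
      change (c : K) + (t * b + σ t * σ b) + t * σ t * a = (c : K) + (t * b + σ (t * b)) + (t * σ t) * a
      rw [map_mul]
  · intro b c
    exact hEle' _ (vv_mem d _ _ _) (vv_X d _ _ _)
  · intro c hc y hy
    exact T.C_conj j hc hy
  · intro x hx y hy
    have h1 := T.QQ j x hx y hy
    rw [hj] at h1
    exact (mem_Roo_vv d).mp h1
  · intro x hx hx'
    have hV := hm ⟨hx, hx'⟩
    exact ⟨d.Y x, eq_vv d hV (hVQ' x hV hx') rfl (hVQ x hV hx)⟩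
  · exact hSM.trans d.nor
  · rw [hi]; exact hSR
  · -- S_U
    intro s hs hsR ht
    have hc := hfixR s hsR
    have h1 := (htriv s (hSM hs) hc).mp ht
    obtain ⟨b, hb⟩ := CoAct.act_of_triv d (hSM hs) hc h1
    obtain ⟨y, hy, hyb⟩ := hu' b
    refine ⟨y, hy, ?_⟩
    have h2 := hb.mulS (hyb.inv (hQM hy)) (M.inv_mem (hQM hy))
    rw [mul_inv_cancel] at h2
    exact (act_one_iff (d := d) (M.mul_mem (hSM hs) (M.inv_mem (hQM hy)))).mp h2
  · -- S_2
    intro s hs hsR t ht htR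
    have hc := hfixR s hsR
    have hc' := hfixR t htR
    have hcc : ∀ r ∈ d.R0, (s * t) * r * (s * t)⁻¹ = r := by
      intro r hr
      have e : (s * t) * r * (s * t)⁻¹ = s * (t * r * t⁻¹) * s⁻¹ := by group
      rw [e, hc' r hr, hc r hr]
    rw [htriv s (hSM hs) hc, htriv t (hSM ht) hc', htriv (s * t) (M.mul_mem (hSM hs) (hSM ht)) hcc]
    exact CoAct.two_cases d S.isPGroup' hSM hs ht hc hc'

end inst

end Cfsg.Agent.Omega.NOne.SU.GInst
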