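import Cfsg.Agent.Omega.NOne.SU.GIn
import Cfsg.Agent.Omega.NOne.SU.QuadFacts

/-!
# THEOREM UNI, group part 1: `e`, `B`, the action of `N_G(R)` on `W = Q/R`
-/

set_option autoImplicit false
set_option linter.unusedSectionVars false

open Subgroup

namespace Cfsg.Agent.Omega.NOne.SU

variable {G : Type*} [Group G] {k F : Type*} [Field k] [Field F] [Algebra k F]

namespace GIn

variable {T : Quad k F} {S : Sylow 2 G} {V R Q Q' : Subgroup G} {v : k → F → k → G} {p p' : G → F}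
  (h : GIn T S V R Q Q' v p p')
include h

theorem h2 : (2 : k) = 0 := h.sp.two

theorem v_zero : v 0 0 0 = 1 := by
  have := h.v_add 0 0 0 0 0 0
  rw [add_zero, add_zero] at this
  exact (mul_eq_left (a := v 0 0 0)).1 this.symm

theorem v_sq (a : k) (b : F) (d : k) : v a b d * v a b d = 1 := by
  rw [← h.v_add, T.add_selfk (h2 := h.h2), T.add_self (h2 := h.h2), T.add_selfk (h2 := h.h2), h.v_zero]

theorem v_inv (a : k) (b : F) (d : k) : (v a b d)⁻¹ = v a b d := inv_eq_of_mul_eq_one_left (h.v_sq a b d)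

theorem v_comm (a : k) (b : F) (d : k) (a' : k) (b' : F) (d' : k) :
    v a b d * v a' b' d' = v a' b' d' * v a b d := by
  rw [← h.v_add, ← h.v_add, add_comm a, add_comm b, add_comm d]

theorem V_comm {x y : G} (hx : x ∈ V) (hy : y ∈ V) : x * y = y * x := by
  obtain ⟨a, b, d, rfl⟩ := h.v_surj x hx
  obtain ⟨a', b', d', rfl⟩ := h.v_surj y hy
  exact h.v_comm _ _ _ _ _ _

theorem v_eq {a : k} {b : F} {d a' : k} {b' : F} {d' : k} (e : v a b d = v a' b' d') :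
    a = a' ∧ b = b' ∧ d = d' := by
  have h1 : v (a + a') (b + b') (d + d') = 1 := by
    rw [h.v_add, e, h.v_sq]
  obtain ⟨h3, h4, h5⟩ := h.v_inj _ _ _ h1
  refine ⟨?_, ?_, ?_⟩
  · calc a = a + (a' + a') := by rw [T.add_selfk (h2 := h.h2), add_zero]
      _ = (a + a') + a' := by ring
      _ = a' := by rw [h3, zero_add]
  · calc b = b + (b' + b') := by rw [T.add_self (h2 := h.h2), add_zero]
      _ = (b + b') + b' := by ring
      _ = b' := by rw [h4, zero_add]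
  · calc d = d + (d' + d') := by rw [T.add_selfk (h2 := h.h2), add_zero]
      _ = (d + d') + d' := by ring
      _ = d' := by rw [h5, zero_add]

theorem mem_R {x : G} : x ∈ R ↔ ∃ a, x = v a 0 0 := by
  constructor
  · intro hx
    obtain ⟨a, ha⟩ := h.sp.a_surj x hx
    exact ⟨a, ha.symm⟩
  · rintro ⟨a, rfl⟩
    exact h.sp.a_mem a

theorem R_le_V : R ≤ V := by
  intro x hx
  obtain ⟨a, rfl⟩ := h.mem_R.1 hx
  exact h.v_mem _ _ _

theorem CV_le_CR : centralizer (V : Set G) ≤ centralizer (R : Set G) :=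
  centralizer_le h.R_le_V

theorem CR_le_NR : centralizer (R : Set G) ≤ normalizer (R : Set G) := centralizer_le_normalizer _

theorem V_le_CV : V ≤ centralizer (V : Set G) := by
  intro x hx
  rw [mem_centralizer_iff]
  intro y hy
  exact h.V_comm hy hx

theorem Q_le_CR : Q ≤ centralizer (R : Set G) := by
  intro y hy
  rw [mem_centralizer_iff]
  intro r hr
  exact h.sp.cen r hr y hy

/-- conjugation by an element of `N(R)` -/
theorem nor_inv {c : G} (hc : c ∈ normalizer (R : Set G)) {y : G} (hy : y ∈ Q) : c⁻¹ * y * c ∈ Q := by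
  have := h.nor c⁻¹ (inv_mem hc) y hy
  rwa [inv_inv] at this

theorem p_one : p 1 = 0 := by
  have := h.p_add 1 (one_mem _) 1 (one_mem _)
  rw [mul_one] at this
  exact left_eq_add.1 this

theorem p_inv {y : G} (hy : y ∈ Q) : p y⁻¹ = p y := by
  have := h.p_add y⁻¹ (inv_mem hy) y hy
  rw [inv_mul_cancel, h.p_one] at this
  calc p y⁻¹ = p y⁻¹ + (p y + p y) := by rw [T.add_self (h2 := h.h2), add_zero]
    _ = (p y⁻¹ + p y) + p y := by ring
    _ = p y := by rw [← this, zero_add]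

/-- `C_Q(V) = ker p` -/
theorem p_eq_zero {y : G} (hy : y ∈ Q) : p y = 0 ↔ y ∈ centralizer (V : Set G) := by
  constructor
  · intro h0
    rw [mem_centralizer_iff]
    intro x hx
    obtain ⟨a, b, d, rfl⟩ := h.v_surj x hx
    have h1 := h.act y hy a b d
    rw [h0, map_zero, zero_mul, map_zero, T.nm_zero, zero_mul, zero_mul, add_zero, add_zero, add_zero] at h1
    calc v a b d * y = (y * v a b d * y⁻¹) * y := by rw [h1]
      _ = y * v a b d := by group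
  · intro hc
    rw [mem_centralizer_iff] at hc
    have h1 := h.act y hy 0 0 1
    have h3 := hc _ (h.v_mem 0 0 1)
    rw [← h3, mul_inv_cancel_right] at h1
    have h4 := (h.v_eq h1).2.1
    rw [zero_add, map_one, mul_one] at h4
    exact h4.symm

theorem p_R {r : G} (hr : r ∈ R) : p r = 0 :=
  (h.p_eq_zero (h.sp.le hr)).2 (h.V_le_CV (h.R_le_V hr))

theorem vE_mem_Q (a : k) (b : F) : v a b 0 ∈ Q := h.E_le a b

theorem p_E (a : k) (b : F) : p (v a b 0) = 0 :=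
  (h.p_eq_zero (h.E_le a b)).2 (h.V_le_CV (h.v_mem _ _ _))

/-- `[v 0 b 0, y] = v (tr (b sg (p y))) 0 0` -/
theorem comm_E (a : k) (b : F) {y : G} (hy : y ∈ Q) :
    v a b 0 * y * (v a b 0)⁻¹ * y⁻¹ = v (T.tr (b * T.sg (p y))) 0 0 := by
  have h1 := h.act y hy a b 0
  rw [mul_zero, map_zero, mul_zero, add_zero, add_zero] at h1
  calc v a b 0 * y * (v a b 0)⁻¹ * y⁻¹ = v a b 0 * (y * v a b 0 * y⁻¹)⁻¹ := by group
    _ = v a b 0 * v (a + T.tr (T.sg (p y) * b)) b 0 := by rw [h1, h.v_inv]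
    _ = _ := by
      rw [← h.v_add, T.add_self (h2 := h.h2), add_zero, ← add_assoc, T.add_selfk (h2 := h.h2), zero_add,
        mul_comm (T.sg (p y))]

/-- `[v a b d, y]` for general `v` -/
theorem comm_V (a : k) (b : F) (d : k) {y : G} (hy : y ∈ Q) :
    ∃ a', v a b d * y * (v a b d)⁻¹ * y⁻¹ = v a' (p y * algebraMap k F d) 0 := by
  have h1 := h.act y hy a b d
  refine ⟨T.tr (T.sg (p y) * b) + T.nm (p y) * d, ?_⟩
  calc v a b d * y * (v a b d)⁻¹ * y⁻¹ = v a b d * (y * v a b d * y⁻¹)⁻¹ := by group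
    _ = v a b d * v (a + T.tr (T.sg (p y) * b) + T.nm (p y) * d) (b + p y * algebraMap k F d) d := by
      rw [h1, h.v_inv]
    _ = _ := by
      rw [← h.v_add, T.add_selfk (h2 := h.h2) d]
      congr 1
      · rw [← add_assoc, ← add_assoc, T.add_selfk (h2 := h.h2) a, zero_add]
      · rw [← add_assoc, T.add_self (h2 := h.h2), zero_add]

/-! ### the module `W = Q/R` -/

/-- the conjugation action on `W` -/
noncomputable def cj (c : G) (w : h.sp.W) : h.sp.W := h.sp.pr (c * h.sp.rep w * c⁻¹)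

theorem cj_pr {c : G} (hc : c ∈ normalizer (R : Set G)) {x : G} (hx : x ∈ Q) :
    h.cj c (h.sp.pr x) = h.sp.pr (c * x * c⁻¹) := by
  unfold cj
  have h1 := h.sp.rep_mem (h.sp.pr x)
  rw [h.sp.pr_eq (h.nor c hc _ h1) (h.nor c hc _ hx)]
  have h3 := (h.sp.pr_eq h1 hx).1 (h.sp.pr_rep _)
  have h4 : c * h.sp.rep (h.sp.pr x) * c⁻¹ * (c * x * c⁻¹)⁻¹ = c * (h.sp.rep (h.sp.pr x) * x⁻¹) * c⁻¹ := by
    group
  rw [h4]
  exact (mem_normalizer_iff.1 hc _).1 h3

theorem cj_add {c : G} (hc : c ∈ normalizer (R : Set G)) (w w' : h.sp.W) :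
    h.cj c (w + w') = h.cj c w + h.cj c w' := by
  obtain ⟨x, hx, rfl⟩ := h.sp.pr_surj w
  obtain ⟨y, hy, rfl⟩ := h.sp.pr_surj w'
  rw [← h.sp.pr_mul hx hy, h.cj_pr hc (mul_mem hx hy), h.cj_pr hc hx, h.cj_pr hc hy,
    ← h.sp.pr_mul (h.nor c hc x hx) (h.nor c hc y hy)]
  congr 1
  group

theorem cj_mul {c d : G} (hc : c ∈ normalizer (R : Set G)) (hd : d ∈ normalizer (R : Set G)) (w : h.sp.W) :
    h.cj (c * d) w = h.cj c (h.cj d w) := by
  obtain ⟨x, hx, rfl⟩ := h.sp.pr_surj w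
  rw [h.cj_pr (mul_mem hc hd) hx, h.cj_pr hd hx, h.cj_pr hc (h.nor d hd x hx)]
  congr 1
  group

theorem cj_one (w : h.sp.W) : h.cj 1 w = w := by
  obtain ⟨x, hx, rfl⟩ := h.sp.pr_surj w
  rw [h.cj_pr (one_mem _) hx]
  congr 1
  group

theorem cj_inv_cj {c : G} (hc : c ∈ normalizer (R : Set G)) (w : h.sp.W) : h.cj c⁻¹ (h.cj c w) = w := by
  rw [← h.cj_mul (inv_mem hc) hc, inv_mul_cancel, h.cj_one]

theorem cj_cj_inv {c : G} (hc : c ∈ normalizer (R : Set G)) (w : h.sp.W) : h.cj c (h.cj c⁻¹ w) = w := by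
  rw [← h.cj_mul hc (inv_mem hc), mul_inv_cancel, h.cj_one]

theorem form_cj' {c : G} (hc : c ∈ normalizer (R : Set G)) {s : k} (hs : ∀ a, c * v a 0 0 * c⁻¹ = v (s * a) 0 0)
    (w w' : h.sp.W) : h.sp.form (h.cj c w) (h.cj c w') = s * h.sp.form w w' := by
  obtain ⟨x, hx, rfl⟩ := h.sp.pr_surj w
  obtain ⟨y, hy, rfl⟩ := h.sp.pr_surj w'
  rw [h.cj_pr hc hx, h.cj_pr hc hy, h.sp.form_pr (h.nor c hc x hx) (h.nor c hc y hy), h.sp.form_pr hx hy]
  have h1 : c * x * c⁻¹ * (c * y * c⁻¹) * (c * x * c⁻¹)⁻¹ * (c * y * c⁻¹)⁻¹ =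
      c * (x * y * x⁻¹ * y⁻¹) * c⁻¹ := by group
  rw [h1]
  obtain ⟨a, ha⟩ := h.mem_R.1 (h.sp.comm x hx y hy)
  rw [ha, hs]
  have e1 : h.sp.co (v a 0 0) = a := h.sp.co_a a
  have e2 : h.sp.co (v (s * a) 0 0) = s * a := h.sp.co_a (s * a)
  rw [e1, e2]

theorem CR_v {c : G} (hc : c ∈ centralizer (R : Set G)) (a : k) : c * v a 0 0 * c⁻¹ = v a 0 0 := by
  have := (mem_centralizer_iff.1 hc) _ (h.mem_R.2 ⟨a, rfl⟩)
  rw [← this, mul_inv_cancel_right]

theorem form_cj {c : G} (hc : c ∈ centralizer (R : Set G)) (w w' : h.sp.W) :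
    h.sp.form (h.cj c w) (h.cj c w') = h.sp.form w w' := by
  have := h.form_cj' (h.CR_le_NR hc) (s := 1) (fun a => by rw [one_mul]; exact h.CR_v hc a) w w'
  rwa [one_mul] at this

/-- `ε : F → W`, with image `e` -/
noncomputable def ep (b : F) : h.sp.W := h.sp.pr (v 0 b 0)

theorem pr_E (a : k) (b : F) : h.sp.pr (v a b 0) = h.ep b := by
  unfold ep
  rw [h.sp.pr_eq (h.E_le a b) (h.E_le 0 b), h.v_inv, ← h.v_add, T.add_self (h2 := h.h2), add_zero, add_zero]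
  exact h.mem_R.2 ⟨a, rfl⟩

theorem ep_add (b b' : F) : h.ep (b + b') = h.ep b + h.ep b' := by
  unfold ep
  rw [← h.sp.pr_mul (h.E_le 0 b) (h.E_le 0 b'), ← h.v_add, add_zero]

theorem ep_inj : Function.Injective h.ep := by
  intro b b' hb
  unfold ep at hb
  rw [h.sp.pr_eq (h.E_le 0 b) (h.E_le 0 b'), h.v_inv, ← h.v_add] at hb
  obtain ⟨a, ha⟩ := h.mem_R.1 hb
  have h1 := (h.v_eq ha).2.1
  calc b = b + (b' + b') := by rw [T.add_self (h2 := h.h2), add_zero]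
    _ = (b + b') + b' := by ring
    _ = b' := by rw [h1, zero_add]

/-- `B : W → F` -/
noncomputable def Bm (w : h.sp.W) : F := p (h.sp.rep w)

theorem Bm_pr {x : G} (hx : x ∈ Q) : h.Bm (h.sp.pr x) = p x := by
  unfold Bm
  have h1 := (h.sp.pr_eq (h.sp.rep_mem (h.sp.pr x)) hx).1 (h.sp.pr_rep _)
  have h3 := h.p_R h1
  rw [h.p_add _ (h.sp.rep_mem _) _ (inv_mem hx), h.p_inv hx] at h3
  calc p (h.sp.rep (h.sp.pr x)) = p (h.sp.rep (h.sp.pr x)) + (p x + p x) := by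
        rw [T.add_self (h2 := h.h2), add_zero]
    _ = (p (h.sp.rep (h.sp.pr x)) + p x) + p x := by ring
    _ = p x := by rw [h3, zero_add]

theorem Bm_add (w w' : h.sp.W) : h.Bm (w + w') = h.Bm w + h.Bm w' := by
  obtain ⟨x, hx, rfl⟩ := h.sp.pr_surj w
  obtain ⟨y, hy, rfl⟩ := h.sp.pr_surj w'
  rw [← h.sp.pr_mul hx hy, h.Bm_pr (mul_mem hx hy), h.Bm_pr hx, h.Bm_pr hy, h.p_add x hx y hy]

theorem Bm_ep (b : F) : h.Bm (h.ep b) = 0 := by
  unfold ep
  rw [h.Bm_pr (h.E_le 0 b), h.p_E]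

theorem Bm_surj (l : F) : ∃ w, h.Bm w = l := by
  obtain ⟨y, hy, rfl⟩ := h.p_surj l
  exact ⟨h.sp.pr y, h.Bm_pr hy⟩

/-- `f (ε b, w) = tr (b sg (B w))` -/
theorem form_ep (b : F) (w : h.sp.W) : h.sp.form (h.ep b) w = T.tr (b * T.sg (h.Bm w)) := by
  obtain ⟨y, hy, rfl⟩ := h.sp.pr_surj w
  unfold ep
  rw [h.sp.form_pr (h.E_le 0 b) hy, h.comm_E 0 b hy, h.Bm_pr hy]
  exact h.sp.co_a _

end GIn

end Cfsg.Agent.Omega.NOne.SU
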