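import Cfsg.Agent.Omega.NOne.SU.Grp2

/-!
# THEOREM UNI, group part 3: `W` as a `k`-space, the group `H`, `N_K(E) = N_K(V)`

`K = C_G(R)`.
-/

set_option autoImplicit false
set_option linter.unusedSectionVars false

open Subgroup

namespace Cfsg.Agent.Omega.NOne.SU

variable {G : Type*} [Group G] {k F : Type*} [Field k] [Field F] [Algebra k F]

namespace GIn

variable {T : Quad k F} {S : Sylow 2 G} {V R Q Q' : Subgroup G} {v : k → F → k → G} {p p' : G → F}

/-- the space `W = Q/R`, as a type which remembers that the scalars act -/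
def M (h : GIn T S V R Q Q' v p p') (_sc : Scal h.sp.form) : Type _ := h.sp.W

noncomputable instance (h : GIn T S V R Q Q' v p p') (sc : Scal h.sp.form) : AddCommGroup (h.M sc) :=
  inferInstanceAs (AddCommGroup h.sp.W)

noncomputable instance (h : GIn T S V R Q Q' v p p') (sc : Scal h.sp.form) : Module k (h.M sc) :=
  sc.module

variable (h : GIn T S V R Q Q' v p p') (sc : Scal h.sp.form)

/-- the projection `Q → M` -/
noncomputable def prM (x : G) : h.M sc := h.sp.pr x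

theorem prM_mul {x y : G} (hx : x ∈ Q) (hy : y ∈ Q) : h.prM sc (x * y) = h.prM sc x + h.prM sc y :=
  h.sp.pr_mul hx hy

theorem prM_surj (w : h.M sc) : ∃ x ∈ Q, h.prM sc x = w := h.sp.pr_surj w

theorem prM_eq_zero {x : G} (hx : x ∈ Q) : h.prM sc x = 0 ↔ x ∈ R := h.sp.pr_eq_zero hx

theorem prM_inv {x : G} (hx : x ∈ Q) : h.prM sc x⁻¹ = h.prM sc x := by
  have h1 : h.sp.pr x⁻¹ = h.sp.pr x := by rw [h.sp.pr_inv hx, h.sp.neg_eq]
  exact h1

theorem prM_eq {x y : G} (hx : x ∈ Q) (hy : y ∈ Q) : h.prM sc x = h.prM sc y ↔ x * y⁻¹ ∈ R := h.sp.pr_eq hx hy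

theorem M_add_self (w : h.M sc) : w + w = 0 := h.sp.add_self w

theorem M_sub_eq (w w' : h.M sc) : w - w' = w + w' := h.sp.sub_eq w w'

theorem prM_one : h.prM sc 1 = 0 := h.sp.pr_one

/-- the form on `M` -/
noncomputable def fM : h.M sc →ₗ[k] h.M sc →ₗ[k] k := sc.bil

theorem fM_pr {x y : G} (hx : x ∈ Q) (hy : y ∈ Q) :
    h.fM sc (h.prM sc x) (h.prM sc y) = h.sp.co (x * y * x⁻¹ * y⁻¹) := h.sp.form_pr hx hy

theorem fM_alt (w : h.M sc) : h.fM sc w w = 0 := h.sp.form_alt w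

theorem fM_symm (w w' : h.M sc) : h.fM sc w w' = h.fM sc w' w := h.sp.form_symm w w'

theorem fM_nondeg (w : h.M sc) (H : ∀ w', h.fM sc w w' = 0) : w = 0 := h.sp.form_nondeg w H

theorem finiteM [Finite G] : Finite (h.M sc) := h.sp.finite

/-- `ε : F → M` -/
noncomputable def epM : F →ₗ[k] h.M sc where
  toFun := h.ep
  map_add' := h.ep_add
  map_smul' := fun a b => sc.ext fun y => by
    show h.sp.form (h.ep (a • b)) y = h.sp.form (sc.sm a (h.ep b)) y
    rw [sc.f_sm, h.form_ep, h.form_ep, Algebra.smul_def, mul_assoc, mul_comm (algebraMap k F a),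
      T.tr_mul_alg, mul_comm]

theorem epM_inj : Function.Injective (h.epM sc) := h.ep_inj

theorem prM_E (a : k) (b : F) : h.prM sc (v a b 0) = h.epM sc b := h.pr_E a b

theorem Bm_sm (a : k) (w : h.sp.W) : h.Bm (sc.sm a w) = a • h.Bm w := by
  have h1 : T.sg (h.Bm (sc.sm a w)) = algebraMap k F a * T.sg (h.Bm w) := by
    apply T.eq_of_tr h.h2
    intro b
    have h3 := h.form_ep b (sc.sm a w)
    have h4 : h.sp.form (h.ep b) (sc.sm a w) = a * h.sp.form (h.ep b) w := sc.f_smul_right a _ _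
    rw [mul_comm, ← h3, h4, h.form_ep]
    have e : algebraMap k F a * T.sg (h.Bm w) * b = b * T.sg (h.Bm w) * algebraMap k F a := by ring
    rw [e, T.tr_mul_alg, mul_comm]
  have h5 := congrArg T.sg h1
  rw [T.sg_sg, map_mul, T.sg_sg, T.sg_alg] at h5
  rw [h5, Algebra.smul_def]

/-- `B : M → F` -/
noncomputable def BM : h.M sc →ₗ[k] F where
  toFun := h.Bm
  map_add' := h.Bm_add
  map_smul' := fun a w => h.Bm_sm sc a w

theorem BM_pr {x : G} (hx : x ∈ Q) : h.BM sc (h.prM sc x) = p x := h.Bm_pr hx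

theorem BM_surj (l : F) : ∃ w, h.BM sc w = l := h.Bm_surj l

theorem fM_ep (b : F) (w : h.M sc) : h.fM sc (h.epM sc b) w = T.tr (b * T.sg (h.BM sc w)) := h.form_ep b w

/-- conjugation as a linear map -/
noncomputable def lin (c : G) (hc : c ∈ normalizer (R : Set G)) (s : k)
    (hs : ∀ a, c * v a 0 0 * c⁻¹ = v (s * a) 0 0) : h.M sc ≃ₗ[k] h.M sc where
  toFun := h.cj c
  invFun := h.cj c⁻¹
  left_inv := h.cj_inv_cj hc
  right_inv := h.cj_cj_inv hc
  map_add' := h.cj_add hc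
  map_smul' := fun a w => sc.map_smul_of (c := s)
    (fun w => ⟨h.cj c⁻¹ w, h.cj_cj_inv hc w⟩) (h.form_cj' hc hs) a w

theorem lin_pr (c : G) (hc : c ∈ normalizer (R : Set G)) (s : k)
    (hs : ∀ a, c * v a 0 0 * c⁻¹ = v (s * a) 0 0) {x : G} (hx : x ∈ Q) :
    h.lin sc c hc s hs (h.prM sc x) = h.prM sc (c * x * c⁻¹) := h.cj_pr hc hx

theorem lin_f (c : G) (hc : c ∈ normalizer (R : Set G)) (s : k)
    (hs : ∀ a, c * v a 0 0 * c⁻¹ = v (s * a) 0 0) (w w' : h.M sc) :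
    h.fM sc (h.lin sc c hc s hs w) (h.lin sc c hc s hs w') = s * h.fM sc w w' := h.form_cj' hc hs w w'

/-- the action of an element of `K = C_G(R)` -/
noncomputable def linC (c : G) (hc : c ∈ centralizer (R : Set G)) : h.M sc ≃ₗ[k] h.M sc :=
  h.lin sc c (h.CR_le_NR hc) 1 (fun a => by rw [one_mul]; exact h.CR_v hc a)

/-- `g` is induced by `c ∈ K = C_G(R)`. -/
def Ind (g : h.M sc ≃ₗ[k] h.M sc) (c : G) : Prop :=
  c ∈ centralizer (R : Set G) ∧ ∀ x ∈ Q, g (h.prM sc x) = h.prM sc (c * x * c⁻¹)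

variable {h sc}

theorem ind_linC (c : G) (hc : c ∈ centralizer (R : Set G)) : h.Ind sc (h.linC sc c hc) c :=
  ⟨hc, fun _ hx => h.lin_pr sc _ _ _ _ hx⟩

theorem ind_one : h.Ind sc 1 1 := ⟨one_mem _, fun x _ => by
  have e : 1 * x * 1⁻¹ = x := by group
  rw [e]; rfl⟩

theorem Ind.mul {g g' : h.M sc ≃ₗ[k] h.M sc} {c c' : G} (hg : h.Ind sc g c) (hg' : h.Ind sc g' c') :
    h.Ind sc (g * g') (c * c') := by
  refine ⟨mul_mem hg.1 hg'.1, fun x hx => ?_⟩
  show g (g' _) = _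
  rw [hg'.2 x hx, hg.2 _ (h.nor c' (h.CR_le_NR hg'.1) x hx)]
  congr 1
  group

theorem Ind.inv {g : h.M sc ≃ₗ[k] h.M sc} {c : G} (hg : h.Ind sc g c) : h.Ind sc g⁻¹ c⁻¹ := by
  refine ⟨inv_mem hg.1, fun x hx => ?_⟩
  show g.symm _ = _
  rw [LinearEquiv.symm_apply_eq, hg.2 _ (h.nor c⁻¹ (inv_mem (h.CR_le_NR hg.1)) x hx)]
  congr 1
  group

theorem Ind.ext {g g' : h.M sc ≃ₗ[k] h.M sc} {c : G} (hg : h.Ind sc g c) (hg' : h.Ind sc g' c) : g = g' := by
  apply LinearEquiv.ext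
  intro w
  obtain ⟨x, hx, rfl⟩ := h.prM_surj sc w
  rw [hg.2 x hx, hg'.2 x hx]

variable (h sc)

/-- the image of `K` -/
noncomputable def H : Subgroup (h.M sc ≃ₗ[k] h.M sc) where
  carrier := {g | ∃ c, h.Ind sc g c}
  one_mem' := ⟨1, ind_one⟩
  mul_mem' := fun {g g'} hg hg' => by
    obtain ⟨c, hc⟩ := hg
    obtain ⟨c', hc'⟩ := hg'
    exact ⟨c * c', hc.mul hc'⟩
  inv_mem' := fun {g} hg => by
    obtain ⟨c, hc⟩ := hg
    exact ⟨c⁻¹, hc.inv⟩

variable {h sc}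

theorem Ind.mem {g : h.M sc ≃ₗ[k] h.M sc} {c : G} (hg : h.Ind sc g c) : g ∈ h.H sc := ⟨c, hg⟩

theorem isom {g : h.M sc ≃ₗ[k] h.M sc} (hg : g ∈ h.H sc) (w w' : h.M sc) :
    h.fM sc (g w) (g w') = h.fM sc w w' := by
  obtain ⟨c, hc⟩ := hg
  have e := hc.ext (ind_linC c hc.1)
  rw [e]
  have := h.lin_f sc c (h.CR_le_NR hc.1) 1 (fun a => by rw [one_mul]; exact h.CR_v hc.1 a) w w'
  rw [one_mul] at this
  exact this

variable (h)

/-! ### the kernel of `K` on `W` -/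

include h

/-- `c ∈ K` acts trivially on `W = Q/R` -/
theorem mem_Q_of_trivial [Finite G] {c : G} (hc : c ∈ centralizer (R : Set G))
    (ht : ∀ y ∈ Q, c * y * c⁻¹ * y⁻¹ ∈ R) : c ∈ Q := by
  let N : Subgroup G :=
    { carrier := {c | c ∈ centralizer (R : Set G) ∧ ∀ y ∈ Q, c * y * c⁻¹ * y⁻¹ ∈ R}
      one_mem' := ⟨one_mem _, fun y _ => by
        have e : 1 * y * 1⁻¹ * y⁻¹ = 1 := by group
        rw [e]; exact one_mem _⟩
      mul_mem' := fun {a b} ha hb => ⟨mul_mem ha.1 hb.1, fun y hy => by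
        have h1 := hb.2 y hy
        have h3 := ha.2 y hy
        have h4 : a * (b * y * b⁻¹ * y⁻¹) * a⁻¹ = b * y * b⁻¹ * y⁻¹ := by
          rw [← (mem_centralizer_iff.1 ha.1) _ h1, mul_inv_cancel_right]
        have e : a * b * y * (a * b)⁻¹ * y⁻¹ = a * (b * y * b⁻¹ * y⁻¹) * a⁻¹ * (a * y * a⁻¹ * y⁻¹) := by group
        rw [e, h4]
        exact mul_mem h1 h3⟩
      inv_mem' := fun {a} ha => ⟨inv_mem ha.1, fun y hy => by
        have h1 := ha.2 _ (h.nor a⁻¹ (inv_mem (h.CR_le_NR ha.1)) y hy)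
        have e : a⁻¹ * y * a⁻¹⁻¹ * y⁻¹ = (a * (a⁻¹ * y * a⁻¹⁻¹) * a⁻¹ * (a⁻¹ * y * a⁻¹⁻¹)⁻¹)⁻¹ := by group
        rw [e]
        exact inv_mem h1⟩ }
  have hNQ : N ≤ Q := by
    refine h.max N ?_ (fun x hx => hx.1) ?_
    · intro x
      have hx : (x : G) ^ 2 ∈ Q := by
        apply h.char2
        rw [mem_centralizer_iff]
        intro y hy
        have h1 := x.2.2 y hy
        set r := (x : G) * y * (x : G)⁻¹ * y⁻¹ with hr
        have h3 : (x : G) * y * (x : G)⁻¹ = r * y := by rw [hr]; group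
        have h4 : (x : G) * r * (x : G)⁻¹ = r := by
          rw [← (mem_centralizer_iff.1 x.2.1) _ h1, mul_inv_cancel_right]
        have h5 : (x : G) ^ 2 * y * ((x : G) ^ 2)⁻¹ = y := by
          calc (x : G) ^ 2 * y * ((x : G) ^ 2)⁻¹ = x * (x * y * (x : G)⁻¹) * (x : G)⁻¹ := by rw [pow_two]; group
            _ = x * (r * y) * (x : G)⁻¹ := by rw [h3]
            _ = (x * r * (x : G)⁻¹) * (x * y * (x : G)⁻¹) := by group
            _ = (r * r) * y := by rw [h4, h3]; group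
            _ = y := by rw [h.sp.r_sq h1, one_mul]
        calc y * (x : G) ^ 2 = ((x : G) ^ 2 * y * ((x : G) ^ 2)⁻¹) * (x : G) ^ 2 := by rw [h5]
          _ = (x : G) ^ 2 * y := by group
      obtain ⟨m, hm⟩ := h.Q_two ⟨(x : G) ^ 2, hx⟩
      refine ⟨m + 1, Subtype.ext ?_⟩
      have h1 := congrArg Subtype.val hm
      simp only [SubmonoidClass.coe_pow, OneMemClass.coe_one] at h1 ⊢
      rw [← h1, ← pow_mul, pow_succ, mul_comm]
    · intro d hd x hx
      refine ⟨mul_mem (mul_mem hd hx.1) (inv_mem hd), fun y hy => ?_⟩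
      have h1 := hx.2 _ (h.nor_inv (h.CR_le_NR hd) hy)
      have h3 : d * (x * (d⁻¹ * y * d) * x⁻¹ * (d⁻¹ * y * d)⁻¹) * d⁻¹ ∈ R :=
        (mem_normalizer_iff.1 (h.CR_le_NR hd) _).1 h1
      have e : d * (x * (d⁻¹ * y * d) * x⁻¹ * (d⁻¹ * y * d)⁻¹) * d⁻¹ =
          d * x * d⁻¹ * y * (d * x * d⁻¹)⁻¹ * y⁻¹ := by group
      rwa [e] at h3
  exact hNQ ⟨hc, ht⟩

/-- `cj c` trivial on `W` -/
theorem mem_Q_of_cj [Finite G] {c : G} (hc : c ∈ centralizer (R : Set G)) (ht : ∀ w, h.cj c w = w) : c ∈ Q := by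
  apply h.mem_Q_of_trivial hc
  intro y hy
  have h1 := ht (h.sp.pr y)
  rwa [h.cj_pr (h.CR_le_NR hc) hy, h.sp.pr_eq (h.nor c (h.CR_le_NR hc) y hy) hy] at h1

theorem cj_of_mem_Q {c : G} (hc : c ∈ Q) (w : h.sp.W) : h.cj c w = w := by
  obtain ⟨y, hy, rfl⟩ := h.sp.pr_surj w
  rw [h.cj_pr (h.CR_le_NR (h.Q_le_CR hc)) hy,
    h.sp.pr_eq (h.nor c (h.CR_le_NR (h.Q_le_CR hc)) y hy) hy]
  exact h.sp.comm c hc y hy

/-- the action of `v a b d` on `W` -/
theorem cj_V (a : k) (b : F) (d : k) (w : h.sp.W) : h.cj (v a b d) w = w + h.ep (h.Bm w * algebraMap k F d) := by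
  obtain ⟨y, hy, rfl⟩ := h.sp.pr_surj w
  have hv : v a b d ∈ centralizer (R : Set G) := h.CV_le_CR (h.V_le_CV (h.v_mem a b d))
  have h0 := h.nor (v a b d) (h.CR_le_NR hv) y hy
  rw [h.cj_pr (h.CR_le_NR hv) hy, h.Bm_pr hy]
  obtain ⟨a', ha'⟩ := h.comm_V a b d hy
  have h1 : v a b d * y * (v a b d)⁻¹ = v a' (p y * algebraMap k F d) 0 * y := by
    rw [← ha']; group
  rw [h1, h.sp.pr_mul (h.E_le _ _) hy, h.pr_E, add_comm]

/-! ### elements which are trivial on `e^⊥` and map `W` into `e` -/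

include sc in
/-- the double centraliser: `C_Q(C_Q(V)) = V ∩ Q` -/
theorem mem_E_of_comm {x : G} (hx : x ∈ Q) (hc : ∀ y ∈ Q, y ∈ centralizer (V : Set G) → x * y = y * x) :
    ∃ a b, x = v a b 0 := by
  -- the functional `y ↦ f(x, y)` factors through `B`
  have key : ∀ w : h.sp.W, h.Bm w = 0 → h.sp.form (h.sp.pr x) w = 0 := by
    intro w hw
    obtain ⟨y, hy, rfl⟩ := h.sp.pr_surj w
    rw [h.Bm_pr hy] at hw
    rw [h.sp.form_pr hx hy, hc y hy ((h.p_eq_zero hy).1 hw)]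
    have e : y * x * x⁻¹ * y⁻¹ = 1 := by group
    rw [e, h.sp.co_one]
  -- `ψ(l) = f(x, w)` for `B w = l`
  let ψ : F → k := fun l => h.sp.form (h.sp.pr x) (h.Bm_surj l).choose
  have hψ : ∀ w : h.sp.W, ψ (h.Bm w) = h.sp.form (h.sp.pr x) w := by
    intro w
    have h1 := (h.Bm_surj (h.Bm w)).choose_spec
    have h3 := key ((h.Bm_surj (h.Bm w)).choose + w) (by
      rw [h.Bm_add, h1, T.add_self (h2 := h.h2)])
    rw [h.sp.form_add_right] at h3
    have h4 := T.add_selfk (h2 := h.h2) (h.sp.form (h.sp.pr x) w)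
    calc ψ (h.Bm w) = ψ (h.Bm w) + (h.sp.form (h.sp.pr x) w + h.sp.form (h.sp.pr x) w) := by rw [h4, add_zero]
      _ = (h.sp.form (h.sp.pr x) (h.Bm_surj (h.Bm w)).choose + h.sp.form (h.sp.pr x) w) +
          h.sp.form (h.sp.pr x) w := by ring
      _ = _ := by rw [h3, zero_add]
  have hadd : ∀ l m, ψ (l + m) = ψ l + ψ m := by
    intro l m
    obtain ⟨w, rfl⟩ := h.Bm_surj l
    obtain ⟨w', rfl⟩ := h.Bm_surj m
    rw [← h.Bm_add, hψ, hψ, hψ, h.sp.form_add_right]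
  have hsm : ∀ (a : k) l, ψ (a • l) = a * ψ l := by
    intro a l
    obtain ⟨w, rfl⟩ := h.Bm_surj l
    have h1 : a • h.Bm w = h.Bm (sc.sm a w) := (h.Bm_sm sc a w).symm
    rw [h1, hψ, hψ]
    exact sc.f_smul_right a _ _
  -- Riesz for the trace form
  let L : F →ₗ[k] (F →ₗ[k] k) := LinearMap.mk₂ k (fun b l => T.tr (b * T.sg l))
    (fun b b' l => by rw [add_mul, map_add]) (fun a b l => by
      rw [smul_mul_assoc, map_smul]) (fun b l l' => by rw [map_add, mul_add, map_add])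
    (fun a b l => by rw [map_smul, mul_smul_comm, map_smul])
  have hLinj : Function.Injective L := by
    rw [injective_iff_map_eq_zero]
    intro b hb
    apply T.eq_zero_of_tr h.h2
    intro c
    have := LinearMap.congr_fun hb (T.sg c)
    have e : L b (T.sg c) = T.tr (b * T.sg (T.sg c)) := rfl
    rw [e, T.sg_sg] at this
    exact this
  have hfin := T.finF
  have hfd : FiniteDimensional k F := Module.Finite.of_finite
  have hLsurj : Function.Surjective L := by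
    have h1 : Module.finrank k F = Module.finrank k (F →ₗ[k] k) := (Subspace.dual_finrank_eq).symm
    exact (LinearMap.injective_iff_surjective_of_finrank_eq_finrank h1).1 hLinj
  obtain ⟨b, hb⟩ := hLsurj { toFun := ψ, map_add' := hadd, map_smul' := hsm }
  have hx' : h.sp.pr x = h.ep b := by
    apply sc.ext
    intro w
    have h1 := LinearMap.congr_fun hb (h.Bm w)
    have e : L b (h.Bm w) = T.tr (b * T.sg (h.Bm w)) := rfl
    rw [e] at h1
    rw [h.form_ep, h1, ← hψ]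
    rfl
  rw [ep, h.sp.pr_eq hx (h.E_le 0 b)] at hx'
  obtain ⟨a, ha⟩ := h.mem_R.1 hx'
  refine ⟨a, b, ?_⟩
  have h1 : x = x * (v 0 b 0)⁻¹ * v 0 b 0 := by group
  rw [h1, ha, ← h.v_add, add_zero, zero_add, add_zero]

end GIn

end Cfsg.Agent.Omega.NOne.SU
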