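import Cfsg.Agent.Omega.NOne.SU.Grp3

/-!
# THEOREM UNI, group part 4: `N_K(E) ≤ N(V)`
-/

set_option autoImplicit false
set_option linter.unusedSectionVars false

open Subgroup

namespace Cfsg.Agent.Omega.NOne.SU

variable {G : Type*} [Group G] {k F : Type*} [Field k] [Field F] [Algebra k F]

namespace GIn

variable {T : Quad k F} {S : Sylow 2 G} {V R Q Q' : Subgroup G} {v : k → F → k → G} {p p' : G → F}
variable (h : GIn T S V R Q Q' v p p') (sc : Scal h.sp.form)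
include h

/-- `C_Q(E) = C_Q(V)` -/
theorem mem_CV_of_comm_E {y : G} (hy : y ∈ Q) (hc : ∀ b, v 0 b 0 * y = y * v 0 b 0) :
    y ∈ centralizer (V : Set G) := by
  rw [← h.p_eq_zero hy]
  have h1 : T.sg (p y) = 0 := by
    apply T.eq_zero_of_tr h.h2
    intro b
    have h3 := h.comm_E 0 b hy
    have h4 : v 0 b 0 * y * (v 0 b 0)⁻¹ * y⁻¹ = 1 := by
      rw [hc]; group
    rw [h4, ← h.v_zero] at h3
    have h5 := (h.v_eq h3).1
    rw [mul_comm]; exact h5.symm
  exact (map_eq_zero T.sg).1 h1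

/-- **LEMMA A.** An element `c` of `K` with `[Q, c] ≤ E` and `[C_Q(V), c] ≤ R` acts on `W` as an element of `V`. -/
theorem act_as_V [Finite G] (sc : Scal h.sp.form) {c : G} (hc : c ∈ centralizer (R : Set G))
    (hE : ∀ y ∈ Q, ∃ a b, c * y * c⁻¹ * y⁻¹ = v a b 0)
    (hB : ∀ x ∈ Q, x ∈ centralizer (V : Set G) → c * x * c⁻¹ * x⁻¹ ∈ R) :
    ∃ d, c * v 0 0 d ∈ Q := by
  -- `[c, y]` only depends on `p y`
  have hcyQ : ∀ y ∈ Q, c * y * c⁻¹ ∈ Q := fun y hy => h.nor c (h.CR_le_NR hc) y hy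
  have hpr : ∀ y ∈ Q, ∀ a b, c * y * c⁻¹ * y⁻¹ = v a b 0 → h.prM sc (c * y * c⁻¹) = h.epM sc b + h.prM sc y := by
    intro y hy a b hab
    have e : c * y * c⁻¹ = v a b 0 * y := by rw [← hab]; group
    rw [e, h.prM_mul sc (h.E_le a b) hy, h.prM_E]
  have hdep : ∀ y ∈ Q, ∀ y' ∈ Q, ∀ a b a' b', p y = p y' → c * y * c⁻¹ * y⁻¹ = v a b 0 →
      c * y' * c⁻¹ * y'⁻¹ = v a' b' 0 → b = b' := by
    intro y hy y' hy' a b a' b' hp hab hab'
    have hx : y * y'⁻¹ ∈ Q := mul_mem hy (inv_mem hy')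
    have hxV : y * y'⁻¹ ∈ centralizer (V : Set G) := by
      rw [← h.p_eq_zero hx, h.p_add y hy _ (inv_mem hy'), h.p_inv hy', hp, T.add_self (h2 := h.h2)]
    have h1 := hB _ hx hxV
    have h3 : h.prM sc (c * (y * y'⁻¹) * c⁻¹) = h.prM sc (y * y'⁻¹) := by
      rw [h.prM_eq sc (hcyQ _ hx) hx]; exact h1
    have e : c * (y * y'⁻¹) * c⁻¹ = (c * y * c⁻¹) * (c * y' * c⁻¹)⁻¹ := by group
    rw [e, h.prM_mul sc (hcyQ y hy) (inv_mem (hcyQ y' hy')), h.prM_inv sc (hcyQ y' hy'), hpr y hy a b hab,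
      hpr y' hy' a' b' hab', h.prM_mul sc hy (inv_mem hy'), h.prM_inv sc hy'] at h3
    have h4 : h.epM sc b = h.epM sc b' := by
      have h5 := h.M_add_self sc (h.epM sc b')
      have h6 : h.epM sc b + h.epM sc b' = 0 := by
        have : h.epM sc b + h.prM sc y + (h.epM sc b' + h.prM sc y') =
            (h.epM sc b + h.epM sc b') + (h.prM sc y + h.prM sc y') := by abel
        rw [this] at h3
        exact add_eq_right.1 h3
      calc h.epM sc b = h.epM sc b + (h.epM sc b' + h.epM sc b') := by rw [h5, add_zero]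
        _ = (h.epM sc b + h.epM sc b') + h.epM sc b' := by abel
        _ = h.epM sc b' := by rw [h6, zero_add]
    exact h.epM_inj sc h4
  -- the map `ψ`
  let yy : F → G := fun l => (h.p_surj l).choose
  have hyQ : ∀ l, yy l ∈ Q := fun l => (h.p_surj l).choose_spec.1
  have hyp : ∀ l, p (yy l) = l := fun l => (h.p_surj l).choose_spec.2
  let ψ : F → F := fun l => (hE (yy l) (hyQ l)).choose_spec.choose
  have hψ : ∀ l, ∃ a, c * yy l * c⁻¹ * (yy l)⁻¹ = v a (ψ l) 0 := fun l =>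
    ⟨(hE (yy l) (hyQ l)).choose, (hE (yy l) (hyQ l)).choose_spec.choose_spec⟩
  have hψ' : ∀ y ∈ Q, ∀ a b, c * y * c⁻¹ * y⁻¹ = v a b 0 → b = ψ (p y) := by
    intro y hy a b hab
    obtain ⟨a', ha'⟩ := hψ (p y)
    exact hdep y hy (yy (p y)) (hyQ _) a b a' _ (hyp _).symm hab ha'
  have hψpr : ∀ y ∈ Q, h.prM sc (c * y * c⁻¹) = h.epM sc (ψ (p y)) + h.prM sc y := by
    intro y hy
    obtain ⟨a, b, hab⟩ := hE y hy
    rw [hpr y hy a b hab, ← hψ' y hy a b hab]
  have hadd : ∀ l m, ψ (l + m) = ψ l + ψ m := by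
    intro l m
    apply h.epM_inj sc
    have h1 := hψpr _ (mul_mem (hyQ l) (hyQ m))
    have e : c * (yy l * yy m) * c⁻¹ = (c * yy l * c⁻¹) * (c * yy m * c⁻¹) := by group
    rw [e, h.prM_mul sc (hcyQ _ (hyQ l)) (hcyQ _ (hyQ m)), hψpr _ (hyQ l), hψpr _ (hyQ m),
      h.prM_mul sc (hyQ l) (hyQ m), h.p_add _ (hyQ l) _ (hyQ m), hyp, hyp] at h1
    rw [map_add]
    have h3 : h.epM sc (ψ l) + h.prM sc (yy l) + (h.epM sc (ψ m) + h.prM sc (yy m)) =
        (h.epM sc (ψ l) + h.epM sc (ψ m)) + (h.prM sc (yy l) + h.prM sc (yy m)) := by abel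
    rw [h3] at h1
    exact (add_right_cancel h1).symm
  -- `k`-linearity
  have hlin : ∀ w : h.M sc, h.linC sc c hc w = h.epM sc (ψ (h.BM sc w)) + w := by
    intro w
    obtain ⟨y, hy, rfl⟩ := h.prM_surj sc w
    rw [(ind_linC (sc := sc) c hc).2 y hy, hψpr y hy, h.BM_pr sc hy]
  have hsm : ∀ (a : k) l, ψ (algebraMap k F a * l) = algebraMap k F a * ψ l := by
    intro a l
    obtain ⟨w, rfl⟩ := h.BM_surj sc l
    apply h.epM_inj sc
    have h1 := hlin (a • w)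
    rw [map_smul, map_smul, hlin w, smul_add] at h1
    rw [← Algebra.smul_def, ← Algebra.smul_def, map_smul]
    exact (add_right_cancel h1).symm
  -- the squaring map
  have hsq : ∀ l, T.tr (ψ l * T.sg l) = 0 := by
    intro l
    obtain ⟨a, ha⟩ := hψ l
    set y := yy l with hy
    have hyq := hyQ l
    have h1 : c * y * c⁻¹ = v a (ψ l) 0 * y := by rw [← ha]; group
    have h3 : (c * y * c⁻¹) * (c * y * c⁻¹) = y * y := by
      have h4 := h.sp.sq y hyq
      have e : (c * y * c⁻¹) * (c * y * c⁻¹) = c * (y * y) * c⁻¹ := by group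
      rw [e, ← (mem_centralizer_iff.1 hc) _ h4, mul_inv_cancel_right]
    rw [h1] at h3
    have h5 : v a (ψ l) 0 * y * (v a (ψ l) 0)⁻¹ * y⁻¹ = 1 := by
      rw [h.v_inv]
      calc v a (ψ l) 0 * y * v a (ψ l) 0 * y⁻¹ = (v a (ψ l) 0 * y * (v a (ψ l) 0 * y)) * (y * y)⁻¹ := by group
        _ = 1 := by rw [h3, mul_inv_cancel]
    rw [h.comm_E a (ψ l) hyq, ← h.v_zero] at h5
    have h6 := (h.v_eq h5).1
    rw [hyp] at h6
    exact h6
  obtain ⟨d, hd⟩ := T.scalar_of h.h2 ψ hadd hsm hsq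
  refine ⟨d, ?_⟩
  have hvR : v 0 0 d ∈ centralizer (R : Set G) := h.CV_le_CR (h.V_le_CV (h.v_mem 0 0 d))
  apply h.mem_Q_of_cj (mul_mem hc hvR)
  intro w
  rw [h.cj_mul (h.CR_le_NR hc) (h.CR_le_NR hvR), h.cj_V]
  have h1 := hlin (w + h.ep (h.Bm w * algebraMap k F d))
  have h3 : h.BM sc (w + h.ep (h.Bm w * algebraMap k F d) : h.sp.W) = h.Bm w := by
    show h.Bm (w + h.ep (h.Bm w * algebraMap k F d)) = _
    rw [h.Bm_add, h.Bm_ep, add_zero]
  rw [h3, hd, mul_comm (algebraMap k F d)] at h1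
  have h4 : h.ep (h.Bm w * algebraMap k F d) + (w + h.ep (h.Bm w * algebraMap k F d)) = w := by
    have := h.sp.add_self (h.ep (h.Bm w * algebraMap k F d))
    rw [add_comm w, ← add_assoc, this, zero_add]
  exact h1.trans h4

/-- `[v 0 0 d, C_Q(V)] = 1`, `[v 0 0 d, y] ∈ E` -/
theorem normalizes_V [Finite G] (sc : Scal h.sp.form) {c : G} (hc : c ∈ centralizer (R : Set G))
    (hcE : ∀ a b, ∃ a' b', c * v a b 0 * c⁻¹ = v a' b' 0) : c ∈ normalizer (V : Set G) := by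
  have hN := h.CR_le_NR hc
  -- the same for `c⁻¹`
  have hcE' : ∀ a b, ∃ a' b', c⁻¹ * v a b 0 * c = v a' b' 0 := by
    have := T.finF
    have := T.fink
    let f1 : k × F → k × F := fun x => ((hcE x.1 x.2).choose, (hcE x.1 x.2).choose_spec.choose)
    have hf1 : ∀ x : k × F, c * v x.1 x.2 0 * c⁻¹ = v (f1 x).1 (f1 x).2 0 := fun x =>
      (hcE x.1 x.2).choose_spec.choose_spec
    have hinj : Function.Injective f1 := by
      intro x y hxy
      have h1 := hf1 x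
      rw [hxy, ← hf1 y] at h1
      have h3 := h.v_eq (mul_left_cancel (mul_right_cancel h1))
      exact Prod.ext h3.1 h3.2.1
    have hsurj := Finite.surjective_of_injective hinj
    intro a b
    obtain ⟨x, hx⟩ := hsurj (a, b)
    refine ⟨x.1, x.2, ?_⟩
    have h1 := hf1 x
    rw [hx] at h1
    rw [← h1]; group
  -- `c` normalises `B = C_Q(E)`
  have hBc : ∀ x ∈ Q, x ∈ centralizer (V : Set G) → c⁻¹ * x * c ∈ centralizer (V : Set G) := by
    intro x hx hxV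
    apply h.mem_CV_of_comm_E (h.nor_inv hN hx)
    intro b
    obtain ⟨a', b', hab⟩ := hcE 0 b
    have h1 := (mem_centralizer_iff.1 hxV) _ (h.v_mem a' b' 0)
    have h3 : v 0 b 0 = c⁻¹ * v a' b' 0 * c := by rw [← hab]; group
    rw [h3]
    calc c⁻¹ * v a' b' 0 * c * (c⁻¹ * x * c) = c⁻¹ * (v a' b' 0 * x) * c := by group
      _ = c⁻¹ * (x * v a' b' 0) * c := by rw [h1]
      _ = _ := by group
  have key : ∀ d, c * v 0 0 d * c⁻¹ ∈ V := by
    intro d
    have hvR : v 0 0 d ∈ centralizer (R : Set G) := h.CV_le_CR (h.V_le_CV (h.v_mem 0 0 d))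
    have hxR : c * v 0 0 d * c⁻¹ ∈ centralizer (R : Set G) := mul_mem (mul_mem hc hvR) (inv_mem hc)
    have hcomm : ∀ x ∈ Q, x ∈ centralizer (V : Set G) →
        c * v 0 0 d * c⁻¹ * x = x * (c * v 0 0 d * c⁻¹) := by
      intro x hx hxV
      have h1 := (mem_centralizer_iff.1 (hBc x hx hxV)) _ (h.v_mem 0 0 d)
      calc c * v 0 0 d * c⁻¹ * x = c * (v 0 0 d * (c⁻¹ * x * c)) * c⁻¹ := by group
        _ = c * ((c⁻¹ * x * c) * v 0 0 d) * c⁻¹ := by rw [h1]
        _ = _ := by group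
    obtain ⟨d', hd'⟩ := h.act_as_V sc hxR (fun y hy => by
      obtain ⟨a', ha'⟩ := h.comm_V 0 0 d (h.nor_inv hN hy)
      obtain ⟨a2, b2, hab⟩ := hcE a' (p (c⁻¹ * y * c) * algebraMap k F d)
      refine ⟨a2, b2, ?_⟩
      rw [← hab, ← ha']; group) (fun x hx hxV => by
      rw [hcomm x hx hxV]
      have e : x * (c * v 0 0 d * c⁻¹) * (c * v 0 0 d * c⁻¹)⁻¹ * x⁻¹ = 1 := by group
      rw [e]; exact one_mem _)
    -- the element `q0 = c v c⁻¹ v'` of `Q`
    have hq0V : c * v 0 0 d * c⁻¹ * v 0 0 d' ∈ centralizer (V : Set G) := by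
      apply h.mem_CV_of_comm_E hd'
      intro b
      have h1 := hcomm (v 0 b 0) (h.E_le 0 b) (h.V_le_CV (h.v_mem _ _ _))
      have h3 := h.v_comm 0 b 0 0 0 d'
      calc v 0 b 0 * (c * v 0 0 d * c⁻¹ * v 0 0 d') = (v 0 b 0 * (c * v 0 0 d * c⁻¹)) * v 0 0 d' := by group
        _ = (c * v 0 0 d * c⁻¹ * v 0 b 0) * v 0 0 d' := by rw [h1]
        _ = c * v 0 0 d * c⁻¹ * (v 0 b 0 * v 0 0 d') := by group
        _ = c * v 0 0 d * c⁻¹ * (v 0 0 d' * v 0 b 0) := by rw [h3]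
        _ = _ := by group
    obtain ⟨a, b, hab⟩ := h.mem_E_of_comm (sc := sc) hd' (fun x hx hxV => by
      have h1 := hcomm x hx hxV
      have h3 := (mem_centralizer_iff.1 hxV) _ (h.v_mem 0 0 d')
      calc c * v 0 0 d * c⁻¹ * v 0 0 d' * x = c * v 0 0 d * c⁻¹ * (v 0 0 d' * x) := by group
        _ = c * v 0 0 d * c⁻¹ * (x * v 0 0 d') := by rw [h3]
        _ = (c * v 0 0 d * c⁻¹ * x) * v 0 0 d' := by group
        _ = (x * (c * v 0 0 d * c⁻¹)) * v 0 0 d' := by rw [h1]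
        _ = _ := by group)
    have h5 : c * v 0 0 d * c⁻¹ = v a b 0 * (v 0 0 d')⁻¹ := by rw [← hab]; group
    rw [h5]
    exact mul_mem (h.v_mem _ _ _) (inv_mem (h.v_mem _ _ _))
  have key2 : ∀ x ∈ V, c * x * c⁻¹ ∈ V := by
    intro x hx
    obtain ⟨a, b, d, rfl⟩ := h.v_surj x hx
    obtain ⟨a', b', hab⟩ := hcE a b
    have e : v a b d = v a b 0 * v 0 0 d := by rw [← h.v_add, add_zero, add_zero, zero_add]
    have e2 : c * (v a b 0 * v 0 0 d) * c⁻¹ = (c * v a b 0 * c⁻¹) * (c * v 0 0 d * c⁻¹) := by group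
    rw [e, e2, hab]
    exact mul_mem (h.v_mem _ _ _) (key d)
  rw [mem_normalizer_iff]
  intro x
  constructor
  · exact key2 x
  · intro hx
    -- finiteness
    let g1 : V → V := fun y => ⟨c * y * c⁻¹, key2 y y.2⟩
    have hg1 : Function.Injective g1 := by
      intro y y' hyy
      have := congrArg Subtype.val hyy
      exact Subtype.ext (mul_left_cancel (mul_right_cancel this))
    obtain ⟨y, hy⟩ := Finite.surjective_of_injective hg1 ⟨_, hx⟩
    have h1 : c * (y : G) * c⁻¹ = c * x * c⁻¹ := congrArg Subtype.val hy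
    have h3 : (y : G) = x := mul_left_cancel (mul_right_cancel h1)
    rw [← h3]; exact y.2

end GIn

end Cfsg.Agent.Omega.NOne.SU
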