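import Cfsg.Agent.Omega.NOne.SU.Grp4

/-!
# THEOREM UNI, group part 5: the map `y`, the hermitian form on `Φ`, the action of `C_{Q'}(V)` on `e^⊥`
-/

set_option autoImplicit false
set_option linter.unusedSectionVars false

open Subgroup

namespace Cfsg.Agent.Omega.NOne.SU

variable {G : Type*} [Group G] {k F : Type*} [Field k] [Field F] [Algebra k F]

/-- Riesz for the trace form -/
theorem Quad.riesz (T : Quad k F) (h2 : (2 : k) = 0) (ψ : F → k) (hadd : ∀ x y, ψ (x + y) = ψ x + ψ y)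
    (hsm : ∀ (a : k) x, ψ (algebraMap k F a * x) = a * ψ x) : ∃ c, ∀ b, ψ b = T.tr (b * c) := by
  let L : F →ₗ[k] (F →ₗ[k] k) := LinearMap.mk₂ k (fun c b => T.tr (b * c))
    (fun c c' b => by rw [mul_add, map_add]) (fun a c b => by rw [mul_smul_comm, map_smul])
    (fun c b b' => by rw [add_mul, map_add]) (fun a c b => by rw [smul_mul_assoc, map_smul])
  have hLinj : Function.Injective L := by
    rw [injective_iff_map_eq_zero]
    intro c hc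
    apply T.eq_zero_of_tr h2
    intro b
    have := LinearMap.congr_fun hc b
    have e : L c b = T.tr (b * c) := rfl
    rw [e] at this
    rw [mul_comm]
    exact this
  have hfin := T.finF
  have hfd : FiniteDimensional k F := Module.Finite.of_finite
  have hLsurj : Function.Surjective L := by
    have h1 : Module.finrank k F = Module.finrank k (F →ₗ[k] k) := (Subspace.dual_finrank_eq).symm
    exact (LinearMap.injective_iff_surjective_of_finrank_eq_finrank h1).1 hLinj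
  obtain ⟨c, hc⟩ := hLsurj { toFun := ψ, map_add' := hadd, map_smul' := fun a x => by
                                rw [Algebra.smul_def, hsm]; rfl }
  refine ⟨c, fun b => ?_⟩
  have h1 := LinearMap.congr_fun hc b
  exact h1.symm

namespace GIn

variable {T : Quad k F} {S : Sylow 2 G} {V R Q Q' : Subgroup G} {v : k → F → k → G} {p p' : G → F}
variable (h : GIn T S V R Q Q' v p p') (sc : Scal h.sp.form)

variable {Φ : Type*} [AddCommGroup Φ] [Module F Φ] {φ χ : G → Φ} (f : Fld T V R Q Q' v p φ χ)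
include h

theorem E_CV (a : k) (b : F) : v a b 0 ∈ centralizer (V : Set G) := h.V_le_CV (h.v_mem _ _ _)

include f in
theorem φ_E (a : k) (b : F) : φ (v a b 0) = 0 :=
  (f.φ_ker _ (h.E_le a b) (h.E_CV a b)).2 ⟨a, b, rfl⟩

include f in
theorem φ_one : φ 1 = 0 := by
  have := h.φ_E f 0 0
  rwa [h.v_zero] at this

include f in
theorem add_selfΦ (u : Φ) : u + u = 0 := by
  rw [← two_smul F, T.twoF h.h2, zero_smul]

include f in
theorem φ_inv {x : G} (hx : x ∈ Q) (hxV : x ∈ centralizer (V : Set G)) : φ x⁻¹ = φ x := by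
  have h1 := f.φ_add x⁻¹ (inv_mem hx) (inv_mem hxV) x hx hxV
  rw [inv_mul_cancel, h.φ_one f] at h1
  calc φ x⁻¹ = φ x⁻¹ + (φ x + φ x) := by rw [h.add_selfΦ f, add_zero]
    _ = (φ x⁻¹ + φ x) + φ x := by abel
    _ = φ x := by rw [← h1, zero_add]

include f in
/-- `φ x = φ x'` iff `x ≡ x'` mod `E` -/
theorem φ_eq {x x' : G} (hx : x ∈ Q) (hxV : x ∈ centralizer (V : Set G)) (hx' : x' ∈ Q)
    (hxV' : x' ∈ centralizer (V : Set G)) (e : φ x = φ x') : ∃ a b, x = v a b 0 * x' := by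
  have h1 : φ (x * x'⁻¹) = 0 := by
    rw [f.φ_add x hx hxV _ (inv_mem hx') (inv_mem hxV'), h.φ_inv f hx' hxV', e, h.add_selfΦ f]
  obtain ⟨a, b, hab⟩ := (f.φ_ker _ (mul_mem hx (inv_mem hx')) (mul_mem hxV (inv_mem hxV'))).1 h1
  refine ⟨a, b, ?_⟩
  rw [← hab]; group

theorem BM_eq_zero {x : G} (hx : x ∈ Q) : h.BM sc (h.prM sc x) = 0 ↔ x ∈ centralizer (V : Set G) := by
  rw [h.BM_pr sc hx]
  exact h.p_eq_zero hx

/-- `[n, y]` -/
theorem prM_comm {c y : G} (hc : c ∈ centralizer (R : Set G)) (hy : y ∈ Q) :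
    h.linC sc c hc (h.prM sc y) = h.prM sc y + h.prM sc (c * y * c⁻¹ * y⁻¹) := by
  rw [(ind_linC (sc := sc) c hc).2 y hy]
  have h1 := h.nor c (h.CR_le_NR hc) y hy
  rw [h.prM_mul sc h1 (inv_mem hy), h.prM_inv sc hy, add_comm (h.prM sc y), add_assoc, h.M_add_self, add_zero]

include f in
/-- **`φ` is `k`-linear**: the value on `s • x` -/
theorem φ_smul [Module k Φ] [IsScalarTower k F Φ] (s : k) {x x' : G} (hx : x ∈ Q) (hxV : x ∈ centralizer (V : Set G))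
    (hx' : x' ∈ Q) (hxV' : x' ∈ centralizer (V : Set G)) (e : h.prM sc x' = s • h.prM sc x) :
    φ x' = s • φ x := by
  obtain ⟨n, hn, hnV, hnχ⟩ := f.χ_surj (φ x)
  obtain ⟨y1, hy1, hp1⟩ := h.p_surj 1
  have hnR := h.CV_le_CR hnV
  have h1 := h.comm_CV hnV hy1
  have h3 := f.bil y1 hy1 n hn hnV
  rw [hp1, one_smul, hnχ] at h3
  obtain ⟨a, b, hab⟩ := h.φ_eq f h1.1 h1.2 hx hxV h3
  -- `s • [n, y1]`
  obtain ⟨y2, hy2, hyp2⟩ := h.prM_surj sc (s • h.prM sc y1)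
  have hp2 : p y2 = algebraMap k F s := by
    rw [← h.BM_pr sc hy2, hyp2, map_smul, h.BM_pr sc hy1, hp1, Algebra.smul_def, mul_one]
  have h4 := h.comm_CV hnV hy2
  have h5 := f.bil y2 hy2 n hn hnV
  rw [hp2, hnχ] at h5
  have h6 := h.prM_comm sc hnR hy2
  have h7 := h.prM_comm sc hnR hy1
  rw [hyp2, map_smul, h7, smul_add] at h6
  have h8 : h.prM sc (n * y2 * n⁻¹ * y2⁻¹) = s • h.prM sc (n * y1 * n⁻¹ * y1⁻¹) := (add_left_cancel h6).symm
  rw [hab, h.prM_mul sc (h.E_le a b) hx, h.prM_E, smul_add, ← e, ← map_smul, ← h.prM_E sc 0 (s • b),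
    ← h.prM_mul sc (h.E_le _ _) hx', h.prM_eq sc h4.1 (mul_mem (h.E_le _ _) hx')] at h8
  obtain ⟨a', ha'⟩ := h.mem_R.1 h8
  have h9 : n * y2 * n⁻¹ * y2⁻¹ = v a' (s • b) 0 * x' := by
    have : n * y2 * n⁻¹ * y2⁻¹ = n * y2 * n⁻¹ * y2⁻¹ * (v 0 (s • b) 0 * x')⁻¹ * (v 0 (s • b) 0 * x') := by group
    rw [this, ha', ← mul_assoc, ← h.v_add, add_zero, zero_add, add_zero]
  rw [h9, f.φ_add _ (h.E_le _ _) (h.E_CV _ _) x' hx' hxV', h.φ_E f, zero_add] at h5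
  rw [h5, algebraMap_smul]

include f in
/-- **the map `y`** -/
theorem exists_y [Module k Φ] [IsScalarTower k F Φ] : ∃ y : h.M sc →ₗ[k] Φ,
    ∀ x ∈ Q, x ∈ centralizer (V : Set G) → y (h.prM sc x) = φ x := by
  classical
  let P : Submodule k (h.M sc) := LinearMap.ker (h.BM sc)
  have hP : ∀ w : P, ∃ x, x ∈ Q ∧ x ∈ centralizer (V : Set G) ∧ h.prM sc x = w := by
    rintro ⟨w, hw⟩
    obtain ⟨x, hx, rfl⟩ := h.prM_surj sc w
    exact ⟨x, hx, (h.BM_eq_zero sc hx).1 hw, rfl⟩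
  let r : P → G := fun w => (hP w).choose
  have hr1 : ∀ w, r w ∈ Q := fun w => (hP w).choose_spec.1
  have hr2 : ∀ w, r w ∈ centralizer (V : Set G) := fun w => (hP w).choose_spec.2.1
  have hr3 : ∀ w, h.prM sc (r w) = w := fun w => (hP w).choose_spec.2.2
  have hwell : ∀ x ∈ Q, x ∈ centralizer (V : Set G) → ∀ x' ∈ Q, x' ∈ centralizer (V : Set G) →
      h.prM sc x = h.prM sc x' → φ x = φ x' := by
    intro x hx hxV x' hx' hxV' e
    rw [h.prM_eq sc hx hx'] at e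
    obtain ⟨a, ha⟩ := h.mem_R.1 e
    have h1 : x = v a 0 0 * x' := by rw [← ha]; group
    rw [h1, f.φ_add _ (h.E_le _ _) (h.E_CV _ _) x' hx' hxV', h.φ_E f, zero_add]
  let g : P →ₗ[k] Φ :=
    { toFun := fun w => φ (r w)
      map_add' := fun w w' => by
        rw [← f.φ_add _ (hr1 w) (hr2 w) _ (hr1 w') (hr2 w')]
        apply hwell _ (hr1 _) (hr2 _) _ (mul_mem (hr1 w) (hr1 w')) (mul_mem (hr2 w) (hr2 w'))
        rw [hr3, h.prM_mul sc (hr1 w) (hr1 w'), hr3, hr3]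
        rfl
      map_smul' := fun s w => by
        apply h.φ_smul sc f s (hr1 w) (hr2 w) (hr1 _) (hr2 _)
        rw [hr3, hr3]
        rfl }
  obtain ⟨y, hy⟩ := LinearMap.exists_extend g
  refine ⟨y, fun x hx hxV => ?_⟩
  have hm : h.prM sc x ∈ P := (h.BM_eq_zero sc hx).2 hxV
  have h1 := LinearMap.congr_fun hy ⟨_, hm⟩
  have h3 : y (h.prM sc x) = φ (r ⟨_, hm⟩) := h1
  rw [h3]
  exact hwell _ (hr1 _) (hr2 _) _ hx hxV (hr3 _)

include f in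
theorem y_ker_of {y : h.M sc → Φ} (hy : ∀ x ∈ Q, x ∈ centralizer (V : Set G) → y (h.prM sc x) = φ x)
    (m : h.M sc) (hm : h.BM sc m = 0) : y m = 0 ↔ ∃ c, m = h.epM sc c := by
  obtain ⟨x, hx, rfl⟩ := h.prM_surj sc m
  have hxV := (h.BM_eq_zero sc hx).1 hm
  rw [hy x hx hxV, f.φ_ker x hx hxV]
  constructor
  · rintro ⟨a, b, rfl⟩
    exact ⟨b, h.prM_E sc a b⟩
  · rintro ⟨c, hc⟩
    rw [← h.prM_E sc 0 c, h.prM_eq sc hx (h.E_le _ _)] at hc
    obtain ⟨a, ha⟩ := h.mem_R.1 hc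
    refine ⟨a, c, ?_⟩
    have : x = x * (v 0 c 0)⁻¹ * v 0 c 0 := by group
    rw [this, ha, ← h.v_add, add_zero, zero_add, add_zero]

include f in
theorem y_surj_of {y : h.M sc → Φ} (hy : ∀ x ∈ Q, x ∈ centralizer (V : Set G) → y (h.prM sc x) = φ x)
    (u : Φ) : ∃ m, h.BM sc m = 0 ∧ y m = u := by
  obtain ⟨x, hx, hxV, rfl⟩ := f.φ_surj u
  exact ⟨h.prM sc x, (h.BM_eq_zero sc hx).2 hxV, hy x hx hxV⟩

/-! ### the form on `Φ` -/

/-- the alternating form on `Φ` -/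
noncomputable def fΦ (f : Fld T V R Q Q' v p φ χ) (u u' : Φ) : k :=
  h.fM sc (h.prM sc (f.φ_surj u).choose) (h.prM sc (f.φ_surj u').choose)

theorem fΦ_φ {x x' : G} (hx : x ∈ Q) (hxV : x ∈ centralizer (V : Set G)) (hx' : x' ∈ Q)
    (hxV' : x' ∈ centralizer (V : Set G)) : h.fΦ sc f (φ x) (φ x') = h.fM sc (h.prM sc x) (h.prM sc x') := by
  have key : ∀ x₁ ∈ Q, x₁ ∈ centralizer (V : Set G) → ∀ x₂ ∈ Q, x₂ ∈ centralizer (V : Set G) →
      φ x₁ = φ x₂ → ∀ w, h.BM sc w = 0 → h.fM sc (h.prM sc x₁) w = h.fM sc (h.prM sc x₂) w := by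
    intro x₁ h₁ h₁' x₂ h₂ h₂' e w hw
    obtain ⟨a, b, hab⟩ := h.φ_eq f h₁ h₁' h₂ h₂' e
    rw [hab, h.prM_mul sc (h.E_le _ _) h₂, h.prM_E, map_add, LinearMap.add_apply, h.fM_ep, hw, map_zero,
      mul_zero, map_zero, zero_add]
  obtain ⟨h1, h3, h4⟩ := (f.φ_surj (φ x)).choose_spec
  obtain ⟨h1', h3', h4'⟩ := (f.φ_surj (φ x')).choose_spec
  unfold fΦ
  rw [key _ h1 h3 x hx hxV h4 _ ((h.BM_eq_zero sc h1').2 h3'), h.fM_symm,
    key _ h1' h3' x' hx' hxV' h4' _ ((h.BM_eq_zero sc hx).2 hxV), h.fM_symm]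

theorem fΦ_symm (u u' : Φ) : h.fΦ sc f u u' = h.fΦ sc f u' u := h.fM_symm sc _ _

theorem fΦ_add (u₁ u₂ u' : Φ) : h.fΦ sc f (u₁ + u₂) u' = h.fΦ sc f u₁ u' + h.fΦ sc f u₂ u' := by
  obtain ⟨x₁, h₁, h₁', rfl⟩ := f.φ_surj u₁
  obtain ⟨x₂, h₂, h₂', rfl⟩ := f.φ_surj u₂
  obtain ⟨x, hx, hx', rfl⟩ := f.φ_surj u'
  rw [← f.φ_add x₁ h₁ h₁' x₂ h₂ h₂', h.fΦ_φ sc f (mul_mem h₁ h₂) (mul_mem h₁' h₂') hx hx',
    h.fΦ_φ sc f h₁ h₁' hx hx', h.fΦ_φ sc f h₂ h₂' hx hx', h.prM_mul sc h₁ h₂, map_add, LinearMap.add_apply]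

theorem fΦ_smul (s : k) (u u' : Φ) : h.fΦ sc f (algebraMap k F s • u) u' = s * h.fΦ sc f u u' := by
  let _ : Module k Φ := Module.compHom Φ (algebraMap k F)
  have _ : IsScalarTower k F Φ := IsScalarTower.of_algebraMap_smul fun _ _ => rfl
  obtain ⟨x, hx, hxV, rfl⟩ := f.φ_surj u
  obtain ⟨x', hx', hxV', rfl⟩ := f.φ_surj u'
  obtain ⟨x2, hx2, he⟩ := h.prM_surj sc (s • h.prM sc x)
  have hxV2 : x2 ∈ centralizer (V : Set G) := by
    rw [← h.BM_eq_zero sc hx2, he, map_smul, (h.BM_eq_zero sc hx).2 hxV, smul_zero]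
  have h1 := h.φ_smul sc f s hx hxV hx2 hxV2 he
  have h3 : algebraMap k F s • φ x = φ x2 := by rw [h1, algebraMap_smul]
  rw [h3, h.fΦ_φ sc f hx2 hxV2 hx' hxV', he, map_smul, LinearMap.smul_apply, smul_eq_mul,
    h.fΦ_φ sc f hx hxV hx' hxV']

/-- the torus elements normalise `R` -/
theorem tor_NR {z : F} (hz : z ≠ 0) {t : G}
    (ht1 : ∀ a b d, t * v a b d * t⁻¹ = v (T.nm z * a) (z * (T.sg z)⁻¹ * b) ((T.nm z)⁻¹ * d)) :
    t ∈ normalizer (R : Set G) := by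
  rw [mem_normalizer_iff]
  intro x
  constructor
  · intro hx
    obtain ⟨a, rfl⟩ := h.mem_R.1 hx
    rw [ht1, mul_zero, mul_zero]
    exact h.mem_R.2 ⟨_, rfl⟩
  · intro hx
    obtain ⟨a, ha⟩ := h.mem_R.1 hx
    refine h.mem_R.2 ⟨(T.nm z)⁻¹ * a, ?_⟩
    have h1 := ht1 ((T.nm z)⁻¹ * a) 0 0
    rw [mul_zero, mul_zero, mul_inv_cancel_left₀ (T.nm_ne hz)] at h1
    have h3 : t * x * t⁻¹ = t * v ((T.nm z)⁻¹ * a) 0 0 * t⁻¹ := by rw [ha, h1]
    exact mul_left_cancel (mul_right_cancel h3)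

/-- the torus elements normalise `V` -/
theorem tor_NV {z : F} (hz : z ≠ 0) {t : G}
    (ht1 : ∀ a b d, t * v a b d * t⁻¹ = v (T.nm z * a) (z * (T.sg z)⁻¹ * b) ((T.nm z)⁻¹ * d)) :
    t ∈ normalizer (V : Set G) := by
  rw [mem_normalizer_iff]
  intro x
  constructor
  · intro hx
    obtain ⟨a, b, d, rfl⟩ := h.v_surj x hx
    rw [ht1]
    exact h.v_mem _ _ _
  · intro hx
    obtain ⟨a, b, d, ha⟩ := h.v_surj _ hx
    have hz' := T.sg_ne' hz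
    have hn := T.nm_ne hz
    have h1 := ht1 ((T.nm z)⁻¹ * a) (z⁻¹ * T.sg z * b) (T.nm z * d)
    have e1 : T.nm z * ((T.nm z)⁻¹ * a) = a := by field_simp
    have e2 : z * (T.sg z)⁻¹ * (z⁻¹ * T.sg z * b) = b := by field_simp
    have e3 : (T.nm z)⁻¹ * (T.nm z * d) = d := by field_simp
    rw [e1, e2, e3, ha] at h1
    have h3 : v ((T.nm z)⁻¹ * a) (z⁻¹ * T.sg z * b) (T.nm z * d) = x :=
      mul_left_cancel (mul_right_cancel h1)
    rw [← h3]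
    exact h.v_mem _ _ _

theorem fΦ_tor {z : F} (hz : z ≠ 0) (u u' : Φ) :
    h.fΦ sc f (z • u) (z • u') = T.nm z * h.fΦ sc f u u' := by
  obtain ⟨x, hx, hxV, rfl⟩ := f.φ_surj u
  obtain ⟨x', hx', hxV', rfl⟩ := f.φ_surj u'
  obtain ⟨t, -, ht1, -, ht3, -⟩ := f.tor z hz
  have htR := h.tor_NR hz ht1
  have htV := h.tor_NV hz ht1
  have hs : ∀ a, t * v a 0 0 * t⁻¹ = v (T.nm z * a) 0 0 := by
    intro a
    rw [ht1, mul_zero, mul_zero]
  have h1 := h.lin_f sc t htR (T.nm z) hs (h.prM sc x) (h.prM sc x')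
  rw [h.lin_pr sc t htR _ hs hx, h.lin_pr sc t htR _ hs hx'] at h1
  rw [← ht3 x hx hxV, ← ht3 x' hx' hxV', h.fΦ_φ sc f (h.nor t htR x hx) (h.CV_conj htV hxV)
    (h.nor t htR x' hx') (h.CV_conj htV hxV'), h1, h.fΦ_φ sc f hx hxV hx' hxV']

/-- `b` and `sg b` are adjoint -/
theorem fΦ_adj (b : F) (u u' : Φ) : h.fΦ sc f (b • u) u' = h.fΦ sc f u (T.sg b • u') := by
  by_cases hb : b = 0
  · subst hb
    have h0 : ∀ u', h.fΦ sc f 0 u' = 0 := by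
      intro u'
      have := h.fΦ_add sc f 0 0 u'
      rw [add_zero] at this
      exact left_eq_add.1 this
    rw [map_zero, zero_smul, zero_smul, h0, h.fΦ_symm, h0]
  · have h1 := h.fΦ_tor sc f hb u (b⁻¹ • u')
    rw [smul_smul, mul_inv_cancel₀ hb, one_smul] at h1
    rw [h1, h.fΦ_symm, ← h.fΦ_smul, smul_smul, T.nm_eq, h.fΦ_symm]
    congr 2
    rw [mul_comm b, mul_assoc, mul_inv_cancel₀ hb, mul_one]

/-- the hermitian form exists -/
theorem exists_hm (u u' : Φ) : ∃ c : F, ∀ b, h.fΦ sc f (b • u) u' = T.tr (b * c) := by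
  apply T.riesz h.h2 (fun b => h.fΦ sc f (b • u) u')
  · intro x y
    show h.fΦ sc f ((x + y) • u) u' = _
    rw [add_smul, h.fΦ_add]
  · intro a x
    show h.fΦ sc f ((algebraMap k F a * x) • u) u' = _
    rw [mul_smul, h.fΦ_smul]

/-- **the hermitian form on `Φ`** -/
noncomputable def hmΦ (f : Fld T V R Q Q' v p φ χ) (u u' : Φ) : F := (h.exists_hm sc f u u').choose

theorem tr_hm (b : F) (u u' : Φ) : T.tr (b * h.hmΦ sc f u u') = h.fΦ sc f (b • u) u' :=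
  ((h.exists_hm sc f u u').choose_spec b).symm

theorem hm_uniq {c : F} {u u' : Φ} (H : ∀ b, T.tr (b * c) = h.fΦ sc f (b • u) u') : c = h.hmΦ sc f u u' := by
  apply T.eq_of_tr h.h2
  intro b
  rw [mul_comm, H, ← h.tr_hm, mul_comm]

theorem hmΦ_add (x x' u : Φ) : h.hmΦ sc f (x + x') u = h.hmΦ sc f x u + h.hmΦ sc f x' u := by
  symm
  apply h.hm_uniq
  intro b
  rw [mul_add, map_add, h.tr_hm, h.tr_hm, smul_add, h.fΦ_add]

theorem hmΦ_smul (s : F) (x u : Φ) : h.hmΦ sc f (s • x) u = s * h.hmΦ sc f x u := by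
  symm
  apply h.hm_uniq
  intro b
  rw [← mul_assoc, h.tr_hm, mul_smul]

theorem hmΦ_sym (x u : Φ) : h.hmΦ sc f u x = T.sg (h.hmΦ sc f x u) := by
  symm
  apply h.hm_uniq
  intro b
  have h1 := h.tr_hm sc f (T.sg b) x u
  rw [← T.tr_sg', map_mul, T.sg_sg] at h1
  rw [h1, h.fΦ_adj, T.sg_sg, h.fΦ_symm]

theorem hmΦ_add_right (x u u' : Φ) : h.hmΦ sc f x (u + u') = h.hmΦ sc f x u + h.hmΦ sc f x u' := by
  rw [h.hmΦ_sym, h.hmΦ_add, map_add, ← h.hmΦ_sym, ← h.hmΦ_sym]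

theorem hmΦ_smul_right (s : F) (x u : Φ) : h.hmΦ sc f x (s • u) = T.sg s * h.hmΦ sc f x u := by
  rw [h.hmΦ_sym, h.hmΦ_smul, map_mul, ← h.hmΦ_sym]

theorem hmΦ_zero_right (x : Φ) : h.hmΦ sc f x 0 = 0 := by
  have := h.hmΦ_add_right sc f x 0 0
  rw [add_zero] at this
  exact left_eq_add.1 this

theorem hmΦ_nondeg (x : Φ) (H : ∀ u, h.hmΦ sc f x u = 0) : x = 0 := by
  obtain ⟨g, hg, hgV, rfl⟩ := f.φ_surj x
  rw [f.φ_ker g hg hgV]
  apply h.mem_E_of_comm (sc := sc) hg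
  intro y hy hyV
  have h1 := h.tr_hm sc f 1 (φ g) (φ y)
  rw [H, mul_zero, map_zero, one_smul, h.fΦ_φ sc f hg hgV hy hyV, h.fM_pr sc hg hy] at h1
  have h3 := (h.sp.co_eq_zero (h.sp.comm g hg y hy)).1 h1.symm
  calc g * y = (g * y * g⁻¹ * y⁻¹) * (y * g) := by group
    _ = y * g := by rw [h3, one_mul]

/-- `f = tr hm` on `e^⊥` -/
theorem fy_of {y : h.M sc → Φ} (hy : ∀ x ∈ Q, x ∈ centralizer (V : Set G) → y (h.prM sc x) = φ x)
    (m m' : h.M sc) (hm : h.BM sc m = 0) (hm' : h.BM sc m' = 0) :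
    h.fM sc m m' = T.tr (h.hmΦ sc f (y m) (y m')) := by
  obtain ⟨x, hx, rfl⟩ := h.prM_surj sc m
  obtain ⟨x', hx', rfl⟩ := h.prM_surj sc m'
  have hxV := (h.BM_eq_zero sc hx).1 hm
  have hxV' := (h.BM_eq_zero sc hx').1 hm'
  have h1 := h.tr_hm sc f 1 (φ x) (φ x')
  rw [one_mul, one_smul] at h1
  rw [hy x hx hxV, hy x' hx' hxV', h1, h.fΦ_φ sc f hx hxV hx' hxV']

/-- **the action of `n ∈ C_{Q'}(V)` on `e^⊥`** -/
theorem JP_n {n x : G} (hn : n ∈ Q') (hnV : n ∈ centralizer (V : Set G)) (hx : x ∈ Q)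
    (hxV : x ∈ centralizer (V : Set G)) : n * x * n⁻¹ * x⁻¹ = v 0 (h.hmΦ sc f (φ x) (χ n)) 0 := by
  have h1 := h.comm_CV hnV hx
  have h3 : n * x * n⁻¹ * x⁻¹ ∈ Q' := by
    have := h.nor' x hxV n⁻¹ (inv_mem hn)
    have e : n * x * n⁻¹ * x⁻¹ = n * (x * n⁻¹ * x⁻¹) := by group
    rw [e]
    exact mul_mem hn this
  obtain ⟨b, hb⟩ := h.meet _ h1.1 h3
  rw [hb]
  suffices H : b = h.hmΦ sc f (φ x) (χ n) by rw [H]
  have hnR := h.CV_le_CR hnV
  apply h.hm_uniq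
  intro l
  obtain ⟨y, hy, hyl⟩ := h.p_surj (T.sg l)
  have h4 := h.comm_CV hnV hy
  have h5 := h.prM_comm sc hnR hx
  have h6 := h.prM_comm sc hnR hy
  have h7 := isom (ind_linC (sc := sc) n hnR).mem (h.prM sc x) (h.prM sc y)
  rw [h5, h6, hb, h.prM_E, map_add, map_add, LinearMap.add_apply, LinearMap.add_apply, h.fM_ep, h.fM_ep,
    (h.BM_eq_zero sc h4.1).2 h4.2, map_zero, mul_zero, map_zero, add_zero, h.BM_pr sc hy, hyl, T.sg_sg,
    ← h.fΦ_φ sc f hx hxV h4.1 h4.2, f.bil y hy n hn hnV, hyl, ← h.fΦ_adj] at h7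
  have h8 := T.add_selfk (h2 := h.h2) (h.fΦ sc f (l • φ x) (χ n))
  have h9 : T.tr (b * l) + h.fΦ sc f (l • φ x) (χ n) = 0 := by
    rw [add_assoc] at h7
    exact add_eq_left.1 h7
  rw [mul_comm l]
  calc T.tr (b * l) = T.tr (b * l) + (h.fΦ sc f (l • φ x) (χ n) + h.fΦ sc f (l • φ x) (χ n)) := by
        rw [h8, add_zero]
    _ = (T.tr (b * l) + h.fΦ sc f (l • φ x) (χ n)) + h.fΦ sc f (l • φ x) (χ n) := by ring
    _ = _ := by rw [h9, zero_add]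

end GIn

end Cfsg.Agent.Omega.NOne.SU
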