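import Cfsg.Agent.Omega.NOne.SU.Grp5

/-!
# THEOREM UNI, group part 6: the C-step

An element `c ∈ C(V)` with `[c, C_Q(V)] ≤ V` acts on `W = Q/R` as an element of `C_{Q'}(V) V`.
-/

set_option autoImplicit false
set_option linter.unusedSectionVars false

open Subgroup

namespace Cfsg.Agent.Omega.NOne.SU

variable {G : Type*} [Group G] {k F : Type*} [Field k] [Field F] [Algebra k F]

namespace GIn

variable {T : Quad k F} {S : Sylow 2 G} {V R Q Q' : Subgroup G} {v : k → F → k → G} {p p' : G → F}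
variable (h : GIn T S V R Q Q' v p p') (sc : Scal h.sp.form)

variable {Φ : Type*} [AddCommGroup Φ] [Module F Φ] {φ χ : G → Φ} (f : Fld T V R Q Q' v p φ χ)

theorem comm_mul_V {c c' x : G} (hc : c ∈ centralizer (V : Set G)) (hV : c' * x * c'⁻¹ * x⁻¹ ∈ V) :
    c * c' * x * (c * c')⁻¹ * x⁻¹ = (c' * x * c'⁻¹ * x⁻¹) * (c * x * c⁻¹ * x⁻¹) := by
  have h1 := (mem_centralizer_iff.1 hc) _ hV
  calc c * c' * x * (c * c')⁻¹ * x⁻¹ = (c * (c' * x * c'⁻¹ * x⁻¹)) * (x * c⁻¹ * x⁻¹) := by group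
    _ = ((c' * x * c'⁻¹ * x⁻¹) * c) * (x * c⁻¹ * x⁻¹) := by rw [h1]
    _ = _ := by group

/-- the elements of `C(V)` which act on `C_Q(V)` through the hermitian form -/
def L1 : Subgroup G where
  carrier := {c | c ∈ centralizer (V : Set G) ∧ ∃ χ0 : Φ, ∀ x ∈ Q, x ∈ centralizer (V : Set G) →
    ∃ a, c * x * c⁻¹ * x⁻¹ = v a (h.hmΦ sc f (φ x) χ0) 0}
  one_mem' := ⟨one_mem _, 0, fun x _ _ => ⟨0, by
    rw [h.hmΦ_zero_right, h.v_zero]; group⟩⟩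
  mul_mem' := by
    rintro c c' ⟨hc, χ0, h0⟩ ⟨hc', χ1, h1⟩
    refine ⟨mul_mem hc hc', χ1 + χ0, fun x hx hxV => ?_⟩
    obtain ⟨a, ha⟩ := h0 x hx hxV
    obtain ⟨a', ha'⟩ := h1 x hx hxV
    refine ⟨a' + a, ?_⟩
    rw [comm_mul_V hc (by rw [ha']; exact h.v_mem _ _ _), ha, ha', ← h.v_add, h.hmΦ_add_right, add_zero]
  inv_mem' := by
    rintro c ⟨hc, χ0, h0⟩
    refine ⟨inv_mem hc, χ0, fun x hx hxV => ?_⟩
    obtain ⟨a, ha⟩ := h0 x hx hxV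
    refine ⟨a, ?_⟩
    have h1 := (mem_centralizer_iff.1 hc) _ (inv_mem (h.v_mem a (h.hmΦ sc f (φ x) χ0) 0))
    calc c⁻¹ * x * c⁻¹⁻¹ * x⁻¹ = c⁻¹ * (c * x * c⁻¹ * x⁻¹)⁻¹ * c := by group
      _ = c⁻¹ * ((v a (h.hmΦ sc f (φ x) χ0) 0)⁻¹ * c) := by rw [ha]; group
      _ = c⁻¹ * (c * (v a (h.hmΦ sc f (φ x) χ0) 0)⁻¹) := by rw [h1]
      _ = (v a (h.hmΦ sc f (φ x) χ0) 0)⁻¹ := by group
      _ = _ := h.v_inv _ _ _

theorem L1_Q {x : G} (hx : x ∈ Q) (hxV : x ∈ centralizer (V : Set G)) : x ∈ h.L1 sc f := by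
  refine ⟨hxV, 0, fun y hy hyV => ?_⟩
  obtain ⟨a, ha⟩ := h.mem_R.1 (h.sp.comm x hx y hy)
  exact ⟨a, by rw [ha, h.hmΦ_zero_right]⟩

theorem L1_Q' {n : G} (hn : n ∈ Q') (hnV : n ∈ centralizer (V : Set G)) : n ∈ h.L1 sc f :=
  ⟨hnV, χ n, fun _ hy hyV => ⟨0, h.JP_n sc f hn hnV hy hyV⟩⟩

/-- the elements `t ∈ N(V)` with `[t, C(V)] ≤ L1` -/
def L2 : Subgroup G where
  carrier := {t | t ∈ normalizer (V : Set G) ∧ ∀ c ∈ centralizer (V : Set G), t * c * t⁻¹ * c⁻¹ ∈ h.L1 sc f}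
  one_mem' := ⟨one_mem _, fun c _ => by
    have e : 1 * c * 1⁻¹ * c⁻¹ = 1 := by group
    rw [e]; exact one_mem _⟩
  mul_mem' := by
    rintro t t' ⟨ht, h1⟩ ⟨ht', h2⟩
    refine ⟨mul_mem ht ht', fun c hc => ?_⟩
    have h3 := h2 c hc
    have h4 := h1 _ h3.1
    have h5 := mul_mem (mul_mem h4 h3) (h1 c hc)
    have e : t * (t' * c * t'⁻¹ * c⁻¹) * t⁻¹ * (t' * c * t'⁻¹ * c⁻¹)⁻¹ * (t' * c * t'⁻¹ * c⁻¹) *
        (t * c * t⁻¹ * c⁻¹) = t * t' * c * (t * t')⁻¹ * c⁻¹ := by group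
    rwa [e] at h5
  inv_mem' := by
    rintro t ⟨ht, h1⟩
    refine ⟨inv_mem ht, fun c hc => ?_⟩
    have h3 : t⁻¹ * c * t⁻¹⁻¹ ∈ centralizer (V : Set G) := h.CV_conj (inv_mem ht) hc
    have h4 := inv_mem (h1 _ h3)
    have e : (t * (t⁻¹ * c * t⁻¹⁻¹) * t⁻¹ * (t⁻¹ * c * t⁻¹⁻¹)⁻¹)⁻¹ = t⁻¹ * c * t⁻¹⁻¹ * c⁻¹ := by group
    rwa [e] at h4

theorem QQ'_le : Q ⊔ Q' ≤ h.L2 sc f := by
  apply sup_le
  · intro t ht
    refine ⟨h.Q_le_N ht, fun c hc => ?_⟩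
    have h1 := h.comm_CV hc ht
    have h2 := inv_mem (h.L1_Q sc f h1.1 h1.2)
    have e : (c * t * c⁻¹ * t⁻¹)⁻¹ = t * c * t⁻¹ * c⁻¹ := by group
    rwa [e] at h2
  · intro t ht
    refine ⟨h.Q'_le_N t ht, fun c hc => ?_⟩
    have h1 : t * c * t⁻¹ * c⁻¹ ∈ Q' := by
      have := h.nor' c hc t⁻¹ (inv_mem ht)
      have e : t * c * t⁻¹ * c⁻¹ = t * (c * t⁻¹ * c⁻¹) := by group
      rw [e]
      exact mul_mem ht this
    exact h.L1_Q' sc f h1 (mul_mem (h.CV_conj (h.Q'_le_N t ht) hc) (inv_mem hc))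

/-- there is a scalar `s ≠ 0, 1` -/
theorem exists_s (T : Quad k F) : ∃ s : k, s ≠ 0 ∧ s ≠ 1 := by
  have := T.fink
  by_contra hcon
  push Not at hcon
  have h1 : Nat.card k ≤ Nat.card Bool := by
    classical
    apply Nat.card_le_card_of_injective (fun s : k => decide (s = 0))
    intro a b hab
    simp only [decide_eq_decide] at hab
    by_cases ha : a = 0
    · rw [ha, hab.1 ha]
    · rw [hcon a ha, hcon b (fun hb => ha (hab.2 hb))]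
  have h2 := T.four
  have h3 : Nat.card Bool = 2 := by simp
  omega

/-- **the C-step, first half**: `c ∈ C(V)`, `[c, C_Q(V)] ≤ V` ⇒ `c` acts through the hermitian form -/
theorem L1_of [Finite G] {c : G} (hc : c ∈ centralizer (V : Set G))
    (hB : ∀ x ∈ Q, x ∈ centralizer (V : Set G) → ∃ a b, c * x * c⁻¹ * x⁻¹ = v a b 0) : c ∈ h.L1 sc f := by
  classical
  have hcR := h.CV_le_CR hc
  -- `θ`
  have hwell : ∀ x ∈ Q, x ∈ centralizer (V : Set G) → ∀ x' ∈ Q, x' ∈ centralizer (V : Set G) → φ x = φ x' →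
      ∀ a b a' b', c * x * c⁻¹ * x⁻¹ = v a b 0 → c * x' * c⁻¹ * x'⁻¹ = v a' b' 0 → b = b' := by
    intro x hx hxV x' hx' hxV' e a b a' b' h1 h2
    obtain ⟨a₀, b₀, h0⟩ := h.φ_eq f hx hxV hx' hxV' e
    have h3 : c * v a₀ b₀ 0 = v a₀ b₀ 0 * c := ((mem_centralizer_iff.1 hc) _ (h.v_mem _ _ _)).symm
    have h4 : c * x * c⁻¹ * x⁻¹ = v a₀ b₀ 0 * (c * x' * c⁻¹ * x'⁻¹) * (v a₀ b₀ 0)⁻¹ := by
      rw [h0]
      calc c * (v a₀ b₀ 0 * x') * c⁻¹ * (v a₀ b₀ 0 * x')⁻¹ = (c * v a₀ b₀ 0) * x' * c⁻¹ * x'⁻¹ * (v a₀ b₀ 0)⁻¹ := by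
            group
        _ = _ := by rw [h3]; group
    rw [h1, h2, h.v_comm, mul_inv_cancel_right] at h4
    exact (h.v_eq h4).2.1
  let xx : Φ → G := fun u => (f.φ_surj u).choose
  have hxQ : ∀ u, xx u ∈ Q := fun u => (f.φ_surj u).choose_spec.1
  have hxV : ∀ u, xx u ∈ centralizer (V : Set G) := fun u => (f.φ_surj u).choose_spec.2.1
  have hxφ : ∀ u, φ (xx u) = u := fun u => (f.φ_surj u).choose_spec.2.2
  let θ : Φ → F := fun u => (hB (xx u) (hxQ u) (hxV u)).choose_spec.choose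
  have hθ0 : ∀ u, ∃ a, c * xx u * c⁻¹ * (xx u)⁻¹ = v a (θ u) 0 := fun u =>
    ⟨(hB (xx u) (hxQ u) (hxV u)).choose, (hB (xx u) (hxQ u) (hxV u)).choose_spec.choose_spec⟩
  have hθ : ∀ x ∈ Q, x ∈ centralizer (V : Set G) → ∃ a, c * x * c⁻¹ * x⁻¹ = v a (θ (φ x)) 0 := by
    intro x hx hxV'
    obtain ⟨a, b, hab⟩ := hB x hx hxV'
    obtain ⟨a', ha'⟩ := hθ0 (φ x)
    have := hwell x hx hxV' _ (hxQ _) (hxV _) (hxφ _).symm a b a' _ hab ha'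
    exact ⟨a, by rw [hab, this]⟩
  -- `θ` is `k`-linear
  let _ : Module k Φ := Module.compHom Φ (algebraMap k F)
  have _ : IsScalarTower k F Φ := IsScalarTower.of_algebraMap_smul fun _ _ => rfl
  have hlin : ∀ (s : k) (u : Φ), θ (algebraMap k F s • u) = algebraMap k F s * θ u := by
    intro s u
    obtain ⟨x, hx, hxV', rfl⟩ := f.φ_surj u
    obtain ⟨x2, hx2, he⟩ := h.prM_surj sc (s • h.prM sc x)
    have hxV2 : x2 ∈ centralizer (V : Set G) := by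
      rw [← h.BM_eq_zero sc hx2, he, map_smul, (h.BM_eq_zero sc hx).2 hxV', smul_zero]
    have h1 := h.φ_smul sc f s hx hxV' hx2 hxV2 he
    have h3 : algebraMap k F s • φ x = φ x2 := by rw [h1, algebraMap_smul]
    obtain ⟨a, ha⟩ := hθ x hx hxV'
    obtain ⟨a2, ha2⟩ := hθ x2 hx2 hxV2
    have h4 := h.prM_comm sc hcR hx
    have h5 := h.prM_comm sc hcR hx2
    rw [ha, h.prM_E] at h4
    rw [ha2, h.prM_E, he, map_smul, h4, smul_add] at h5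
    have h6 := add_left_cancel h5
    rw [← map_smul] at h6
    rw [h3, ← h.epM_inj sc h6, Algebra.smul_def]
  obtain ⟨s, hs0, hs1⟩ := exists_s T
  have hz : algebraMap k F s ≠ 0 := by
    rw [Ne, map_eq_zero]; exact hs0
  obtain ⟨t, htQ, ht1, -, ht3, -⟩ := f.tor _ hz
  have htR := h.tor_NR hz ht1
  have htV := h.tor_NV hz ht1
  have h1 := ((h.QQ'_le sc f) htQ).2 c hc
  obtain ⟨-, χ0, hχ0⟩ := h1
  -- `[t c t⁻¹, x]`
  have h2 : ∀ x ∈ Q, x ∈ centralizer (V : Set G) →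
      ∃ a, (t * c * t⁻¹) * x * (t * c * t⁻¹)⁻¹ * x⁻¹ = v a (algebraMap k F s⁻¹ * θ (φ x)) 0 := by
    intro x hx hxV'
    have hx1 : t⁻¹ * x * t ∈ Q := h.nor_inv htR hx
    have hx2 : t⁻¹ * x * t ∈ centralizer (V : Set G) := by
      have := h.CV_conj (inv_mem htV) hxV'
      rwa [inv_inv] at this
    have h3 : φ (t⁻¹ * x * t) = algebraMap k F s⁻¹ • φ x := by
      have h4 := ht3 _ hx1 hx2
      have e : t * (t⁻¹ * x * t) * t⁻¹ = x := by group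
      rw [e] at h4
      rw [h4, smul_smul, ← map_mul, inv_mul_cancel₀ hs0, map_one, one_smul]
    obtain ⟨a, ha⟩ := hθ _ hx1 hx2
    rw [h3, hlin] at ha
    have h5 := ht1 a (algebraMap k F s⁻¹ * θ (φ x)) 0
    rw [T.sg_alg, mul_inv_cancel₀ hz, one_mul, mul_zero] at h5
    refine ⟨_, Eq.trans ?_ h5⟩
    rw [← ha]
    group
  -- so `θ = (s⁻¹ + 1)⁻¹ hm (·, χ0)`
  have hs : s⁻¹ + 1 ≠ 0 := by
    intro h3
    apply hs1
    have h4 : s * (s⁻¹ + 1) = 0 := by rw [h3, mul_zero]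
    rw [mul_add, mul_inv_cancel₀ hs0, mul_one] at h4
    calc s = (1 + s) + 1 + (-(1 + 1)) := by ring
      _ = 1 := by
        rw [h4]
        have := h.h2
        have e : (1 : k) + 1 = 2 := by norm_num
        rw [e, this]; ring
  have h3 : ∀ u, h.hmΦ sc f u χ0 = algebraMap k F (s⁻¹ + 1) * θ u := by
    intro u
    obtain ⟨x, hx, hxV', rfl⟩ := f.φ_surj u
    obtain ⟨a, ha⟩ := hχ0 x hx hxV'
    obtain ⟨a1, ha1⟩ := h2 x hx hxV'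
    obtain ⟨a2, ha2⟩ := hθ x hx hxV'
    have h4 : c⁻¹ * x * c⁻¹⁻¹ * x⁻¹ = v a2 (θ (φ x)) 0 := by
      have h5 := (mem_centralizer_iff.1 hc) _ (inv_mem (h.v_mem a2 (θ (φ x)) 0))
      calc c⁻¹ * x * c⁻¹⁻¹ * x⁻¹ = c⁻¹ * (c * x * c⁻¹ * x⁻¹)⁻¹ * c := by group
        _ = c⁻¹ * ((v a2 (θ (φ x)) 0)⁻¹ * c) := by rw [ha2]; group
        _ = c⁻¹ * (c * (v a2 (θ (φ x)) 0)⁻¹) := by rw [h5]
        _ = (v a2 (θ (φ x)) 0)⁻¹ := by group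
        _ = _ := h.v_inv _ _ _
    have h6 := comm_mul_V (V := V) (c := t * c * t⁻¹) (c' := c⁻¹) (x := x) (h.CV_conj htV hc)
      (by rw [h4]; exact h.v_mem _ _ _)
    rw [h4, ha1, ← h.v_add, ha, add_zero] at h6
    rw [(h.v_eq h6).2.1, map_add, map_one]
    ring
  refine ⟨hc, (algebraMap k F (s⁻¹ + 1))⁻¹ • χ0, fun x hx hxV' => ?_⟩
  obtain ⟨a, ha⟩ := hθ x hx hxV'
  refine ⟨a, ?_⟩
  have h5 : algebraMap k F (s⁻¹ + 1) ≠ 0 := by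
    rw [Ne, map_eq_zero]; exact hs
  rw [ha, h.hmΦ_smul_right, h3, map_inv₀, T.sg_alg, inv_mul_cancel_left₀ h5]

include h sc f in
/-- **the C-step** -/
theorem cstep [Finite G] {c : G} (hc : c ∈ centralizer (V : Set G))
    (hB : ∀ x ∈ Q, x ∈ centralizer (V : Set G) → ∃ a b, c * x * c⁻¹ * x⁻¹ = v a b 0) :
    ∃ n ∈ Q', n ∈ centralizer (V : Set G) ∧ ∃ d, c * n⁻¹ * v 0 0 d ∈ Q := by
  obtain ⟨-, χ1, hχ1⟩ := h.L1_of sc f hc hB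
  obtain ⟨n, hn, hnV, rfl⟩ := f.χ_surj χ1
  refine ⟨n, hn, hnV, ?_⟩
  have hc1 : c * n⁻¹ ∈ centralizer (V : Set G) := mul_mem hc (inv_mem hnV)
  have hc1R := h.CV_le_CR hc1
  have h1 : ∀ x ∈ Q, x ∈ centralizer (V : Set G) → c * n⁻¹ * x * (c * n⁻¹)⁻¹ * x⁻¹ ∈ R := by
    intro x hx hxV
    obtain ⟨a, ha⟩ := hχ1 x hx hxV
    have h2 := h.JP_n sc f hn hnV hx hxV
    have h4 : n⁻¹ * x * n⁻¹⁻¹ * x⁻¹ = v 0 (h.hmΦ sc f (φ x) (χ n)) 0 := by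
      have h5 := (mem_centralizer_iff.1 hnV) _ (inv_mem (h.v_mem 0 (h.hmΦ sc f (φ x) (χ n)) 0))
      calc n⁻¹ * x * n⁻¹⁻¹ * x⁻¹ = n⁻¹ * (n * x * n⁻¹ * x⁻¹)⁻¹ * n := by group
        _ = n⁻¹ * ((v 0 (h.hmΦ sc f (φ x) (χ n)) 0)⁻¹ * n) := by rw [h2]; group
        _ = n⁻¹ * (n * (v 0 (h.hmΦ sc f (φ x) (χ n)) 0)⁻¹) := by rw [h5]
        _ = (v 0 (h.hmΦ sc f (φ x) (χ n)) 0)⁻¹ := by group
        _ = _ := h.v_inv _ _ _
    rw [comm_mul_V hc (by rw [h4]; exact h.v_mem _ _ _), h4, ha, ← h.v_add, T.add_self (h2 := h.h2), add_zero]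
    exact h.mem_R.2 ⟨_, rfl⟩
  apply h.act_as_V sc hc1R _ h1
  intro y hy
  have h2 := h.comm_CV hc1 hy
  apply h.mem_E_of_comm (sc := sc) h2.1
  intro x hx hxV
  have h3 := isom (ind_linC (sc := sc) _ hc1R).mem (h.prM sc x) (h.prM sc y)
  rw [h.prM_comm sc hc1R hx, h.prM_comm sc hc1R hy, (h.prM_eq_zero sc (h.comm_CV hc1 hx).1).2 (h1 x hx hxV),
    add_zero, map_add, h.fM_pr sc hx h2.1] at h3
  have h4 := (h.sp.co_eq_zero (h.sp.comm x hx _ h2.1)).1 (add_eq_left.1 h3)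
  set u := c * n⁻¹ * y * (c * n⁻¹)⁻¹ * y⁻¹ with hu
  calc u * x = (x * u * x⁻¹ * u⁻¹)⁻¹ * (x * u) := by group
    _ = x * u := by rw [h4, inv_one, one_mul]

end GIn

end Cfsg.Agent.Omega.NOne.SU
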