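import Cfsg.Agent.Omega.NOne.SU.Main

/-!
# THEOREM UNI, group part 7: facts for the group-level output `Out`

* `normalizes_V'` : `N_G(R) ∩ N_G(E) ≤ N_G(V)`;
* `ker_NR` : the kernel of `N_G(R)` on `W = Q/R` is `Q`;
* `rad_prM` : the elements of `C_G(R)` which are trivial on `e`, `e^⊥/e`, `W/e^⊥` are the products `n v y`.
-/

set_option autoImplicit false
set_option linter.unusedSectionVars false

open Subgroup

namespace Cfsg.Agent.Omega.NOne.SU

variable {G : Type*} [Group G] {k F : Type*} [Field k] [Field F] [Algebra k F]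

namespace GIn

variable {T : Quad k F} {S : Sylow 2 G} {V R Q Q' : Subgroup G} {v : k → F → k → G} {p p' : G → F}
variable (h : GIn T S V R Q Q' v p p') (sc : Scal h.sp.form)

theorem CR_conj {c x : G} (hc : c ∈ normalizer (R : Set G)) (hx : x ∈ centralizer (R : Set G)) :
    c * x * c⁻¹ ∈ centralizer (R : Set G) := by
  rw [mem_centralizer_iff] at hx ⊢
  intro r hr
  have h1 : c⁻¹ * r * c ∈ R := by
    have := (mem_normalizer_iff.1 (inv_mem hc) r).1 hr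
    rwa [inv_inv] at this
  have h3 := hx _ h1
  calc r * (c * x * c⁻¹) = c * ((c⁻¹ * r * c) * x) * c⁻¹ := by group
    _ = c * (x * (c⁻¹ * r * c)) * c⁻¹ := by rw [h3]
    _ = _ := by group

include h

/-- `N_G(R) ∩ N_G(E) ≤ N_G(V)` -/
theorem normalizes_V' [Finite G] (sc : Scal h.sp.form) {c : G} (hN : c ∈ normalizer (R : Set G))
    (hcE : ∀ a b, ∃ a' b', c * v a b 0 * c⁻¹ = v a' b' 0) : c ∈ normalizer (V : Set G) := by
  -- the same for `c⁻¹`
  have hcE' : ∀ a b, ∃ a' b', c⁻¹ * v a b 0 * c = v a' b' 0 := by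
    have := T.finF
    have := T.fink
    let f1 : k × F → k × F := fun x => ((hcE x.1 x.2).choose, (hcE x.1 x.2).choose_spec.choose)
    have hf1 : ∀ x : k × F, c * v x.1 x.2 0 * c⁻¹ = v (f1 x).1 (f1 x).2 0 := fun x =>
      (hcE x.1 x.2).choose_spec.choose_spec
    have hinj : Function.Injective f1 := by
      intro x y hxy
      have h1 := hf1 x
      rw [hxy, ← hf1 y] at h1
      have h3 := h.v_eq (mul_left_cancel (mul_right_cancel h1))
      exact Prod.ext h3.1 h3.2.1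
    have hsurj := Finite.surjective_of_injective hinj
    intro a b
    obtain ⟨x, hx⟩ := hsurj (a, b)
    refine ⟨x.1, x.2, ?_⟩
    have h1 := hf1 x
    rw [hx] at h1
    rw [← h1]; group
  -- `c` normalises `B = C_Q(E)`
  have hBc : ∀ x ∈ Q, x ∈ centralizer (V : Set G) → c⁻¹ * x * c ∈ centralizer (V : Set G) := by
    intro x hx hxV
    apply h.mem_CV_of_comm_E (h.nor_inv hN hx)
    intro b
    obtain ⟨a', b', hab⟩ := hcE 0 b
    have h1 := (mem_centralizer_iff.1 hxV) _ (h.v_mem a' b' 0)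
    have h3 : v 0 b 0 = c⁻¹ * v a' b' 0 * c := by rw [← hab]; group
    rw [h3]
    calc c⁻¹ * v a' b' 0 * c * (c⁻¹ * x * c) = c⁻¹ * (v a' b' 0 * x) * c := by group
      _ = c⁻¹ * (x * v a' b' 0) * c := by rw [h1]
      _ = _ := by group
  have key : ∀ d, c * v 0 0 d * c⁻¹ ∈ V := by
    intro d
    have hvR : v 0 0 d ∈ centralizer (R : Set G) := h.CV_le_CR (h.V_le_CV (h.v_mem 0 0 d))
    have hxR : c * v 0 0 d * c⁻¹ ∈ centralizer (R : Set G) := CR_conj hN hvR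
    have hcomm : ∀ x ∈ Q, x ∈ centralizer (V : Set G) →
        c * v 0 0 d * c⁻¹ * x = x * (c * v 0 0 d * c⁻¹) := by
      intro x hx hxV
      have h1 := (mem_centralizer_iff.1 (hBc x hx hxV)) _ (h.v_mem 0 0 d)
      calc c * v 0 0 d * c⁻¹ * x = c * (v 0 0 d * (c⁻¹ * x * c)) * c⁻¹ := by group
        _ = c * ((c⁻¹ * x * c) * v 0 0 d) * c⁻¹ := by rw [h1]
        _ = _ := by group
    obtain ⟨d', hd'⟩ := h.act_as_V sc hxR (fun y hy => by
      obtain ⟨a', ha'⟩ := h.comm_V 0 0 d (h.nor_inv hN hy)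
      obtain ⟨a2, b2, hab⟩ := hcE a' (p (c⁻¹ * y * c) * algebraMap k F d)
      refine ⟨a2, b2, ?_⟩
      rw [← hab, ← ha']; group) (fun x hx hxV => by
      rw [hcomm x hx hxV]
      have e : x * (c * v 0 0 d * c⁻¹) * (c * v 0 0 d * c⁻¹)⁻¹ * x⁻¹ = 1 := by group
      rw [e]; exact one_mem _)
    have hq0V : c * v 0 0 d * c⁻¹ * v 0 0 d' ∈ centralizer (V : Set G) := by
      apply h.mem_CV_of_comm_E hd'
      intro b
      have h1 := hcomm (v 0 b 0) (h.E_le 0 b) (h.V_le_CV (h.v_mem _ _ _))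
      have h3 := h.v_comm 0 b 0 0 0 d'
      calc v 0 b 0 * (c * v 0 0 d * c⁻¹ * v 0 0 d') = (v 0 b 0 * (c * v 0 0 d * c⁻¹)) * v 0 0 d' := by group
        _ = (c * v 0 0 d * c⁻¹ * v 0 b 0) * v 0 0 d' := by rw [h1]
        _ = c * v 0 0 d * c⁻¹ * (v 0 b 0 * v 0 0 d') := by group
        _ = c * v 0 0 d * c⁻¹ * (v 0 0 d' * v 0 b 0) := by rw [h3]
        _ = _ := by group
    obtain ⟨a, b, hab⟩ := h.mem_E_of_comm (sc := sc) hd' (fun x hx hxV => by
      have h1 := hcomm x hx hxV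
      have h3 := (mem_centralizer_iff.1 hxV) _ (h.v_mem 0 0 d')
      calc c * v 0 0 d * c⁻¹ * v 0 0 d' * x = c * v 0 0 d * c⁻¹ * (v 0 0 d' * x) := by group
        _ = c * v 0 0 d * c⁻¹ * (x * v 0 0 d') := by rw [h3]
        _ = (c * v 0 0 d * c⁻¹ * x) * v 0 0 d' := by group
        _ = (x * (c * v 0 0 d * c⁻¹)) * v 0 0 d' := by rw [h1]
        _ = _ := by group)
    have h5 : c * v 0 0 d * c⁻¹ = v a b 0 * (v 0 0 d')⁻¹ := by rw [← hab]; group
    rw [h5]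
    exact mul_mem (h.v_mem _ _ _) (inv_mem (h.v_mem _ _ _))
  have key2 : ∀ x ∈ V, c * x * c⁻¹ ∈ V := by
    intro x hx
    obtain ⟨a, b, d, rfl⟩ := h.v_surj x hx
    obtain ⟨a', b', hab⟩ := hcE a b
    have e : v a b d = v a b 0 * v 0 0 d := by rw [← h.v_add, add_zero, add_zero, zero_add]
    have e2 : c * (v a b 0 * v 0 0 d) * c⁻¹ = (c * v a b 0 * c⁻¹) * (c * v 0 0 d * c⁻¹) := by group
    rw [e, e2, hab]
    exact mul_mem (h.v_mem _ _ _) (key d)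
  rw [mem_normalizer_iff]
  intro x
  constructor
  · exact key2 x
  · intro hx
    let g1 : V → V := fun y => ⟨c * y * c⁻¹, key2 y y.2⟩
    have hg1 : Function.Injective g1 := by
      intro y y' hyy
      have := congrArg Subtype.val hyy
      exact Subtype.ext (mul_left_cancel (mul_right_cancel this))
    obtain ⟨y, hy⟩ := Finite.surjective_of_injective hg1 ⟨_, hx⟩
    have h1 : c * (y : G) * c⁻¹ = c * x * c⁻¹ := congrArg Subtype.val hy
    have h3 : (y : G) = x := mul_left_cancel (mul_right_cancel h1)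
    rw [← h3]; exact y.2

theorem tr_surj (a : k) : ∃ x : F, T.tr x = a := by
  obtain ⟨x, hx⟩ := T.exists_tr_ne h.h2
  refine ⟨x * algebraMap k F ((T.tr x)⁻¹ * a), ?_⟩
  rw [T.tr_mul_alg, mul_inv_cancel_left₀ hx]

/-- every element of `R` is a commutator -/
theorem R_comm (a : k) : ∃ x ∈ Q, ∃ y ∈ Q, x * y * x⁻¹ * y⁻¹ = v a 0 0 := by
  obtain ⟨b, hb⟩ := h.tr_surj a
  obtain ⟨y, hy, hp⟩ := h.p_surj 1
  refine ⟨_, h.E_le 0 b, y, hy, ?_⟩
  rw [h.comm_E 0 b hy, hp, map_one, mul_one, hb]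

/-- the kernel of `N_G(R)` on `W` is `Q` -/
theorem ker_NR [Finite G] {c : G} (hc : c ∈ normalizer (R : Set G))
    (hk : ∀ x ∈ Q, h.sp.pr (c * x * c⁻¹) = h.sp.pr x) : c ∈ Q := by
  have hcR : c ∈ centralizer (R : Set G) := by
    rw [mem_centralizer_iff]
    intro r hr
    obtain ⟨a, rfl⟩ := h.mem_R.1 hr
    obtain ⟨x, hx, y, hy, hxy⟩ := h.R_comm a
    have h1 := h.sp.comm_eq_of_pr (h.nor c hc x hx) hx (h.nor c hc y hy) hy (hk x hx) (hk y hy)
    have e : c * x * c⁻¹ * (c * y * c⁻¹) * (c * x * c⁻¹)⁻¹ * (c * y * c⁻¹)⁻¹ =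
        c * (x * y * x⁻¹ * y⁻¹) * c⁻¹ := by group
    rw [e, hxy] at h1
    calc v a 0 0 * c = (c * v a 0 0 * c⁻¹) * c := by rw [h1]
      _ = c * v a 0 0 := by group
  apply h.mem_Q_of_cj hcR
  intro w
  obtain ⟨x, hx, rfl⟩ := h.sp.pr_surj w
  rw [h.cj_pr hc hx, hk x hx]

variable {Φ : Type*} [AddCommGroup Φ] [Module F Φ] {φ χ : G → Φ} (f : Fld T V R Q Q' v p φ χ)

/-- an element of `Q` may be moved to the right -/
theorem move_Q {y c : G} (hy : y ∈ Q) (hc : c ∈ normalizer (R : Set G)) : ∃ y' ∈ Q, y * c = c * y' :=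
  ⟨c⁻¹ * y * c, h.nor_inv hc hy, by group⟩

include f in
/-- **the elements of `C_G(R)` in the unipotent radical of `e`** -/
theorem rad_prM [Finite G] {c : G} (hc : c ∈ centralizer (R : Set G))
    (h1 : ∀ b, h.prM sc (c * v 0 b 0 * c⁻¹) = h.prM sc (v 0 b 0))
    (h2 : ∀ x ∈ Q, p x = 0 → ∃ b, h.prM sc (c * x * c⁻¹) = h.prM sc x + h.prM sc (v 0 b 0))
    (h3 : ∀ x ∈ Q, p (c * x * c⁻¹) = p x) :
    ∃ n ∈ Q', n ∈ centralizer (V : Set G) ∧ ∃ d, ∃ y ∈ Q, c = n * v 0 0 d * y := by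
  have hJ : h.linC sc c hc ∈ h.JJ sc := by
    refine ⟨(ind_linC _ _).mem, fun b => ?_, fun m hm => ?_, fun m => ?_⟩
    · rw [← h.prM_E sc 0 b, (ind_linC (sc := sc) c hc).2 _ (h.E_le _ _), h1]
    · obtain ⟨x, hx, rfl⟩ := h.prM_surj sc m
      rw [h.BM_pr sc hx] at hm
      obtain ⟨b, hb⟩ := h2 x hx hm
      refine ⟨b, ?_⟩
      rw [(ind_linC (sc := sc) c hc).2 x hx, hb, add_sub_cancel_left, h.prM_E]
    · obtain ⟨x, hx, rfl⟩ := h.prM_surj sc m
      rw [(ind_linC (sc := sc) c hc).2 x hx, map_sub, h.BM_pr sc (h.nor c (h.CR_le_NR hc) x hx),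
        h.BM_pr sc hx, h3 x hx, sub_self]
  obtain ⟨c', hc', hind⟩ := JJ_CV hJ
  have hB : ∀ x ∈ Q, x ∈ centralizer (V : Set G) → ∃ a b, c' * x * c'⁻¹ * x⁻¹ = v a b 0 := by
    intro x hx hxV
    have h4 := h.comm_CV hc' hx
    obtain ⟨b, hb⟩ := h2 x hx ((h.p_eq_zero hx).2 hxV)
    have h5 := hind.2 x hx
    rw [(ind_linC (sc := sc) c hc).2 x hx, hb, h.prM_E] at h5
    have h6 : h.prM sc (c' * x * c'⁻¹ * x⁻¹) = h.epM sc b := by
      rw [h.prM_mul sc (h.nor c' (h.CR_le_NR hind.1) x hx) (inv_mem hx), h.prM_inv sc hx, ← h5,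
        add_comm (h.prM sc x), add_assoc, h.M_add_self, add_zero]
    rw [← h.prM_E sc 0 b, h.prM_eq sc h4.1 (h.E_le _ _)] at h6
    obtain ⟨a, ha⟩ := h.mem_R.1 h6
    refine ⟨a, b, ?_⟩
    have e : c' * x * c'⁻¹ * x⁻¹ = c' * x * c'⁻¹ * x⁻¹ * (v 0 b 0)⁻¹ * v 0 b 0 := by group
    rw [e, ha, ← h.v_add, add_zero, zero_add, add_zero]
  obtain ⟨n, hn, hnV, d, hq⟩ := h.cstep sc f hc' hB
  have hnR := h.CV_le_CR hnV
  have hvR : v 0 0 d ∈ centralizer (R : Set G) := h.CV_le_CR (h.V_le_CV (h.v_mem 0 0 d))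
  -- `c c'⁻¹ ∈ Q`
  have hq2 : c * c'⁻¹ ∈ Q := by
    apply h.mem_Q_of_cj (mul_mem hc (inv_mem hind.1))
    intro w
    rw [h.cj_mul (h.CR_le_NR hc) (inv_mem (h.CR_le_NR hind.1))]
    have h4 : ∀ w : h.sp.W, h.cj c w = h.cj c' w := by
      intro w
      obtain ⟨x, hx, rfl⟩ := h.sp.pr_surj w
      rw [h.cj_pr (h.CR_le_NR hc) hx, h.cj_pr (h.CR_le_NR hind.1) hx]
      have h5 := hind.2 x hx
      rw [(ind_linC (sc := sc) c hc).2 x hx] at h5
      exact h5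
    rw [h4, h.cj_cj_inv (h.CR_le_NR hind.1)]
  have e : c = (c * c'⁻¹) * (c' * n⁻¹ * v 0 0 d) * (v 0 0 d * n) := by
    have h4 := h.v_sq 0 0 d
    calc c = (c * c'⁻¹) * (c' * n⁻¹ * (v 0 0 d * v 0 0 d) * n) := by rw [h4]; group
      _ = _ := by group
  obtain ⟨y', hy', he⟩ := h.move_Q (mul_mem hq2 hq) (h.CR_le_NR (mul_mem hvR hnR))
  refine ⟨n, hn, hnV, d, y', hy', ?_⟩
  rw [e, he, (mem_centralizer_iff.1 hnV) _ (h.v_mem 0 0 d)]

end GIn

end Cfsg.Agent.Omega.NOne.SU
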