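import Cfsg.Agent.Omega.NOne.SU.Grp3

/-!
# THEOREM UNI, group part (G): the unipotent radical of the stabiliser of `e` is induced by `C(V)`

`JJ` = the elements of `H` which are trivial on `e`, `e^⊥/e` and `W/e^⊥`; `JJ_CV`: each of them is induced by an element
of `C_G(V)`.
-/

set_option autoImplicit false
set_option linter.unusedSectionVars false

open Subgroup

namespace Cfsg.Agent.Omega.NOne.SU

variable {G : Type*} [Group G] {k F : Type*} [Field k] [Field F] [Algebra k F]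

namespace GIn

variable {T : Quad k F} {S : Sylow 2 G} {V R Q Q' : Subgroup G} {v : k → F → k → G} {p p' : G → F}

section Xu

variable (h : GIn T S V R Q Q' v p p')
include h

/-- the elements of `C(R)` which are trivial on `e`, `e^⊥/e` and `W/e^⊥` -/
def Xu : Subgroup G where
  carrier := {c | c ∈ centralizer (R : Set G) ∧ (∀ b, h.cj c (h.ep b) = h.ep b) ∧
    (∀ w, h.Bm w = 0 → ∃ b, h.cj c w = w + h.ep b) ∧ ∀ w, h.Bm (h.cj c w) = h.Bm w}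
  one_mem' := ⟨one_mem _, fun b => h.cj_one _, fun w _ => ⟨0, by
    have h1 : h.ep 0 = 0 := by
      have := h.ep_add 0 0
      rw [add_zero] at this
      exact left_eq_add.1 this
    rw [h.cj_one, h1, add_zero]⟩, fun w => by rw [h.cj_one]⟩
  mul_mem' := fun {c d} hc hd => by
    obtain ⟨c0, c1, c2, c3⟩ := hc
    obtain ⟨d0, d1, d2, d3⟩ := hd
    have hm := fun w => h.cj_mul (h.CR_le_NR c0) (h.CR_le_NR d0) w
    refine ⟨mul_mem c0 d0, fun b => by rw [hm, d1, c1], fun w hw => ?_, fun w => by rw [hm, c3, d3]⟩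
    obtain ⟨b, hb⟩ := d2 w hw
    obtain ⟨b', hb'⟩ := c2 w hw
    refine ⟨b' + b, ?_⟩
    rw [hm, hb, h.cj_add (h.CR_le_NR c0), hb', c1, h.ep_add, add_assoc]
  inv_mem' := fun {c} hc => by
    obtain ⟨c0, c1, c2, c3⟩ := hc
    have hN := h.CR_le_NR c0
    have i3 : ∀ w, h.Bm (h.cj c⁻¹ w) = h.Bm w := fun w => by
      rw [← c3 (h.cj c⁻¹ w), h.cj_cj_inv hN]
    refine ⟨inv_mem c0, fun b => ?_, fun w hw => ?_, i3⟩
    · have := h.cj_inv_cj hN (h.ep b)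
      rwa [c1] at this
    · obtain ⟨b, hb⟩ := c2 (h.cj c⁻¹ w) (by rw [i3, hw])
      rw [h.cj_cj_inv hN] at hb
      refine ⟨b, ?_⟩
      calc h.cj c⁻¹ w = h.cj c⁻¹ w + h.ep b + h.ep b := by rw [add_assoc, h.sp.add_self, add_zero]
        _ = w + h.ep b := congrArg (· + h.ep b) hb.symm

theorem Xu_two [Finite G] : IsPGroup 2 h.Xu := by
  intro c
  obtain ⟨c0, c1, c2, c3⟩ := c.2
  have hN := h.CR_le_NR c0
  have hs : ∀ w, ∃ b, h.cj ((c : G) ^ 2) w = w + h.ep b := by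
    intro w
    obtain ⟨b, hb⟩ := c2 (h.cj (c : G) w + w) (by rw [h.Bm_add, c3, T.add_self (h2 := h.h2)])
    refine ⟨b, ?_⟩
    have e1 : h.cj (c : G) w = w + (h.cj (c : G) w + w) := by
      rw [add_comm (h.cj (c : G) w) w, ← add_assoc, h.sp.add_self, zero_add]
    rw [pow_two, h.cj_mul hN hN]
    conv_lhs => rw [e1]
    rw [h.cj_add hN, hb, ← add_assoc, ← add_assoc]
    have e2 : h.cj (c : G) w + h.cj (c : G) w = 0 := h.sp.add_self _
    rw [e2, zero_add]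
  have h2N : (c : G) ^ 2 ∈ normalizer (R : Set G) := pow_mem hN 2
  have h4 : (c : G) ^ 4 ∈ Q := by
    apply h.mem_Q_of_cj (pow_mem c0 4)
    intro w
    obtain ⟨b, hb⟩ := hs w
    have e1 : (c : G) ^ 4 = (c : G) ^ 2 * (c : G) ^ 2 := by rw [← pow_add]
    have e2 : h.cj ((c : G) ^ 2) (h.ep b) = h.ep b := by
      rw [pow_two, h.cj_mul hN hN, c1, c1]
    rw [e1, h.cj_mul h2N h2N, hb, h.cj_add h2N, hb, e2, add_assoc, h.sp.add_self, add_zero]
  obtain ⟨m, hm⟩ := h.Q_two ⟨(c : G) ^ 4, h4⟩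
  refine ⟨m + 2, Subtype.ext ?_⟩
  have h1 := congrArg Subtype.val hm
  simp only [SubmonoidClass.coe_pow, OneMemClass.coe_one] at h1 ⊢
  rw [← h1, ← pow_mul, pow_add, mul_comm]
  norm_num

/-- `N(V) ∩ N(R)` normalises `e` -/
theorem cj_ep {s : G} (hV : s ∈ normalizer (V : Set G)) (hR : s ∈ normalizer (R : Set G)) (b : F) :
    ∃ b', h.cj s (h.ep b) = h.ep b' := by
  have h1 : s * v 0 b 0 * s⁻¹ ∈ V := (mem_normalizer_iff.1 hV _).1 (h.v_mem _ _ _)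
  have h2 := h.nor s hR _ (h.E_le 0 b)
  obtain ⟨a, b', d, hd⟩ := h.v_surj _ h1
  rw [← hd] at h2
  have h3 := h.V_Q _ _ _ h2
  subst h3
  refine ⟨b', ?_⟩
  have e : h.cj s (h.ep b) = h.sp.pr (s * v 0 b 0 * s⁻¹) := h.cj_pr hR (h.E_le 0 b)
  rw [e, ← hd, h.pr_E]

/-- `N(V) ∩ N(R)` normalises `e^⊥` -/
theorem Bm_cj {s : G} (hV : s ∈ normalizer (V : Set G)) (hR : s ∈ normalizer (R : Set G)) {w : h.sp.W}
    (hw : h.Bm w = 0) : h.Bm (h.cj s w) = 0 := by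
  obtain ⟨x, hx, rfl⟩ := h.sp.pr_surj w
  rw [h.Bm_pr hx, h.p_eq_zero hx] at hw
  rw [h.cj_pr hR hx, h.Bm_pr (h.nor s hR x hx), h.p_eq_zero (h.nor s hR x hx)]
  exact h.CV_conj hV hw

theorem Xu_conj {s : G} (hV : s ∈ normalizer (V : Set G)) (hR : s ∈ normalizer (R : Set G)) {c : G}
    (hc : c ∈ h.Xu) : s * c * s⁻¹ ∈ h.Xu := by
  obtain ⟨c0, c1, c2, c3⟩ := hc
  have hN := h.CR_le_NR c0
  have hRi := inv_mem hR
  have hVi := inv_mem hV
  have hm : ∀ w, h.cj (s * c * s⁻¹) w = h.cj s (h.cj c (h.cj s⁻¹ w)) := fun w => by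
    rw [h.cj_mul (mul_mem hR hN) hRi, h.cj_mul hR hN]
  have h0 : s * c * s⁻¹ ∈ centralizer (R : Set G) := by
    rw [mem_centralizer_iff] at c0 ⊢
    intro r hr
    have h1 : s⁻¹ * r * s ∈ R := by
      have := (mem_normalizer_iff.1 hRi r).1 hr
      rwa [inv_inv] at this
    have h3 := c0 _ h1
    calc r * (s * c * s⁻¹) = s * ((s⁻¹ * r * s) * c) * s⁻¹ := by group
      _ = s * (c * (s⁻¹ * r * s)) * s⁻¹ := by rw [h3]
      _ = _ := by group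
  refine ⟨h0, fun b => ?_, fun w hw => ?_, fun w => ?_⟩
  · obtain ⟨b', hb'⟩ := h.cj_ep hVi hRi b
    rw [hm, hb', c1, ← hb', h.cj_cj_inv hR]
  · obtain ⟨b, hb⟩ := c2 (h.cj s⁻¹ w) (h.Bm_cj hVi hRi hw)
    obtain ⟨b', hb'⟩ := h.cj_ep hV hR b
    refine ⟨b', ?_⟩
    rw [hm, hb, h.cj_add hR, h.cj_cj_inv hR, hb']
  · have e1 : h.cj c (h.cj s⁻¹ w) = h.cj s⁻¹ w + (h.cj c (h.cj s⁻¹ w) + h.cj s⁻¹ w) := by
      rw [add_comm (h.cj c (h.cj s⁻¹ w)), ← add_assoc, h.sp.add_self, zero_add]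
    have e2 : h.Bm (h.cj c (h.cj s⁻¹ w) + h.cj s⁻¹ w) = 0 := by
      rw [h.Bm_add, c3, T.add_self (h2 := h.h2)]
    rw [hm, e1, h.cj_add hR, h.cj_cj_inv hR, h.Bm_add, h.Bm_cj hV hR e2, add_zero]

theorem Xu_le_S [Finite G] : h.Xu ≤ (S : Subgroup G) := by
  have hn : (S : Subgroup G) ≤ normalizer (h.Xu : Set G) := by
    intro s hs
    rw [mem_normalizer_iff]
    intro c
    constructor
    · exact fun hc => h.Xu_conj (h.S_V hs) (h.S_R hs) hc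
    · intro hc
      have h1 := h.Xu_conj (inv_mem (h.S_V hs)) (inv_mem (h.S_R hs)) hc
      have e : s⁻¹ * (s * c * s⁻¹) * s⁻¹⁻¹ = c := by group
      rwa [e] at h1
  have h1 : IsPGroup 2 ((S : Subgroup G) ⊔ h.Xu : Subgroup G) :=
    S.isPGroup'.to_sup_of_normal_right' h.Xu_two hn
  have h2 := S.is_maximal' h1 le_sup_left
  calc h.Xu ≤ (S : Subgroup G) ⊔ h.Xu := le_sup_right
    _ = S := h2

/-- an element of `Xu` is an element of `C(V)` times an element of `Q` -/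
theorem Xu_CV [Finite G] {c : G} (hc : c ∈ h.Xu) : ∃ y ∈ Q, c * y⁻¹ ∈ centralizer (V : Set G) := by
  have hcS := h.Xu_le_S hc
  obtain ⟨c0, c1, c2, c3⟩ := hc
  refine h.S_U c hcS c0 fun b => ?_
  have h1 : h.sp.pr (c * v 0 b 0 * c⁻¹) = h.sp.pr (v 0 b 0) := by
    have := c1 b
    rwa [show h.ep b = h.sp.pr (v 0 b 0) from rfl, h.cj_pr (h.CR_le_NR c0) (h.E_le 0 b)] at this
  rw [h.sp.pr_eq (h.nor c (h.CR_le_NR c0) _ (h.E_le 0 b)) (h.E_le 0 b), h.mem_R] at h1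
  obtain ⟨a, ha⟩ := h1
  refine ⟨a, ?_⟩
  have e : c * v 0 b 0 * c⁻¹ = (c * v 0 b 0 * c⁻¹ * (v 0 b 0)⁻¹) * v 0 b 0 := by group
  rw [e, ha, ← h.v_add, add_zero, zero_add, add_zero]

end Xu

variable (h : GIn T S V R Q Q' v p p') (sc : Scal h.sp.form)

/-- the unipotent radical of the stabiliser of `e` -/
def JJ : Subgroup (h.M sc ≃ₗ[k] h.M sc) where
  carrier := {g | g ∈ h.H sc ∧ (∀ c, g (h.epM sc c) = h.epM sc c) ∧
    (∀ m, h.BM sc m = 0 → ∃ c, g m - m = h.epM sc c) ∧ ∀ m, h.BM sc (g m - m) = 0}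
  one_mem' := ⟨one_mem _, fun _ => rfl, fun m _ => ⟨0, by
    change m - m = _
    rw [sub_self, map_zero]⟩, fun m => by
    change h.BM sc (m - m) = 0
    rw [sub_self, map_zero]⟩
  mul_mem' := fun {g g'} hg hg' => by
    obtain ⟨g0, g1, g2, g3⟩ := hg
    obtain ⟨k0, k1, k2, k3⟩ := hg'
    refine ⟨mul_mem g0 k0, fun c => ?_, fun m hm => ?_, fun m => ?_⟩
    · change g (g' _) = _
      rw [k1, g1]
    · obtain ⟨c, hc⟩ := k2 m hm
      obtain ⟨c', hc'⟩ := g2 m hm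
      refine ⟨c' + c, ?_⟩
      change g (g' m) - m = _
      have e1 : g' m = m + h.epM sc c := by rw [← hc]; abel
      rw [e1, map_add, g1, map_add, ← hc']
      abel
    · change h.BM sc (g (g' m) - m) = 0
      have e1 : g (g' m) - m = (g (g' m) - g' m) + (g' m - m) := by abel
      rw [e1, map_add, g3, k3, add_zero]
  inv_mem' := fun {g} hg => by
    obtain ⟨g0, g1, g2, g3⟩ := hg
    have hgi : ∀ m, g (g⁻¹ m) = m := fun m => g.apply_symm_apply m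
    have hig : ∀ m, g⁻¹ (g m) = m := fun m => g.symm_apply_apply m
    have i1 : ∀ c, g⁻¹ (h.epM sc c) = h.epM sc c := fun c => by
      have := hig (h.epM sc c)
      rwa [g1] at this
    have i3 : ∀ m, h.BM sc (g⁻¹ m - m) = 0 := fun m => by
      have h1 := g3 (g⁻¹ m)
      rw [hgi] at h1
      have e : g⁻¹ m - m = -(m - g⁻¹ m) := by abel
      rw [e, map_neg, h1, neg_zero]
    refine ⟨inv_mem g0, i1, fun m hm => ?_, i3⟩
    have h1 : h.BM sc (g⁻¹ m) = 0 := by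
      have e : g⁻¹ m = (g⁻¹ m - m) + m := by abel
      rw [e, map_add, i3, hm, add_zero]
    obtain ⟨c, hc⟩ := g2 _ h1
    rw [hgi] at hc
    refine ⟨-c, ?_⟩
    rw [map_neg, ← hc]; abel

variable {h sc}

theorem Ind.cj_eq {g : h.M sc ≃ₗ[k] h.M sc} {c : G} (hc : h.Ind sc g c) (w : h.sp.W) : h.cj c w = g w := by
  obtain ⟨x, hx, rfl⟩ := h.sp.pr_surj w
  rw [h.cj_pr (h.CR_le_NR hc.1) hx]
  exact (hc.2 x hx).symm

theorem Ind.mem_Xu {g : h.M sc ≃ₗ[k] h.M sc} (hg : g ∈ h.JJ sc) {c : G} (hc : h.Ind sc g c) : c ∈ h.Xu := by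
  obtain ⟨g0, g1, g2, g3⟩ := hg
  refine ⟨hc.1, fun b => ?_, fun w hw => ?_, fun w => ?_⟩
  · rw [hc.cj_eq]; exact g1 b
  · obtain ⟨b, hb⟩ := g2 w hw
    refine ⟨b, ?_⟩
    rw [hc.cj_eq]
    exact ((sub_eq_iff_eq_add'.1 hb : g w = _))
  · rw [hc.cj_eq]
    have h1 : ∀ m : h.M sc, h.BM sc (g m) = h.BM sc m := fun m => by
      have := g3 m
      rwa [map_sub, sub_eq_zero] at this
    exact h1 w

/-- `g` induced by `c` is induced by `c y`, `y ∈ Q` -/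
theorem Ind.mul_Q {g : h.M sc ≃ₗ[k] h.M sc} {c y : G} (hc : h.Ind sc g c) (hy : y ∈ Q) : h.Ind sc g (c * y) := by
  refine ⟨mul_mem hc.1 (h.Q_le_CR hy), fun x hx => ?_⟩
  have h1 : h.prM sc x = h.prM sc (y * x * y⁻¹) := by
    rw [h.prM_eq sc hx (mul_mem (mul_mem hy hx) (inv_mem hy))]
    have h2 := inv_mem (h.sp.comm y hy x hx)
    have e : (y * x * y⁻¹ * x⁻¹)⁻¹ = x * (y * x * y⁻¹)⁻¹ := by group
    rwa [e] at h2
  rw [h1, hc.2 _ (mul_mem (mul_mem hy hx) (inv_mem hy))]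
  congr 1
  group

/-- **(G)**: the elements of `JJ` are induced by `C_G(V)` -/
theorem JJ_CV [Finite G] {g : h.M sc ≃ₗ[k] h.M sc} (hg : g ∈ h.JJ sc) :
    ∃ c ∈ centralizer (V : Set G), h.Ind sc g c := by
  obtain ⟨c, hc⟩ := hg.1
  obtain ⟨y, hy, hcy⟩ := h.Xu_CV (hc.mem_Xu hg)
  exact ⟨c * y⁻¹, hcy, hc.mul_Q (inv_mem hy)⟩

end GIn

end Cfsg.Agent.Omega.NOne.SU
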