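import Cfsg.Agent.Omega.NOne.SU.Defs

/-!
# THEOREM UNI: the homomorphism `t : Fˣ → GL(W)` from one torus element

`exists_t`: `τ` has the weights of a generator `z0` of `Fˣ` on `e`, `P/e`, `W/P`;
then there is a homomorphism `t : Fˣ →* (W ≃ₗ[k] W)` with all the weights.
(`τ` is replaced by a power of odd order; then `τ ^ (|F| - 1)` is unipotent of odd order.)
-/

set_option autoImplicit false

namespace Cfsg.Agent.Omega.NOne.SU.TorusHom

open Cfsg.Agent.Omega.NOne.SU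

variable {k F W Φ : Type*} [Field k] [Field F] [Algebra k F] [AddCommGroup W] [Module k W]
  [AddCommGroup Φ] [Module k Φ] [Module F Φ]

/-- `τ` has the weights of `z`. -/
structure Wt (Q : Quad k F) (f : W →ₗ[k] W →ₗ[k] k) (H : Subgroup (W ≃ₗ[k] W)) (ε : F →ₗ[k] W)
    (B : W →ₗ[k] F) (y : W →ₗ[k] Φ) (τ : W ≃ₗ[k] W) (z : F) : Prop where
  wH : ∀ g ∈ H, τ * g * τ⁻¹ ∈ H
  we : ∀ c, τ (ε c) = ε (z * (Q.sg z)⁻¹ * c)
  wB : ∀ m, B (τ m) = z ^ 2 * B m
  wy : ∀ m, B m = 0 → y (τ m) = z • y m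
  wf : ∀ m m', f (τ m) (τ m') = Q.nm z * f m m'

variable {Q : Quad k F} {f : W →ₗ[k] W →ₗ[k] k} {H : Subgroup (W ≃ₗ[k] W)} {ε : F →ₗ[k] W}
    {B : W →ₗ[k] F} {y : W →ₗ[k] Φ}

theorem nm_mul (Q : Quad k F) (x x' : F) : Q.nm (x * x') = Q.nm x * Q.nm x' := by
  apply (algebraMap k F).injective
  rw [map_mul, Q.nm_eq, Q.nm_eq, Q.nm_eq, map_mul]; ring

theorem nm_one (Q : Quad k F) : Q.nm 1 = 1 := by
  apply (algebraMap k F).injective
  rw [Q.nm_eq, map_one, map_one, mul_one]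

theorem Wt.one : Wt Q f H ε B y 1 1 where
  wH := fun g hg => by simpa using hg
  we := fun c => by simp
  wB := fun m => by simp
  wy := fun m _ => by simp
  wf := fun m m' => by simp [nm_one]

theorem Wt.mul {τ τ' : W ≃ₗ[k] W} {z z' : F} (h : Wt Q f H ε B y τ z)
    (h' : Wt Q f H ε B y τ' z') : Wt Q f H ε B y (τ * τ') (z * z') where
  wH := fun g hg => by
    have h1 := h.wH _ (h'.wH g hg)
    have h2 : τ * τ' * g * (τ * τ')⁻¹ = τ * (τ' * g * τ'⁻¹) * τ⁻¹ := by group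
    rw [h2]; exact h1
  we := fun c => by
    have e1 : (τ * τ') (ε c) = τ (τ' (ε c)) := rfl
    rw [e1, h'.we, h.we, map_mul (f := Q.sg), mul_inv]; congr 1; ring
  wB := fun m => by
    have e1 : (τ * τ') m = τ (τ' m) := rfl
    rw [e1, h.wB, h'.wB]; ring
  wy := fun m hm => by
    have e1 : (τ * τ') m = τ (τ' m) := rfl
    rw [e1, h.wy _ (by rw [h'.wB, hm, mul_zero]), h'.wy m hm, mul_smul]
  wf := fun m m' => by
    have e1 : (τ * τ') m = τ (τ' m) := rfl
    have e2 : (τ * τ') m' = τ (τ' m') := rfl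
    rw [e1, e2, h.wf, h'.wf, nm_mul]; ring

theorem Wt.pow {τ : W ≃ₗ[k] W} {z : F} (h : Wt Q f H ε B y τ z) (n : ℕ) :
    Wt Q f H ε B y (τ ^ n) (z ^ n) := by
  induction n with
  | zero => simpa using Wt.one
  | succ n ih => rw [pow_succ, pow_succ]; exact ih.mul h

/-- an element with weight `1` is unipotent. -/
theorem Wt.unip [CharP k 2] (y_ker : ∀ m, B m = 0 → y m = 0 → ∃ c, m = ε c)
    {τ : W ≃ₗ[k] W} (h : Wt Q f H ε B y τ 1) : τ ^ 4 = 1 := by
  have h2 : ∀ m : W, m + m = 0 := fun m => by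
    rw [← two_smul k, CharTwo.two_eq_zero, zero_smul]
  have he : ∀ c, τ (ε c) = ε c := fun c => by rw [h.we, map_one, inv_one, mul_one, one_mul]
  have hB : ∀ m, B (τ m - m) = 0 := fun m => by
    rw [map_sub, h.wB, one_pow, one_mul, sub_self]
  -- `N = τ - 1`
  have hN3 : ∀ m, τ (τ (τ m)) - τ (τ m) - (τ (τ m) - τ m) - (τ (τ m) - τ m - (τ m - m)) = 0 := by
    intro m
    have hm1 := hB m
    have hy1 : y (τ (τ m - m) - (τ m - m)) = 0 := by
      rw [map_sub, h.wy _ hm1, one_smul, sub_self]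
    have hB1 : B (τ (τ m - m) - (τ m - m)) = 0 := hB _
    obtain ⟨c, hc⟩ := y_ker _ hB1 hy1
    have h3 := he c
    rw [← hc] at h3
    simp only [map_sub] at h3
    exact sub_eq_zero.2 h3
  ext m
  have e1 : (τ ^ 4) m = τ (τ (τ (τ m))) := by
    simp only [pow_succ, pow_zero, one_mul]; rfl
  have e2 : (1 : W ≃ₗ[k] W) m = m := rfl
  rw [e1, e2]
  have a1 := hN3 m
  have a2 := hN3 (τ m)
  generalize τ (τ (τ (τ m))) = x4 at a1 a2 ⊢
  generalize τ (τ (τ m)) = x3 at a1 a2 ⊢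
  generalize τ (τ m) = x2 at a1 a2 ⊢
  generalize τ m = x1 at a1 a2 ⊢
  have b1 := h2 m
  have b2 := h2 x1
  have b3 := h2 x2
  have b4 := h2 x3
  have key : x4 - m = (x4 - x3 - (x3 - x2) - (x3 - x2 - (x2 - x1))) +
      (x3 - x2 - (x2 - x1) - (x2 - x1 - (x1 - m))) + (x3 + x3) - (x1 + x1) := by
    abel
  rw [a1, a2, b2, b4] at key
  simpa [sub_eq_zero] using key

/-- **The homomorphism.** -/
theorem exists_t [Finite W] [Finite F] [CharP k 2]
    (y_ker : ∀ m, B m = 0 → y m = 0 → ∃ c, m = ε c)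
    {τ : W ≃ₗ[k] W} {z0 : Fˣ} (hz0 : ∀ z : Fˣ, z ∈ Subgroup.zpowers z0)
    (h : Wt Q f H ε B y τ (z0 : F)) :
    ∃ t : Fˣ →* (W ≃ₗ[k] W), (∀ z, Wt Q f H ε B y (t z) (z : F)) ∧
      ∃ n : ℕ, t z0 = τ ^ n := by
  classical
  have : CharP F 2 := charP_of_injective_algebraMap (algebraMap k F).injective 2
  have : Fintype F := Fintype.ofFinite F
  have : Finite (W ≃ₗ[k] W) := Finite.of_injective (fun g => (g : W → W)) (fun g g' hgg => by
    ext w; exact congrFun hgg w)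
  have : Finite Fˣ := inferInstance
  -- `|Fˣ|` is odd
  have hodd : Odd (Nat.card Fˣ) := by
    have h1 : Nat.card Fˣ = Fintype.card F - 1 := by
      rw [Nat.card_eq_fintype_card, Fintype.card_units]
    have h2 : Even (Fintype.card F) := by
      obtain ⟨n, hn⟩ := FiniteField.card F 2
      rw [hn.2]
      exact (Nat.even_pow.2 ⟨even_two, n.ne_zero⟩)
    rw [h1]
    have h3 : 0 < Fintype.card F := Fintype.card_pos
    obtain ⟨r, hr⟩ := h2
    exact ⟨r - 1, by omega⟩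
  set N := Nat.card Fˣ with hN
  have hz0N : z0 ^ N = 1 := by rw [hN]; exact pow_card_eq_one'
  -- the 2-part of the order of `τ`
  set o := orderOf τ with ho
  have ho0 : o ≠ 0 := (orderOf_pos τ).ne'
  obtain ⟨a, b, hb, hab⟩ := Nat.exists_eq_two_pow_mul_odd ho0
  have hcop : Nat.Coprime N (2 ^ a) := by
    apply Nat.Coprime.pow_right
    exact (Nat.coprime_two_right.2 hodd)
  obtain ⟨n, hn1, hn2⟩ := Nat.chineseRemainder hcop 1 0
  -- `σ = τ ^ n`
  have hσ := h.pow n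
  have hzn : z0 ^ n = z0 := by
    have h1 : z0 ^ n = z0 ^ 1 := by
      rw [pow_eq_pow_iff_modEq]
      have h2 : orderOf z0 ∣ N := orderOf_dvd_of_pow_eq_one hz0N
      exact hn1.of_dvd h2
    rw [h1, pow_one]
  have hzn' : (z0 : F) ^ n = (z0 : F) := by
    have h1 := congrArg (fun u : Fˣ => (u : F)) hzn
    simpa using h1
  rw [hzn'] at hσ
  have hσb : (τ ^ n) ^ b = 1 := by
    have h1 : 2 ^ a ∣ n := (Nat.modEq_zero_iff_dvd.1 hn2)
    obtain ⟨r, hr⟩ := h1
    rw [← pow_mul]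
    apply orderOf_dvd_iff_pow_eq_one.1
    rw [← ho, hab, hr]
    exact ⟨r, by ring⟩
  -- `σ ^ N = 1`
  have hσN : (τ ^ n) ^ N = 1 := by
    have h1 := hσ.pow N
    have h2 : (z0 : F) ^ N = 1 := by
      have h3 := congrArg (fun u : Fˣ => (u : F)) hz0N
      simpa using h3
    rw [h2] at h1
    have h4 : ((τ ^ n) ^ N) ^ 4 = 1 := Wt.unip y_ker h1
    have h5 : ((τ ^ n) ^ N) ^ b = 1 := by rw [← pow_mul, mul_comm, pow_mul, hσb, one_pow]
    have h6 : Nat.Coprime 4 b := by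
      have : (4 : ℕ) = 2 ^ 2 := by norm_num
      rw [this]
      exact Nat.Coprime.pow_left 2 (Nat.coprime_two_left.2 hb)
    have h7 : orderOf ((τ ^ n) ^ N) ∣ Nat.gcd 4 b :=
      Nat.dvd_gcd (orderOf_dvd_of_pow_eq_one h4) (orderOf_dvd_of_pow_eq_one h5)
    rw [h6] at h7
    exact orderOf_eq_one_iff.1 (Nat.dvd_one.1 h7)
  have hord : orderOf (τ ^ n) ∣ orderOf z0 := by
    have h1 : orderOf z0 = N := by rw [hN]; exact orderOf_eq_card_of_forall_mem_zpowers hz0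
    rw [h1]; exact orderOf_dvd_of_pow_eq_one hσN
  refine ⟨monoidHomOfForallMemZpowers hz0 hord, fun z => ?_, n, ?_⟩
  · obtain ⟨i, hi⟩ := (mem_powers_iff_mem_zpowers).2 (hz0 z)
    have h1 : monoidHomOfForallMemZpowers hz0 hord z = (τ ^ n) ^ i := by
      rw [← hi]
      simp only [map_pow, monoidHomOfForallMemZpowers_apply_gen]
    rw [h1]
    have h2 := hσ.pow i
    have h3 : (z : F) = (z0 : F) ^ i := by
      have h3 := congrArg (fun u : Fˣ => (u : F)) hi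
      simpa using h3.symm
    rw [h3]; exact h2
  · exact monoidHomOfForallMemZpowers_apply_gen hz0 hord

end Cfsg.Agent.Omega.NOne.SU.TorusHom
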