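import Cfsg.Agent.Omega.NOne.SU.Grp3
import Cfsg.Agent.Omega.NOne.SU.TorusHom

/-!
# THEOREM UNI, group part: the torus of `Uni`

`exists_tM` : the homomorphism `t : Fˣ → GL(W)` with the fields `tH, te, tB, ty, tf` of `Uni` (`TorusHom.Wt`).
-/

set_option autoImplicit false

open Subgroup

namespace Cfsg.Agent.Omega.NOne.SU

variable {G : Type*} [Group G] {k F : Type*} [Field k] [Field F] [Algebra k F]

namespace GIn

variable {T : Quad k F} {S : Sylow 2 G} {V R Q Q' : Subgroup G} {v : k → F → k → G} {p p' : G → F}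
  {Φ : Type*} [AddCommGroup Φ] [Module F Φ] {φ χ : G → Φ}

/-- an element of the torus normalises `R` -/
theorem tor_mem_NR [Finite G] (h : GIn T S V R Q Q' v p p') {t : G} {z : F}
    (ht : ∀ a b d, t * v a b d * t⁻¹ = v (T.nm z * a) (z * (T.sg z)⁻¹ * b) ((T.nm z)⁻¹ * d)) :
    t ∈ normalizer (R : Set G) := by
  have hR : ∀ x ∈ R, t * x * t⁻¹ ∈ R := by
    intro x hx
    obtain ⟨a, rfl⟩ := h.mem_R.1 hx
    rw [ht, mul_zero, mul_zero]
    exact h.mem_R.2 ⟨_, rfl⟩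
  have hinj : Function.Injective (fun y : R => (⟨t * y * t⁻¹, hR y y.2⟩ : R)) := by
    intro y z hyz
    have h1 := congrArg Subtype.val hyz
    exact Subtype.ext (mul_left_cancel (mul_right_cancel h1))
  have hsurj := Finite.surjective_of_injective hinj
  rw [mem_normalizer_iff]
  intro y
  refine ⟨hR y, fun hy => ?_⟩
  obtain ⟨z, hz⟩ := hsurj ⟨_, hy⟩
  have h1 : t * (z : G) * t⁻¹ = t * y * t⁻¹ := congrArg Subtype.val hz
  have h3 : (z : G) = y := mul_left_cancel (mul_right_cancel h1)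
  rw [← h3]; exact z.2

/-- **the torus element of weight `z`** -/
theorem wt_lin [Finite G] (h : GIn T S V R Q Q' v p p') (sc : Scal h.sp.form) [Module k Φ]
    (y : h.M sc →ₗ[k] Φ) (hy : ∀ x ∈ Q, x ∈ centralizer (V : Set G) → y (h.prM sc x) = φ x) {t : G} {z : F}
    (h1 : ∀ a b d, t * v a b d * t⁻¹ = v (T.nm z * a) (z * (T.sg z)⁻¹ * b) ((T.nm z)⁻¹ * d))
    (h2 : ∀ y ∈ Q, t * y * t⁻¹ ∈ Q ∧ p (t * y * t⁻¹) = z ^ 2 * p y)
    (h3 : ∀ x ∈ Q, x ∈ centralizer (V : Set G) → φ (t * x * t⁻¹) = z • φ x)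
    (hs : ∀ a, t * v a 0 0 * t⁻¹ = v (T.nm z * a) 0 0) :
    TorusHom.Wt T (h.fM sc) (h.H sc) (h.epM sc) (h.BM sc) y (h.lin sc t (h.tor_mem_NR h1) (T.nm z) hs) z := by
  have htR := h.tor_mem_NR h1
  set τ := h.lin sc t htR (T.nm z) hs with hτ
  have hpr : ∀ x ∈ Q, τ (h.prM sc x) = h.prM sc (t * x * t⁻¹) := fun x hx => h.lin_pr sc t htR _ hs hx
  have hpi : ∀ x ∈ Q, τ⁻¹ (h.prM sc x) = h.prM sc (t⁻¹ * x * t) := by
    intro x hx
    have hx' : t⁻¹ * x * t ∈ Q := h.nor_inv htR hx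
    have e : τ (h.prM sc (t⁻¹ * x * t)) = h.prM sc x := by
      rw [hpr _ hx']; congr 1; group
    rw [← e]
    exact τ.symm_apply_apply _
  refine ⟨?_, ?_, ?_, ?_, ?_⟩
  · rintro g ⟨c, hc⟩
    have hcR : t * c * t⁻¹ ∈ centralizer (R : Set G) := by
      rw [mem_centralizer_iff]
      intro r hr
      have h4 : t⁻¹ * r * t ∈ R := by
        have := (mem_normalizer_iff.1 (inv_mem htR) r).1 hr
        rwa [inv_inv] at this
      have h5 := (mem_centralizer_iff.1 hc.1) _ h4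
      calc r * (t * c * t⁻¹) = t * ((t⁻¹ * r * t) * c) * t⁻¹ := by group
        _ = t * (c * (t⁻¹ * r * t)) * t⁻¹ := by rw [h5]
        _ = _ := by group
    refine ⟨t * c * t⁻¹, hcR, fun x hx => ?_⟩
    have hx' : t⁻¹ * x * t ∈ Q := h.nor_inv htR hx
    have e : (τ * g * τ⁻¹) (h.prM sc x) = τ (g (τ⁻¹ (h.prM sc x))) := rfl
    rw [e, hpi x hx, hc.2 _ hx', hpr _ (h.nor c (h.CR_le_NR hc.1) _ hx')]
    congr 1
    group
  · intro c
    rw [← h.prM_E sc 0 c, hpr _ (h.E_le 0 c), h1, mul_zero, mul_zero, h.prM_E]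
  · intro m
    obtain ⟨x, hx, rfl⟩ := h.prM_surj sc m
    rw [hpr x hx, h.BM_pr sc (h2 x hx).1, h.BM_pr sc hx, (h2 x hx).2]
  · intro m hm
    obtain ⟨x, hx, rfl⟩ := h.prM_surj sc m
    rw [h.BM_pr sc hx] at hm
    have hxV := (h.p_eq_zero hx).1 hm
    have hx' := h2 x hx
    have hx'V : t * x * t⁻¹ ∈ centralizer (V : Set G) := by
      rw [← h.p_eq_zero hx'.1, hx'.2, hm, mul_zero]
    rw [hpr x hx, hy _ hx'.1 hx'V, hy x hx hxV, h3 x hx hxV]
  · intro m m'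
    exact h.lin_f sc t htR _ hs m m'

/-- **the torus** -/
theorem exists_tM [Finite G] (h : GIn T S V R Q Q' v p p') (sc : Scal h.sp.form) (f : Fld T V R Q Q' v p φ χ)
    [Module k Φ] (y : h.M sc →ₗ[k] Φ)
    (hy : ∀ x ∈ Q, x ∈ centralizer (V : Set G) → y (h.prM sc x) = φ x)
    (y_ker : ∀ m, h.BM sc m = 0 → y m = 0 → ∃ c, m = h.epM sc c) :
    ∃ t : Fˣ →* (h.M sc ≃ₗ[k] h.M sc),
      ∀ z : Fˣ, TorusHom.Wt T (h.fM sc) (h.H sc) (h.epM sc) (h.BM sc) y (t z) (z : F) := by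
  have hfin : Finite F := by
    apply Nat.finite_of_card_ne_zero
    rw [T.card]
    have := T.four
    positivity
  have : Finite (h.M sc) := h.finiteM sc
  have : CharP k 2 := CharTwo.of_one_ne_zero_of_two_eq_zero one_ne_zero h.h2
  obtain ⟨z0, hz0⟩ := IsCyclic.exists_generator (α := Fˣ)
  obtain ⟨t, -, h1, h2, h3, -⟩ := f.tor (z0 : F) z0.ne_zero
  have hs : ∀ a, t * v a 0 0 * t⁻¹ = v (T.nm (z0 : F) * a) 0 0 := fun a => by
    rw [h1, mul_zero, mul_zero]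
  obtain ⟨tt, htt, -⟩ := TorusHom.exists_t y_ker hz0 (h.wt_lin sc y hy h1 h2 h3 hs)
  exact ⟨tt, htt⟩

/-- **the field `Om` of `Uni`** -/
theorem OmH [Finite G] (h : GIn T S V R Q Q' v p p') (sc : Scal h.sp.form) (f : Fld T V R Q Q' v p φ χ) :
    ∀ N : Submodule k (h.M sc), (∀ g ∈ h.H sc, ∀ c, g (h.epM sc c) ∈ N) → N = ⊤ := by
  intro N hN
  have h1 : (N.toAddSubgroup : AddSubgroup h.sp.W) = ⊤ := by
    refine h.span f _ ?_
    intro c hc b
    exact hN _ (ind_linC c hc).mem b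
  rw [eq_top_iff]
  intro x _
  have h2 : (x : h.sp.W) ∈ (N.toAddSubgroup : AddSubgroup h.sp.W) := by rw [h1]; trivial
  exact h2

end GIn

end Cfsg.Agent.Omega.NOne.SU
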