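import Cfsg.Agent.Omega.NOne.SU.HermQuad

/-!
# THEOREM UNI, section 4: coordinates `M = e + U + e'`

`OppV D` : a member `e' = v(F)` opposite to `e = ε(F)` fixed by the torus.  `u : Φ → M` is the
inverse of `y` on `U = e^⊥ ∩ e'^⊥`; `co : M ≃ F × Φ × F`.
-/

set_option autoImplicit false
set_option linter.unusedSectionVars false

namespace Cfsg.Agent.Omega.NOne.SU

open Quad

namespace Uni

variable {k F M Φ : Type*} [Field k] [Field F] [Algebra k F] [AddCommGroup M] [Module k M]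
    [AddCommGroup Φ] [Module k Φ] [Module F Φ]

/-- An opposite member `e' = v(F)` fixed by the torus. -/
structure OppV (D : Uni k F M Φ) where
  v : F →ₗ[k] M
  Bv : ∀ s, D.B (v s) = s
  vv : ∀ s s', D.f (v s) (v s') = 0
  tv : ∀ (z : Fˣ) s, D.t z (v s) = v ((z : F) ^ 2 * s)

section basic

variable (D : Uni k F M Φ)

theorem Bε (c : F) : D.B (D.ε c) = 0 := by
  obtain ⟨j, hj, h⟩ := D.Jn 1
  have h1 := D.Je j hj c
  rw [h, add_eq_left, one_smul] at h1
  exact D.ε_inj (by rw [h1, map_zero])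

theorem yε (c : F) : D.y (D.ε c) = 0 := (D.y_ker _ (D.Bε c)).2 ⟨c, rfl⟩

theorem hm_zero_left (x : Φ) : D.hm 0 x = 0 := by
  have := D.hm_add 0 0 x
  rwa [add_zero, left_eq_add] at this

theorem hm_add_right (x u u' : Φ) : D.hm x (u + u') = D.hm x u + D.hm x u' := by
  rw [D.hm_sym, D.hm_add, map_add, ← D.hm_sym, ← D.hm_sym]

theorem hm_smul_right (s : F) (x u : Φ) : D.hm x (s • u) = D.sg s * D.hm x u := by
  rw [D.hm_sym, D.hm_smul, map_mul, ← D.hm_sym]

theorem hm_zero_right (x : Φ) : D.hm x 0 = 0 := by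
  rw [D.hm_sym, D.hm_zero_left, map_zero]

theorem tinv_B (z : Fˣ) (m : M) : D.B ((D.t z)⁻¹ m) = ((z : F) ^ 2)⁻¹ * D.B m := by
  have h := D.tB z ((D.t z)⁻¹ m)
  have h2 : D.t z ((D.t z)⁻¹ m) = m := by
    rw [← LinearEquiv.mul_apply, mul_inv_cancel]; rfl
  rw [h2] at h
  rw [h, inv_mul_cancel_left₀ (pow_ne_zero 2 z.ne_zero)]

variable [CharP k 2]

theorem f_symm (x x' : M) : D.f x x' = D.f x' x := by
  have h := D.alt (x + x')
  simp only [map_add, LinearMap.add_apply, D.alt, zero_add, add_zero] at h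
  exact eq_of_add_eq_zeroM k (by rwa [add_comm] at h)

theorem f_ε (c c' : F) : D.f (D.ε c) (D.ε c') = 0 := by
  rw [D.fe, D.Bε, map_zero, mul_zero, map_zero]

theorem tr_smul_mul (a : k) (x : F) : D.tr (a • x) = a * D.tr x := by
  rw [map_smul, smul_eq_mul]

end basic

variable {D : Uni k F M Φ} [CharP k 2] [Finite k] [Finite F] (o : D.OppV)

theorem f_ε_v (c s : F) : D.f (D.ε c) (o.v s) = D.tr (c * D.sg s) := by
  rw [D.fe, o.Bv]

theorem u_unique {m m' : M} (hm : D.B m = 0) (hm' : D.B m' = 0)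
    (h : ∀ s, D.f (o.v s) m = 0) (h' : ∀ s, D.f (o.v s) m' = 0) (hy : D.y m = D.y m') : m = m' := by
  have h1 : D.B (m - m') = 0 := by rw [map_sub, hm, hm', sub_zero]
  obtain ⟨c, hc⟩ := (D.y_ker _ h1).1 (by rw [map_sub, hy, sub_self])
  have h2 : c = 0 := by
    apply D.tr_nondegH'
    intro s
    rw [← D.f_ε_v o, D.f_symm, ← hc, map_sub, h, h', sub_zero]
  rw [h2, map_zero, sub_eq_zero] at hc
  exact hc

theorem exists_u (x : Φ) : ∃ m, D.B m = 0 ∧ D.y m = x ∧ ∀ s, D.f (o.v s) m = 0 := by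
  obtain ⟨m, hm, hy⟩ := D.y_surj x
  obtain ⟨c, hc⟩ := D.exists_rep ((D.f.flip m).comp o.v)
  refine ⟨m - D.ε c, ?_, ?_, fun s => ?_⟩
  · rw [map_sub, hm, D.Bε, sub_zero]
  · rw [map_sub, hy, D.yε, sub_zero]
  · have h := hc s
    change D.f (o.v s) m = _ at h
    rw [map_sub, h, D.f_symm (o.v s), D.f_ε_v o, sub_self]

/-- the inverse of `y` on `U = e^⊥ ∩ e'^⊥`. -/
noncomputable def uo : Φ →ₗ[k] M where
  toFun x := (exists_u o x).choose
  map_add' x x' := by
    have h1 := (exists_u o x).choose_spec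
    have h2 := (exists_u o x').choose_spec
    have h3 := (exists_u o (x + x')).choose_spec
    refine u_unique o h3.1 ?_ h3.2.2 (fun s => ?_) ?_
    · rw [map_add, h1.1, h2.1, add_zero]
    · rw [map_add, h1.2.2, h2.2.2, add_zero]
    · rw [map_add, h1.2.1, h2.2.1, h3.2.1]
  map_smul' a x := by
    have h1 := (exists_u o x).choose_spec
    have h3 := (exists_u o (a • x)).choose_spec
    refine u_unique o h3.1 ?_ h3.2.2 (fun s => ?_) ?_
    · rw [map_smul, RingHom.id_apply, h1.1, smul_zero]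
    · rw [map_smul, RingHom.id_apply, h1.2.2, smul_zero]
    · rw [map_smul, RingHom.id_apply, h1.2.1, h3.2.1]

theorem Bu (x : Φ) : D.B (uo o x) = 0 := (exists_u o x).choose_spec.1

theorem yu (x : Φ) : D.y (uo o x) = x := (exists_u o x).choose_spec.2.1

theorem vu (s : F) (x : Φ) : D.f (o.v s) (uo o x) = 0 := (exists_u o x).choose_spec.2.2 s

theorem eq_u {m : M} (hm : D.B m = 0) (h : ∀ s, D.f (o.v s) m = 0) : m = uo o (D.y m) :=
  u_unique o hm (Bu o _) h (fun s => vu o s _) (yu o _).symm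

theorem εu (c : F) (x : Φ) : D.f (D.ε c) (uo o x) = 0 := by
  rw [D.fe, Bu, map_zero, mul_zero, map_zero]

theorem uu (x x' : Φ) : D.f (uo o x) (uo o x') = D.tr (D.hm x x') := by
  rw [D.fy _ _ (Bu o x) (Bu o x'), yu, yu]

theorem t_u (z : Fˣ) (x : Φ) : D.t z (uo o x) = uo o ((z : F) • x) := by
  refine u_unique o ?_ (Bu o _) (fun s => ?_) (fun s => vu o s _) ?_
  · rw [D.tB, Bu, mul_zero]
  · have h : D.t z (o.v (((z : F) ^ 2)⁻¹ * s)) = o.v s := by
      rw [o.tv, mul_inv_cancel_left₀ (pow_ne_zero 2 z.ne_zero)]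
    rw [← h, D.tf, vu, mul_zero]
  · rw [D.ty z _ (Bu o x), yu, yu]

/-- the coordinate map `(a, x, b) ↦ ε a + u x + v b`. -/
noncomputable def psi : F × Φ × F →ₗ[k] M := D.ε.coprod ((uo o).coprod o.v)

theorem psi_apply (a : F) (x : Φ) (b : F) : psi o (a, x, b) = D.ε a + (uo o x + o.v b) := by
  rw [psi, LinearMap.coprod_apply, LinearMap.coprod_apply]

theorem B_psi (p : F × Φ × F) : D.B (psi o p) = p.2.2 := by
  obtain ⟨a, x, b⟩ := p
  rw [psi_apply, map_add, map_add, D.Bε, Bu, o.Bv, zero_add, zero_add]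

theorem psi_injective : Function.Injective (psi o) := by
  rw [injective_iff_map_eq_zero]
  rintro ⟨a, x, b⟩ h
  have h1 : b = 0 := by
    have := B_psi o (a, x, b)
    rw [h, map_zero] at this
    exact this.symm
  rw [psi_apply, h1, map_zero, add_zero] at h
  have h2 : x = 0 := by
    have := congrArg D.y h
    rwa [map_add, D.yε, yu, zero_add, map_zero] at this
  rw [h2, map_zero, add_zero] at h
  have h3 : a = 0 := D.ε_inj (by rw [h, map_zero])
  rw [h1, h2, h3]; rfl

theorem psi_surjective : Function.Surjective (psi o) := by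
  intro m
  have h1 : D.B (m - o.v (D.B m)) = 0 := by rw [map_sub, o.Bv, sub_self]
  have h2 : D.B (m - o.v (D.B m) - uo o (D.y (m - o.v (D.B m)))) = 0 := by
    rw [map_sub, h1, Bu, sub_zero]
  obtain ⟨c, hc⟩ := (D.y_ker _ h2).1 (by rw [map_sub, yu, sub_self])
  refine ⟨(c, D.y (m - o.v (D.B m)), D.B m), ?_⟩
  rw [psi_apply, ← hc]
  abel

/-- coordinates -/
noncomputable def co : M ≃ₗ[k] F × Φ × F :=
  (LinearEquiv.ofBijective (psi o) ⟨psi_injective o, psi_surjective o⟩).symm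

theorem psi_co (m : M) : psi o (co o m) = m :=
  (LinearEquiv.ofBijective (psi o) ⟨psi_injective o, psi_surjective o⟩).apply_symm_apply m

theorem co_psi (p : F × Φ × F) : co o (psi o p) = p :=
  (LinearEquiv.ofBijective (psi o) ⟨psi_injective o, psi_surjective o⟩).symm_apply_apply p

theorem co_ε (a : F) : co o (D.ε a) = (a, 0, 0) := by
  have h : D.ε a = psi o (a, 0, 0) := by rw [psi_apply, map_zero, map_zero, add_zero, add_zero]
  rw [h, co_psi]

theorem co_u (x : Φ) : co o (uo o x) = (0, x, 0) := by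
  have h : uo o x = psi o (0, x, 0) := by rw [psi_apply, map_zero, map_zero, add_zero, zero_add]
  rw [h, co_psi]

theorem co_v (b : F) : co o (o.v b) = (0, 0, b) := by
  have h : o.v b = psi o (0, 0, b) := by rw [psi_apply, map_zero, map_zero, zero_add, zero_add]
  rw [h, co_psi]

theorem co_B (m : M) : (co o m).2.2 = D.B m := by
  conv_rhs => rw [← psi_co o m]
  exact (B_psi o _).symm

theorem co_y {m : M} (h : D.B m = 0) : (co o m).2.1 = D.y m := by
  have h1 := psi_co o m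
  have h2 : (co o m).2.2 = 0 := by rw [co_B, h]
  have h3 : psi o (co o m) = D.ε (co o m).1 + (uo o (co o m).2.1 + o.v (co o m).2.2) :=
    psi_apply o _ _ _
  rw [h2, map_zero, add_zero] at h3
  have h4 := congrArg D.y (h3.symm.trans h1)
  rw [map_add, D.yε, yu, zero_add] at h4
  exact h4

theorem eq_psi (m : M) : m = D.ε (co o m).1 + (uo o (co o m).2.1 + o.v (co o m).2.2) := by
  conv_lhs => rw [← psi_co o m]
  exact psi_apply o _ _ _

/-- two additive maps which agree on `e`, `U`, `e'` are equal -/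
theorem ext_on {N : Type*} [AddCommGroup N] {φ ψ : M →+ N} (h1 : ∀ a, φ (D.ε a) = ψ (D.ε a))
    (h2 : ∀ x, φ (uo o x) = ψ (uo o x)) (h3 : ∀ b, φ (o.v b) = ψ (o.v b)) (m : M) : φ m = ψ m := by
  rw [eq_psi o m, map_add, map_add, map_add, map_add, h1, h2, h3]

end Uni

end Cfsg.Agent.Omega.NOne.SU
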