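import Cfsg.Agent.Omega.NOne.SU.HermCo

/-!
# THEOREM UNI, section 4: `J` is `F`-linear

`rho o j : F → F` is the `e`-coordinate of `j` on `e'`.
-/

set_option autoImplicit false
set_option linter.unusedSectionVars false

namespace Cfsg.Agent.Omega.NOne.SU

open Quad

namespace Uni

variable {k F M Φ : Type*} [Field k] [Field F] [Algebra k F] [AddCommGroup M] [Module k M]
    [AddCommGroup Φ] [Module k Φ] [Module F Φ]

section basic

variable (D : Uni k F M Φ)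

theorem J_B {j : M ≃ₗ[k] M} (hj : j ∈ D.J) (m : M) : D.B (j m) = D.B m := by
  have h := (D.JM j hj m).1
  rwa [map_sub, sub_eq_zero] at h

theorem chi_mul {j j' : M ≃ₗ[k] M} (hj : j ∈ D.J) (hj' : j' ∈ D.J) {m : M} (hm : D.B m = 1) :
    D.χ (j * j') = D.χ j + D.χ j' := by
  have h1 := (D.JM _ (mul_mem hj hj') m).2
  have h2 := (D.JM _ hj (j' m)).2
  have h3 := (D.JM _ hj' m).2
  rw [hm, one_smul] at h1 h3
  rw [D.J_B hj', hm, one_smul] at h2
  rw [← h1, ← h2, ← h3, ← map_add, LinearEquiv.mul_apply]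
  congr 1
  abel

theorem chi_one {m : M} (hm : D.B m = 1) : D.χ 1 = 0 := by
  have h := (D.JM 1 (one_mem _) m).2
  rw [hm, one_smul] at h
  rw [← h, show (1 : M ≃ₗ[k] M) m = m from rfl, sub_self, map_zero]

end basic

variable {D : Uni k F M Φ} [CharP k 2] [Finite k] [Finite F] (o : D.OppV)

include o in
theorem chi_mul' {j j' : M ≃ₗ[k] M} (hj : j ∈ D.J) (hj' : j' ∈ D.J) :
    D.χ (j * j') = D.χ j + D.χ j' := D.chi_mul hj hj' (o.Bv 1)

include o in
theorem chi_inv {j : M ≃ₗ[k] M} (hj : j ∈ D.J) : D.χ j⁻¹ = - D.χ j := by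
  have h := D.chi_mul hj (inv_mem hj) (o.Bv 1)
  rw [mul_inv_cancel, D.chi_one (o.Bv 1)] at h
  exact (neg_eq_of_add_eq_zero_right h.symm).symm

theorem J_u {j : M ≃ₗ[k] M} (hj : j ∈ D.J) (x : Φ) :
    j (uo o x) = uo o x + D.ε (D.hm x (D.χ j)) := by
  rw [D.JP j hj _ (Bu o x), yu]

/-- the `e`-coordinate of `j` on `e'` -/
noncomputable def rho (j : M ≃ₗ[k] M) : F →ₗ[k] F :=
  (LinearMap.fst k F (Φ × F)).comp ((co o).toLinearMap.comp (j.toLinearMap.comp o.v))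

theorem rho_apply (j : M ≃ₗ[k] M) (b : F) : rho o j b = (co o (j (o.v b))).1 := rfl

theorem J_v {j : M ≃ₗ[k] M} (hj : j ∈ D.J) (b : F) :
    j (o.v b) = D.ε (rho o j b) + (uo o (b • D.χ j) + o.v b) := by
  have h1 := D.JM j hj (o.v b)
  rw [o.Bv] at h1
  have h2 : (co o (j (o.v b))).2.2 = b := by rw [co_B, D.J_B hj, o.Bv]
  have h3 : (co o (j (o.v b))).2.1 = b • D.χ j := by
    have h4 : co o (j (o.v b)) = co o (j (o.v b) - o.v b) + co o (o.v b) := by
      rw [← map_add, sub_add_cancel]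
    rw [h4, co_v, Prod.snd_add, Prod.fst_add, co_y o h1.1, h1.2]
    exact add_zero _
  conv_lhs => rw [eq_psi o (j (o.v b)), h2, h3]
  rw [rho_apply]

theorem rho_mul {j j' : M ≃ₗ[k] M} (hj : j ∈ D.J) (hj' : j' ∈ D.J) (b : F) :
    rho o (j * j') b = rho o j b + rho o j' b + b * D.hm (D.χ j') (D.χ j) := by
  rw [rho_apply, LinearEquiv.mul_apply, J_v o hj', map_add j, map_add j, D.Je j hj, J_u o hj,
    J_v o hj b, D.hm_smul]
  simp only [map_add, co_ε, co_u, co_v, Prod.fst_add]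
  ring

theorem J_ext {j j' : M ≃ₗ[k] M} (hj : j ∈ D.J) (hj' : j' ∈ D.J) (h1 : D.χ j = D.χ j')
    (h2 : ∀ b, rho o j b = rho o j' b) : j = j' := by
  ext m
  refine ext_on o (φ := j.toLinearMap.toAddMonoidHom) (ψ := j'.toLinearMap.toAddMonoidHom)
    (fun a => ?_) (fun x => ?_) (fun b => ?_) m
  · change j _ = j' _
    rw [D.Je j hj, D.Je j' hj']
  · change j _ = j' _
    rw [J_u o hj, J_u o hj', h1]
  · change j _ = j' _
    rw [J_v o hj, J_v o hj', h1, h2]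

/-- the semilinear part of `rho` -/
noncomputable def sl (θ : F) (j : M ≃ₗ[k] M) : F := rho o j θ + θ * rho o j 1

theorem sl_mul (θ : F) {j j' : M ≃ₗ[k] M} (hj : j ∈ D.J) (hj' : j' ∈ D.J) :
    sl o θ (j * j') = sl o θ j + sl o θ j' := by
  rw [sl, sl, sl, rho_mul o hj hj', rho_mul o hj hj']
  have h := add_selfF k (θ * D.hm (D.χ j') (D.χ j))
  linear_combination h

theorem sl_of_chi (θ : F) {j : M ≃ₗ[k] M} (hj : j ∈ D.J) (h : D.χ j = 0) : sl o θ j = 0 := by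
  obtain ⟨a, ha⟩ := D.JA j hj h
  have h1 : ∀ b, rho o j b = a • b := fun b => by
    rw [rho_apply, ha, o.Bv, map_add, co_v, co_ε]
    exact zero_add _
  rw [sl, h1, h1, mul_smul_comm, mul_one, add_selfF k]

theorem sl_congr (θ : F) {j j' : M ≃ₗ[k] M} (hj : j ∈ D.J) (hj' : j' ∈ D.J)
    (h : D.χ j = D.χ j') : sl o θ j = sl o θ j' := by
  have h1 : D.χ (j * j'⁻¹) = 0 := by
    rw [chi_mul' o hj (inv_mem hj'), chi_inv o hj', h, add_neg_cancel]
  have h2 := sl_of_chi o θ (mul_mem hj (inv_mem hj')) h1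
  have h3 := sl_mul o θ (mul_mem hj (inv_mem hj')) hj'
  rw [inv_mul_cancel_right, h2, zero_add] at h3
  exact h3

theorem t_inv_apply (z : Fˣ) (m : M) : (D.t z)⁻¹ m = D.t z⁻¹ m := by rw [map_inv]

theorem t_t_inv (z : Fˣ) (m : M) : D.t z (D.t z⁻¹ m) = m := by
  rw [← LinearEquiv.mul_apply, ← map_mul, mul_inv_cancel, map_one]
  rfl

theorem conj_mem_J (z : Fˣ) {j : M ≃ₗ[k] M} (hj : j ∈ D.J) : D.t z * j * (D.t z)⁻¹ ∈ D.J := by
  have hval : ∀ m, (D.t z * j * (D.t z)⁻¹) m = D.t z (j (D.t z⁻¹ m)) := fun m => by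
    rw [LinearEquiv.mul_apply, LinearEquiv.mul_apply, t_inv_apply]
  have htt : ∀ m, D.t z (D.t z⁻¹ m) = m := t_t_inv z
  refine D.Jmax _ (D.tH z j (D.J_le hj)) (fun c => ?_) (fun m hm => ?_) (fun m => ?_)
  · rw [hval, D.te, D.Je j hj, ← D.te z⁻¹ c, htt]
  · have h1 : D.B (D.t z⁻¹ m) = 0 := by rw [D.tB, hm, mul_zero]
    rw [hval, D.JP j hj _ h1, map_add, htt, D.te]
    exact ⟨_, add_sub_cancel_left _ _⟩
  · rw [hval, map_sub, D.tB, D.J_B hj, D.tB, sub_eq_zero, ← mul_assoc]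
    rw [Units.val_inv_eq_inv_val, ← mul_pow, mul_inv_cancel₀ z.ne_zero, one_pow, one_mul]

include o in
theorem conj_chi (z : Fˣ) {j : M ≃ₗ[k] M} (hj : j ∈ D.J) :
    D.χ (D.t z * j * (D.t z)⁻¹) = (z : F)⁻¹ • D.χ j := by
  have h1 := (D.JM _ (conj_mem_J z hj) (o.v 1)).2
  rw [o.Bv, one_smul] at h1
  rw [← h1, LinearEquiv.mul_apply, LinearEquiv.mul_apply, t_inv_apply]
  have h2 : D.t z (j (D.t z⁻¹ (o.v 1))) - o.v 1
      = D.t z (j (D.t z⁻¹ (o.v 1)) - D.t z⁻¹ (o.v 1)) := by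
    rw [map_sub, t_t_inv]
  have h3 := D.JM j hj (D.t z⁻¹ (o.v 1))
  rw [h2, D.ty z _ h3.1, h3.2, D.tB, o.Bv, mul_one, smul_smul, Units.val_inv_eq_inv_val]
  congr 1
  have := z.ne_zero
  field_simp

theorem conj_rho (z : Fˣ) {j : M ≃ₗ[k] M} (hj : j ∈ D.J) (b : F) :
    rho o (D.t z * j * (D.t z)⁻¹) b
      = (z : F) * (D.sg z)⁻¹ * rho o j ((z : F)⁻¹ ^ 2 * b) := by
  rw [rho_apply, LinearEquiv.mul_apply, LinearEquiv.mul_apply, t_inv_apply, o.tv,
    Units.val_inv_eq_inv_val, J_v o hj, map_add (D.t z), map_add (D.t z), D.te, t_u, o.tv,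
    map_add, map_add, co_ε, co_u, co_v]
  simp only [Prod.fst_add, add_zero]

theorem rho_eq {θ : F} (hθ : D.tr θ = 1) (j : M ≃ₗ[k] M) (b : F) :
    rho o j b = b * rho o j 1 + D.tr b • sl o θ j := by
  obtain ⟨a, ha⟩ := D.exists_decomp hθ b
  have h1 : b = a • (1 : F) + D.tr b • θ := by
    rw [← Algebra.algebraMap_eq_smul_one]; exact ha
  have h2 : rho o j b = a • rho o j 1 + D.tr b • rho o j θ := by
    conv_lhs => rw [h1, map_add, map_smul, map_smul]
  have h3 := add_selfF k (D.tr b • (θ * rho o j 1))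
  have h4 : b * rho o j 1 = a • rho o j 1 + D.tr b • (θ * rho o j 1) := by
    conv_lhs => rw [h1, add_mul, smul_mul_assoc, one_mul, smul_mul_assoc]
  rw [h2, h4, sl, smul_add]
  linear_combination (-1 : F) * h3

theorem conj_sl {θ : F} (hθ : D.tr θ = 1) (z : Fˣ) {j : M ≃ₗ[k] M} (hj : j ∈ D.J) :
    sl o θ (D.t z * j * (D.t z)⁻¹) = (z : F) * (D.sg z)⁻¹ ^ 3 * sl o θ j := by
  rw [sl, conj_rho o z hj, conj_rho o z hj, rho_eq o hθ j ((z : F)⁻¹ ^ 2 * θ),
    rho_eq o hθ j ((z : F)⁻¹ ^ 2 * 1)]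
  set w : F := (z : F)⁻¹ ^ 2 with hw
  have h1 : algebraMap k F (D.tr (w * θ)) = w * θ + D.sg w * D.sg θ := by
    rw [D.tr_eq, map_mul]
  have h2 : algebraMap k F (D.tr (w * 1)) = w + D.sg w := by
    rw [D.tr_eq, mul_one]
  have h3 : θ + D.sg θ = 1 := by rw [← D.tr_eq, hθ, map_one]
  have h4 : D.sg w = (D.sg z)⁻¹ ^ 2 := by rw [hw, map_pow, map_inv₀]
  rw [Algebra.smul_def, Algebra.smul_def, h1, h2, h4]
  have h5 := add_selfF k (w * θ * rho o j 1)
  have h6 := add_selfF k (w * θ * sl o θ j)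
  have h7 : D.sg θ = 1 + θ := by
    have := add_selfF k θ
    linear_combination h3 - this
  rw [h7]
  have h8 := add_selfF k ((D.sg z)⁻¹ ^ 2 * θ * sl o θ j)
  linear_combination (z : F) * (D.sg z)⁻¹ * (h5 + h6 + h8)

/-- **`J` is `F`-linear** (uses `|k| ≥ 4`). -/
theorem sl_eq_zero {θ : F} (hθ : D.tr θ = 1) {j : M ≃ₗ[k] M} (hj : j ∈ D.J) : sl o θ j = 0 := by
  by_contra hs
  -- for every `z ≠ 0, 1` : `z = w` or `z = w ^ 2`, `w = sg z`
  have key : ∀ z : F, z ≠ 0 → 1 + z ≠ 0 → (z + D.sg z) * (z + D.sg z ^ 2) = 0 := by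
    intro z hz hz1
    have hid : ∀ (y : F) (hy : y ≠ 0), ∃ j' ∈ D.J, D.χ j' = y • D.χ j ∧
        sl o θ j' = y⁻¹ * D.sg y ^ 3 * sl o θ j := by
      intro y hy
      refine ⟨_, conj_mem_J (Units.mk0 y hy)⁻¹ hj, ?_, ?_⟩
      · rw [conj_chi o _ hj, Units.val_inv_eq_inv_val, inv_inv, Units.val_mk0]
      · rw [conj_sl o hθ _ hj, Units.val_inv_eq_inv_val, Units.val_mk0, map_inv₀, inv_inv]
    obtain ⟨j1, hj1, h1, h1'⟩ := hid z hz
    obtain ⟨j2, hj2, h2, h2'⟩ := hid (1 + z) hz1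
    have h3 : D.χ j2 = D.χ (j * j1) := by
      rw [chi_mul' o hj hj1, h2, h1, add_smul, one_smul]
    have h4 := sl_congr o θ hj2 (mul_mem hj hj1) h3
    rw [sl_mul o θ hj hj1, h2', h1'] at h4
    apply four_identity k hz hz1
    apply mul_right_cancel₀ hs
    rw [map_add, map_one] at h4
    rw [h4]
    ring
  -- an element outside `k`
  have hfix : ∀ z : F, z + D.sg z = 0 → ∃ a : k, algebraMap k F a = z := fun z h => by
    apply D.exists_of_tr_eq_zero
    apply algebraMap_inj (F := F)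
    rw [D.tr_eq, h, map_zero]
  have hθ0 : ∀ a : k, ¬ ∃ b : k, algebraMap k F b = θ + algebraMap k F a := by
    rintro a ⟨b, hb⟩
    have h1 : D.tr (θ + algebraMap k F a) = 0 := by rw [← hb, D.tr_algebraMap]
    rw [map_add, D.tr_algebraMap, hθ, add_zero] at h1
    exact one_ne_zero h1
  have cube : ∀ a : k, (θ + algebraMap k F a) ^ 3 = 1 := by
    intro a
    set z := θ + algebraMap k F a with hz
    have hz0 : z ≠ 0 := fun h => hθ0 a ⟨0, by rw [map_zero]; exact h.symm⟩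
    have hz1 : 1 + z ≠ 0 := fun h => hθ0 a ⟨1, by
      rw [map_one]; exact eq_of_add_eq_zeroM k h⟩
    rcases mul_eq_zero.1 (key z hz0 hz1) with h | h
    · exact (hθ0 a (hfix z h)).elim
    · have h1 : z = D.sg z ^ 2 := eq_of_add_eq_zeroM k h
      have h2 : D.sg z = z ^ 2 := by
        have := congrArg D.sg h1
        rwa [map_pow, D.sg_sg] at this
      rw [h2, ← pow_mul] at h1
      have h3 : z * z ^ 3 = z * 1 := by rw [mul_one, ← pow_succ']; exact h1.symm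
      exact mul_left_cancel₀ hz0 h3
  have hc : (2 : F) = 0 := by have := charF k F; exact CharTwo.two_eq_zero
  have c0 : θ ^ 3 = 1 := by
    have := cube 0
    rwa [map_zero, add_zero] at this
  have quad : ∀ a : k, a ≠ 0 →
      θ ^ 2 + θ * algebraMap k F a + algebraMap k F a ^ 2 = 0 := by
    intro a ha
    have h1 := cube a
    have h2 : algebraMap k F a ≠ 0 := fun h => ha (algebraMap_inj (F := F) (by rw [h, map_zero]))
    apply mul_left_cancel₀ h2
    rw [mul_zero]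
    linear_combination h1 - c0 - (θ ^ 2 * algebraMap k F a + θ * algebraMap k F a ^ 2) * hc
  obtain ⟨a, ha0, ha1⟩ : ∃ a : k, a ≠ 0 ∧ a ≠ 1 := by
    by_contra hcon
    push Not at hcon
    have h1 : Nat.card k ≤ 2 := by
      have hs : Function.Surjective (fun b : Bool => if b then (1 : k) else 0) := by
        intro a
        by_cases h : a = 0
        · exact ⟨false, by simp [h]⟩
        · exact ⟨true, by simp [hcon a h]⟩
      have := Nat.card_le_card_of_surjective _ hs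
      simpa using this
    have := D.four
    omega
  have q1 := quad 1 one_ne_zero
  have qa := quad a ha0
  rw [map_one] at q1
  have h5 : (1 + algebraMap k F a) * (θ + algebraMap k F (1 + a)) = 0 := by
    rw [map_add, map_one]
    linear_combination q1 + qa - (θ ^ 2) * hc + (algebraMap k F a) * hc
  rcases mul_eq_zero.1 h5 with h | h
  · apply ha1
    apply algebraMap_inj (F := F)
    rw [map_one]
    exact (eq_of_add_eq_zeroM k h).symm
  · exact hθ0 (1 + a) ⟨0, by rw [map_zero]; exact h.symm⟩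

theorem rho_linear {j : M ≃ₗ[k] M} (hj : j ∈ D.J) (b : F) : rho o j b = b * rho o j 1 := by
  obtain ⟨θ, hθ⟩ := D.exists_tr_one
  rw [rho_eq o hθ j b, sl_eq_zero o hθ hj, smul_zero, add_zero]

end Uni

end Cfsg.Agent.Omega.NOne.SU
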