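import Mathlib.Algebra.Module.TransferInstance
import Cfsg.Agent.Omega.NOne.SU.HermJ

/-!
# THEOREM UNI, section 5: the `F`-structure and the hermitian form

`IsF o` : the `F`-structure of `M = e + U + e'`.  `gf o` is the hermitian form, `f = tr g`.
-/

set_option autoImplicit false
set_option linter.unusedSectionVars false

namespace Cfsg.Agent.Omega.NOne.SU

open Quad

namespace Uni

variable {k F M Φ : Type*} [Field k] [Field F] [Algebra k F] [AddCommGroup M] [Module k M]
    [AddCommGroup Φ] [Module k Φ] [Module F Φ]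

/-- `k` acts on `Φ` through `F`. -/
theorem tower_Φ {D : Uni k F M Φ} (o : D.OppV) (a : k) (x : Φ) : algebraMap k F a • x = a • x := by
  obtain ⟨j, hj, rfl⟩ := D.Jall x
  have h1 := (D.JM j hj (a • o.v 1)).2
  have h2 := (D.JM j hj (o.v 1)).2
  rw [map_smul, ← smul_sub, map_smul, h2, o.Bv, one_smul, map_smul, o.Bv] at h1
  rw [h1, Algebra.algebraMap_eq_smul_one]

section

variable {D : Uni k F M Φ} [CharP k 2] [Finite k] [Finite F] (o : D.OppV)

/-- the `F`-structure of `M` (section 4) -/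
noncomputable abbrev modF : Module F M := AddEquiv.module F (co o).toAddEquiv

/-- the `F`-structure is the one of the coordinates -/
structure IsF [Module F M] : Prop where
  hε : ∀ (s c : F), s • D.ε c = D.ε (s * c)
  hu : ∀ (s : F) (x : Φ), s • uo o x = uo o (s • x)
  hv : ∀ (s b : F), s • o.v b = o.v (s * b)

theorem modF_smul (s : F) (m : M) : (modF o).smul s m = psi o (s • co o m) := rfl

theorem isF_modF : @IsF k F M Φ _ _ _ _ _ _ _ _ D _ _ _ o (modF o) := by
  let _ := modF o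
  refine ⟨fun s c => ?_, fun s x => ?_, fun s b => ?_⟩
  · change psi o (s • co o (D.ε c)) = _
    rw [co_ε, Prod.smul_mk, Prod.smul_mk, smul_zero, smul_zero, psi_apply, map_zero, map_zero,
      add_zero, add_zero, smul_eq_mul]
  · change psi o (s • co o (uo o x)) = _
    rw [co_u, Prod.smul_mk, Prod.smul_mk, smul_zero, psi_apply, map_zero, map_zero,
      add_zero, zero_add]
  · change psi o (s • co o (o.v b)) = _
    rw [co_v, Prod.smul_mk, Prod.smul_mk, smul_zero, smul_zero, psi_apply, map_zero, map_zero,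
      zero_add, zero_add, smul_eq_mul]

/-- the hermitian form -/
noncomputable def gf (m m' : M) : F :=
  (co o m).1 * D.sg (co o m').2.2 + (co o m).2.2 * D.sg (co o m').1
    + D.hm (co o m).2.1 (co o m').2.1

theorem f_eq_tr (m m' : M) : D.f m m' = D.tr (gf o m m') := by
  have h1 : ∀ (s : F) (x : Φ), D.f (uo o x) (o.v s) = 0 := fun s x => by rw [D.f_symm, vu]
  have h2 : ∀ (a : F) (x : Φ), D.f (uo o x) (D.ε a) = 0 := fun a x => by rw [D.f_symm, εu]
  have h3 : ∀ (a s : F), D.f (o.v s) (D.ε a) = D.tr (s * D.sg a) := fun a s => by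
    rw [D.f_symm, f_ε_v, ← D.tr_sgH, map_mul, D.sg_sg, mul_comm]
  conv_lhs => rw [eq_psi o m, eq_psi o m']
  simp only [map_add, LinearMap.add_apply, D.f_ε, f_ε_v, εu, uu, vu, o.vv, h1, h2, h3, gf]
  ring

theorem gf_sym (m m' : M) : gf o m' m = D.sg (gf o m m') := by
  rw [gf, gf, map_add, map_add, map_mul, map_mul, D.sg_sg, D.sg_sg, D.hm_sym (co o m).2.1]
  ring

theorem gf_add (m m' w : M) : gf o (m + m') w = gf o m w + gf o m' w := by
  rw [gf, gf, gf, map_add, Prod.fst_add, Prod.snd_add, Prod.fst_add, Prod.snd_add, D.hm_add]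
  ring

theorem gf_add_right (w m m' : M) : gf o w (m + m') = gf o w m + gf o w m' := by
  rw [gf_sym, gf_add, map_add, ← gf_sym, ← gf_sym]

theorem gf_zero_left (w : M) : gf o 0 w = 0 := by
  have := gf_add o 0 0 w
  rwa [add_zero, left_eq_add] at this

theorem gf_zero_right (w : M) : gf o w 0 = 0 := by
  rw [gf_sym, gf_zero_left, map_zero]

theorem gf_nondeg {m : M} (h : ∀ w, gf o m w = 0) : m = 0 :=
  D.nondeg m fun w => by rw [f_eq_tr o, h, map_zero]

theorem gf_ε (m : M) (c : F) : gf o m (D.ε c) = D.B m * D.sg c := by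
  rw [gf, co_ε, co_B]
  simp [D.hm_zero_right]

theorem gf_v (m : M) (b : F) : gf o m (o.v b) = (co o m).1 * D.sg b := by
  rw [gf, co_v]
  simp [D.hm_zero_right]

theorem gf_u (m : M) (x : Φ) : gf o m (uo o x) = D.hm (co o m).2.1 x := by
  rw [gf, co_u]
  simp

theorem gf_vv (b b' : F) : gf o (o.v b) (o.v b') = 0 := by
  rw [gf_v, co_v, zero_mul]

theorem gf_εε (b b' : F) : gf o (D.ε b) (D.ε b') = 0 := by
  rw [gf_ε, D.Bε, zero_mul]

theorem gf_P {m m' : M} (h : D.B m = 0) (h' : D.B m' = 0) :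
    gf o m m' = D.hm (D.y m) (D.y m') := by
  rw [gf, co_B, co_B, h, h', co_y o h, co_y o h', map_zero, mul_zero, zero_mul, zero_add, zero_add]

variable [Module F M]

namespace IsF

variable {o} (hF : IsF o)

include hF

theorem co_smul (s : F) (m : M) : co o (s • m) = s • co o m := by
  have h1 : s • m = psi o (s • co o m) := by
    have h2 : s • co o m = (s * (co o m).1, s • (co o m).2.1, s * (co o m).2.2) := rfl
    rw [h2, psi_apply]
    conv_lhs => rw [eq_psi o m, smul_add, smul_add, hF.hε, hF.hu, hF.hv]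
  rw [h1, co_psi]

theorem B_smul (s : F) (m : M) : D.B (s • m) = s * D.B m := by
  rw [← co_B o, hF.co_smul, ← co_B o]; rfl

theorem y_smul (s : F) {m : M} (h : D.B m = 0) : D.y (s • m) = s • D.y m := by
  rw [← co_y o h, ← co_y o (by rw [hF.B_smul, h, mul_zero]), hF.co_smul]; rfl

theorem gf_smul (s : F) (m w : M) : gf o (s • m) w = s * gf o m w := by
  rw [gf, gf, hF.co_smul, Prod.smul_fst, Prod.smul_snd, Prod.smul_fst, Prod.smul_snd, D.hm_smul,
    smul_eq_mul, smul_eq_mul]
  ring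

theorem gf_smul_right (s : F) (m w : M) : gf o m (s • w) = D.sg s * gf o m w := by
  rw [gf_sym, hF.gf_smul, map_mul, ← gf_sym]

theorem tower (a : k) (m : M) : algebraMap k F a • m = a • m := by
  rw [eq_psi o m, smul_add, smul_add, hF.hε, hF.hu, hF.hv, smul_add, smul_add, ← map_smul,
    ← map_smul, ← map_smul, tower_Φ o, Algebra.smul_def, Algebra.smul_def]

/-- the sesquilinear form with `f = tr g` is unique -/
theorem unique {g1 g2 : M → M → F} (h1 : ∀ s m w, g1 (s • m) w = s * g1 m w)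
    (h2 : ∀ s m w, g2 (s • m) w = s * g2 m w) (h : ∀ m w, D.tr (g1 m w) = D.tr (g2 m w))
    (m w : M) : g1 m w = g2 m w := by
  rw [← sub_eq_zero]
  apply D.tr_nondegH
  intro s
  rw [sub_mul, map_sub, mul_comm, ← h1, mul_comm, ← h2, h, sub_self]

/-- `F`-linear isometries of `f` preserve `g`. -/
theorem isom {ζ : M → M} (h1 : ∀ (s : F) m, ζ (s • m) = s • ζ m)
    (h2 : ∀ m m', D.f (ζ m) (ζ m') = D.f m m') (m m' : M) :
    gf o (ζ m) (ζ m') = gf o m m' := by
  refine hF.unique (g1 := fun m m' => gf o (ζ m) (ζ m')) (g2 := gf o) (fun s m w => ?_)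
    (fun s m w => hF.gf_smul s m w) (fun m w => ?_) m m'
  · rw [h1, hF.gf_smul]
  · rw [← f_eq_tr, h2, f_eq_tr o]

theorem ext_smul {φ : M ≃ₗ[k] M} (h1 : ∀ s a : F, φ (s • D.ε a) = s • φ (D.ε a))
    (h2 : ∀ (s : F) x, φ (s • uo o x) = s • φ (uo o x))
    (h3 : ∀ s b : F, φ (s • o.v b) = s • φ (o.v b)) (s : F) (m : M) : φ (s • m) = s • φ m := by
  rw [eq_psi o m, smul_add, smul_add, map_add, map_add, map_add, map_add, smul_add, smul_add,
    h1, h2, h3]

/-- **`J` is `F`-linear.** -/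
theorem J_smul {j : M ≃ₗ[k] M} (hj : j ∈ D.J) (s : F) (m : M) : j (s • m) = s • j m := by
  refine hF.ext_smul (fun s a => ?_) (fun s x => ?_) (fun s b => ?_) s m
  · rw [hF.hε, D.Je j hj, D.Je j hj, hF.hε]
  · rw [hF.hu, J_u o hj, J_u o hj, smul_add, hF.hu, hF.hε, D.hm_smul]
  · rw [hF.hv, J_v o hj, J_v o hj, smul_add, smul_add, hF.hε, hF.hu, hF.hv, rho_linear o hj b,
      rho_linear o hj (s * b), mul_assoc, smul_smul]

/-- the torus is `F`-linear. -/
theorem t_smul (z : Fˣ) (s : F) (m : M) : D.t z (s • m) = s • D.t z m := by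
  refine hF.ext_smul (fun s a => ?_) (fun s x => ?_) (fun s b => ?_) s m
  · rw [hF.hε, D.te, D.te, hF.hε]
    congr 1
    ring
  · rw [hF.hu, t_u, t_u, hF.hu, smul_smul, smul_smul, mul_comm]
  · rw [hF.hv, o.tv, o.tv, hF.hv]
    congr 1
    ring

theorem t_gf (z : Fˣ) (m m' : M) :
    gf o (D.t z m) (D.t z m') = algebraMap k F (D.nm z) * gf o m m' := by
  refine hF.unique (g1 := fun m m' => gf o (D.t z m) (D.t z m'))
    (g2 := fun m m' => algebraMap k F (D.nm z) * gf o m m') (fun s m w => ?_)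
    (fun s m w => ?_) (fun m w => ?_) m m'
  · rw [hF.t_smul, hF.gf_smul]
  · rw [hF.gf_smul]
    ring
  · rw [← f_eq_tr, D.tf, ← Algebra.smul_def, map_smul, smul_eq_mul, f_eq_tr o]

end IsF

end

end Uni

end Cfsg.Agent.Omega.NOne.SU
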