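import Cfsg.Agent.Omega.NOne.SU.Defs

/-!
# Elementary facts on the quadratic extension `k ⊆ F` (characteristic 2)
-/

set_option autoImplicit false

namespace Cfsg.Agent.Omega.NOne.SU

namespace Quad

variable {k F : Type*} [Field k] [Field F] [Algebra k F] (Q : Quad k F)

theorem charF (k F : Type*) [Field k] [Field F] [Algebra k F] [CharP k 2] : CharP F 2 :=
  charP_of_injective_algebraMap (algebraMap k F).injective 2

theorem add_selfF (k : Type*) {F : Type*} [Field k] [Field F] [Algebra k F] [CharP k 2] (x : F) :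
    x + x = 0 := by
  have := charF k F
  exact CharTwo.add_self_eq_zero x

theorem add_selfM (k : Type*) {M : Type*} [Field k] [AddCommGroup M] [Module k M] [CharP k 2]
    (x : M) : x + x = 0 := by
  have h : ((1 : k) + 1) • x = 0 := by
    rw [CharTwo.add_self_eq_zero, zero_smul]
  rwa [add_smul, one_smul] at h

theorem neg_eqM (k : Type*) {M : Type*} [Field k] [AddCommGroup M] [Module k M] [CharP k 2]
    (x : M) : -x = x := by
  rw [neg_eq_iff_add_eq_zero]
  exact add_selfM k x

theorem sub_eqM (k : Type*) {M : Type*} [Field k] [AddCommGroup M] [Module k M] [CharP k 2]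
    (x y : M) : x - y = x + y := by
  rw [sub_eq_add_neg, neg_eqM k]

theorem eq_of_add_eq_zeroM (k : Type*) {M : Type*} [Field k] [AddCommGroup M] [Module k M]
    [CharP k 2] {x y : M} (h : x + y = 0) : x = y := by
  rw [← sub_eqM k] at h
  exact sub_eq_zero.1 h

include Q in
theorem exists_sg_ne [Finite k] : ∃ s, Q.sg s ≠ s := by
  by_contra hcon
  push Not at hcon
  have hs : Function.Surjective (algebraMap k F) := fun x => Q.fix x (hcon x)
  have h1 : Nat.card F ≤ Nat.card k := Nat.card_le_card_of_surjective _ hs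
  have h2 := Q.card
  have h3 := Q.four
  nlinarith

theorem algebraMap_inj {a b : k} (h : algebraMap k F a = algebraMap k F b) : a = b :=
  (algebraMap k F).injective h

theorem tr_sgH (x : F) : Q.tr (Q.sg x) = Q.tr x := by
  apply algebraMap_inj (F := F)
  rw [Q.tr_eq, Q.tr_eq, Q.sg_sg, add_comm]

theorem nm_sg (x : F) : Q.nm (Q.sg x) = Q.nm x := by
  apply algebraMap_inj (F := F)
  rw [Q.nm_eq, Q.nm_eq, Q.sg_sg, mul_comm]

theorem sg_algebraMap (a : k) : Q.sg (algebraMap k F a) = algebraMap k F a := Q.sg.commutes a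

theorem sg_smul (a : k) (x : F) : Q.sg (a • x) = a • Q.sg x := map_smul Q.sg a x

variable [CharP k 2]

theorem exists_of_tr_eq_zero {x : F} (h : Q.tr x = 0) : ∃ a : k, algebraMap k F a = x := by
  apply Q.fix
  have h1 := Q.tr_eq x
  rw [h, map_zero] at h1
  have := charF k F
  exact (CharTwo.add_eq_zero.1 h1.symm).symm

theorem tr_algebraMap (a : k) : Q.tr (algebraMap k F a) = 0 := by
  apply algebraMap_inj (F := F)
  rw [Q.tr_eq, Q.sg_algebraMap, map_zero, add_selfF k]

theorem exists_tr_one [Finite k] : ∃ θ : F, Q.tr θ = 1 := by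
  obtain ⟨s, hs⟩ := Q.exists_sg_ne
  have h1 : Q.tr s ≠ 0 := by
    intro h
    obtain ⟨a, ha⟩ := Q.exists_of_tr_eq_zero h
    exact hs (by rw [← ha, Q.sg_algebraMap])
  exact ⟨(Q.tr s)⁻¹ • s, by rw [map_smul, smul_eq_mul, inv_mul_cancel₀ h1]⟩

theorem tr_nondegH [Finite k] {c : F} (h : ∀ s, Q.tr (c * s) = 0) : c = 0 := by
  by_contra hc
  obtain ⟨θ, hθ⟩ := Q.exists_tr_one
  have := h (c⁻¹ * θ)
  rw [mul_inv_cancel_left₀ hc, hθ] at this
  exact one_ne_zero this

theorem tr_nondegH' [Finite k] {c : F} (h : ∀ s, Q.tr (c * Q.sg s) = 0) : c = 0 :=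
  Q.tr_nondegH fun s => by
    have := h (Q.sg s)
    rwa [Q.sg_sg] at this

/-- `F = k + k θ` -/
theorem exists_decomp {θ : F} (hθ : Q.tr θ = 1) (b : F) :
    ∃ a : k, b = algebraMap k F a + Q.tr b • θ := by
  have h : Q.tr (b - Q.tr b • θ) = 0 := by
    rw [map_sub, map_smul, hθ, smul_eq_mul, mul_one, sub_self]
  obtain ⟨a, ha⟩ := Q.exists_of_tr_eq_zero h
  exact ⟨a, by rw [ha, sub_add_cancel]⟩

/-- a `k`-linear functional on `F` is `s ↦ tr (c * sg s)`. -/
theorem exists_rep [Finite k] [Finite F] (l : F →ₗ[k] k) : ∃ c : F, ∀ s, l s = Q.tr (c * Q.sg s) := by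
  let T : F →ₗ[k] (F →ₗ[k] k) :=
    { toFun := fun c => { toFun := fun s => Q.tr (c * Q.sg s)
                          map_add' := fun s s' => by rw [map_add, mul_add, map_add]
                          map_smul' := fun a s => by
                            rw [map_smul, mul_smul_comm, map_smul]; rfl }
      map_add' := fun c c' => by
        ext s
        change Q.tr ((c + c') * Q.sg s) = Q.tr (c * Q.sg s) + Q.tr (c' * Q.sg s)
        rw [add_mul, map_add]
      map_smul' := fun a c => by
        ext s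
        change Q.tr ((a • c) * Q.sg s) = a • Q.tr (c * Q.sg s)
        rw [smul_mul_assoc, map_smul] }
  have hT : Function.Injective T := by
    rw [injective_iff_map_eq_zero]
    intro c hc
    exact Q.tr_nondegH' fun s => LinearMap.congr_fun hc s
  have hfin : Module.Finite k F := Module.Finite.of_finite
  have hs : Function.Surjective T := by
    rw [← LinearMap.injective_iff_surjective_of_finrank_eq_finrank]
    · exact hT
    · exact (Subspace.dual_finrank_eq (K := k) (V := F)).symm
  obtain ⟨c, hc⟩ := hs l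
  exact ⟨c, fun s => (LinearMap.congr_fun hc s).symm⟩

/-- the identity which kills the semilinear part (step 4) -/
theorem four_identity (k : Type*) {F : Type*} [Field k] [Field F] [Algebra k F] [CharP k 2]
    {z w : F} (hz : z ≠ 0) (hz1 : 1 + z ≠ 0)
    (h : (1 + z)⁻¹ * (1 + w) ^ 3 = 1 + z⁻¹ * w ^ 3) : (z + w) * (z + w ^ 2) = 0 := by
  have h1 : z * (1 + w) ^ 3 = (1 + z) * (z + w ^ 3) := by
    have h2 : z * ((1 + z) * ((1 + z)⁻¹ * (1 + w) ^ 3)) = z * ((1 + z) * (1 + z⁻¹ * w ^ 3)) := by
      rw [h]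
    rw [mul_inv_cancel_left₀ hz1] at h2
    rw [h2]
    field_simp
  have hc := charF k F
  have h3 : (2 : F) = 0 := CharTwo.two_eq_zero
  linear_combination (-1 : F) * h1 + (2 * (z * w) + 2 * (z * w ^ 2)) * h3

end Quad

end Cfsg.Agent.Omega.NOne.SU
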