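import Cfsg.Agent.Omega.NOne.SU.Grp3
import Cfsg.Agent.Omega.NOne.SU.GrpSe

/-!
# THEOREM UNI, group part: the field `Uni.Se`
-/

set_option autoImplicit false

open Subgroup

namespace Cfsg.Agent.Omega.NOne.SU

variable {G : Type*} [Group G] {k F : Type*} [Field k] [Field F] [Algebra k F]

namespace GIn

variable {T : Quad k F} {S : Sylow 2 G} {V R Q Q' : Subgroup G} {v : k → F → k → G} {p p' : G → F}

/-- **the field `Se` of `Uni`** -/
theorem SeH [Finite G] (h : GIn T S V R Q Q' v p p') (sc : Scal h.sp.form) :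
    ∀ g ∈ h.H sc, ∀ g' ∈ h.H sc, g * g' = g' * g → g * g = 1 → g' * g' = 1 →
      (∀ c, ∃ c', g (h.epM sc c) = h.epM sc c') → (∀ c, ∃ c', g' (h.epM sc c) = h.epM sc c') →
      (∀ c, g (h.epM sc c) = h.epM sc c) ∨ (∀ c, g' (h.epM sc c) = h.epM sc c) ∨
        (∀ c, g (g' (h.epM sc c)) = h.epM sc c) := by
  rintro g ⟨c, hc⟩ g' ⟨c', hc'⟩ hgg h1 h2 he he'
  have e := hc.ext (ind_linC c hc.1)
  have e' := hc'.ext (ind_linC c' hc'.1)
  have f : ∀ w, g w = h.cj c w := fun w => by rw [e]; rfl
  have f' : ∀ w, g' w = h.cj c' w := fun w => by rw [e']; rfl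
  have key := h.Se_cj hc.1 hc'.1
    (fun w => by
      have := congrArg (fun l : h.M sc ≃ₗ[k] h.M sc => l w) hgg
      have e3 : g (g' w) = g' (g w) := this
      rw [f (g' w), f' w, f' (g w), f w] at e3
      exact e3)
    (fun w => by
      have := congrArg (fun l : h.M sc ≃ₗ[k] h.M sc => l w) h1
      have e3 : g (g w) = w := this
      rw [f (g w), f w] at e3
      exact e3)
    (fun w => by
      have := congrArg (fun l : h.M sc ≃ₗ[k] h.M sc => l w) h2
      have e3 : g' (g' w) = w := this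
      rw [f' (g' w), f' w] at e3
      exact e3)
    (fun b => by
      obtain ⟨b', hb⟩ := he b
      rw [f] at hb
      exact ⟨b', hb⟩)
    (fun b => by
      obtain ⟨b', hb⟩ := he' b
      rw [f'] at hb
      exact ⟨b', hb⟩)
  rcases key with key | key | key
  · refine Or.inl (fun b => ?_)
    rw [f]; exact key b
  · refine Or.inr (Or.inl (fun b => ?_))
    rw [f']; exact key b
  · refine Or.inr (Or.inr (fun b => ?_))
    rw [f, f']; exact key b

end GIn

end Cfsg.Agent.Omega.NOne.SU
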