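import Cfsg.Agent.Omega.NOne.SU.Grp6
import Cfsg.Agent.Omega.NOne.SU.GrpJ
import Cfsg.Agent.Omega.NOne.SU.GrpT
import Cfsg.Agent.Omega.NOne.SU.SeField

/-!
# THEOREM UNI, group part: `GIn → Fld → Uni`

`GIn.uni` : the structure `Uni k F (h.M sc) Φ` of the group data.  All its fields are the explicit maps of
the group part (`fM`, `H`, `hmΦ`, `epM`, `BM`, `yM`, `JJ`, `χM`, `tM`).
-/

set_option autoImplicit false
set_option linter.unusedSectionVars false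

open Subgroup

namespace Cfsg.Agent.Omega.NOne.SU

variable {G : Type*} [Group G] {k F : Type*} [Field k] [Field F] [Algebra k F]

namespace GIn

variable {T : Quad k F} {S : Sylow 2 G} {V R Q Q' : Subgroup G} {v : k → F → k → G} {p p' : G → F}
variable (h : GIn T S V R Q Q' v p p') (sc : Scal h.sp.form)

variable {Φ : Type*} [AddCommGroup Φ] [Module F Φ] {φ χ : G → Φ} (f : Fld T V R Q Q' v p φ χ)
  [Module k Φ] [IsScalarTower k F Φ]

/-- the map `y` -/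
noncomputable def yM : h.M sc →ₗ[k] Φ := (h.exists_y sc f).choose

theorem yM_φ : ∀ x ∈ Q, x ∈ centralizer (V : Set G) → h.yM sc f (h.prM sc x) = φ x :=
  (h.exists_y sc f).choose_spec

theorem yM_ep (c : F) : h.yM sc f (h.epM sc c) = 0 := by
  rw [← h.prM_E sc 0 c, h.yM_φ sc f _ (h.E_le _ _) (h.E_CV _ _), h.φ_E f]

theorem yM_ker (m : h.M sc) (hm : h.BM sc m = 0) : h.yM sc f m = 0 ↔ ∃ c, m = h.epM sc c :=
  h.y_ker_of sc f (h.yM_φ sc f) m hm

/-- the torus -/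
noncomputable def tM [Finite G] : Fˣ →* (h.M sc ≃ₗ[k] h.M sc) :=
  (h.exists_tM sc f (h.yM sc f) (h.yM_φ sc f) fun m hm => (h.yM_ker sc f m hm).1).choose

theorem tM_wt [Finite G] : ∀ z : Fˣ, TorusHom.Wt T (h.fM sc) (h.H sc) (h.epM sc) (h.BM sc) (h.yM sc f)
    (h.tM sc f z) (z : F) :=
  (h.exists_tM sc f (h.yM sc f) (h.yM_φ sc f) fun m hm => (h.yM_ker sc f m hm).1).choose_spec

/-- a vector with `B m₀ = 1` -/
noncomputable def m0 : h.M sc := (h.BM_surj sc 1).choose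

theorem BM_m0 : h.BM sc (h.m0 sc) = 1 := (h.BM_surj sc 1).choose_spec

/-- the map `χ` -/
noncomputable def χM (g : h.M sc ≃ₗ[k] h.M sc) : Φ := h.yM sc f (g (h.m0 sc) - h.m0 sc)

/-! ### the action of `n ∈ C_{Q'}(V)` and of `V` -/

theorem lin_of (c : G) (hc : c ∈ centralizer (R : Set G)) {x : G} (hx : x ∈ Q) :
    h.linC sc c hc (h.prM sc x) - h.prM sc x = h.prM sc (c * x * c⁻¹ * x⁻¹) := by
  rw [h.prM_comm sc hc hx, add_sub_cancel_left]

theorem linV (a : k) (b : F) (d : k) (m : h.M sc) :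
    h.linC sc (v a b d) (h.CV_le_CR (h.V_le_CV (h.v_mem a b d))) m = m + h.epM sc (d • h.BM sc m) := by
  rw [Algebra.smul_def, mul_comm]
  exact h.cj_V a b d m

theorem linN_ep {n : G} (hnV : n ∈ centralizer (V : Set G)) (c : F) :
    h.linC sc n (h.CV_le_CR hnV) (h.epM sc c) = h.epM sc c := by
  rw [← h.prM_E sc 0 c, (ind_linC (sc := sc) n _).2 _ (h.E_le _ _)]
  congr 1
  rw [← (mem_centralizer_iff.1 hnV) _ (h.v_mem _ _ _), mul_inv_cancel_right]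

theorem linN_B {n : G} (hnV : n ∈ centralizer (V : Set G)) (m : h.M sc) :
    h.BM sc (h.linC sc n (h.CV_le_CR hnV) m - m) = 0 := by
  obtain ⟨x, hx, rfl⟩ := h.prM_surj sc m
  have h1 := h.comm_CV hnV hx
  rw [h.lin_of sc n _ hx, h.BM_eq_zero sc h1.1]
  exact h1.2

theorem linN_P {n : G} (hn : n ∈ Q') (hnV : n ∈ centralizer (V : Set G)) (m : h.M sc) (hm : h.BM sc m = 0) :
    h.linC sc n (h.CV_le_CR hnV) m = m + h.epM sc (h.hmΦ sc f (h.yM sc f m) (χ n)) := by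
  obtain ⟨x, hx, rfl⟩ := h.prM_surj sc m
  have hxV := (h.BM_eq_zero sc hx).1 hm
  rw [h.prM_comm sc _ hx, h.JP_n sc f hn hnV hx hxV, h.prM_E, h.yM_φ sc f x hx hxV]

theorem linN_y {n : G} (hn : n ∈ Q') (hnV : n ∈ centralizer (V : Set G)) (m : h.M sc) :
    h.yM sc f (h.linC sc n (h.CV_le_CR hnV) m - m) = h.BM sc m • χ n := by
  obtain ⟨x, hx, rfl⟩ := h.prM_surj sc m
  have h1 := h.comm_CV hnV hx
  rw [h.lin_of sc n _ hx, h.yM_φ sc f _ h1.1 h1.2, f.bil x hx n hn hnV, h.BM_pr sc hx]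

include f in
/-- **the elements of `J`** are the products `v n` -/
theorem JJ_form [Finite G] {g : h.M sc ≃ₗ[k] h.M sc} (hg : g ∈ h.JJ sc) :
    ∃ n, n ∈ Q' ∧ ∃ hnV : n ∈ centralizer (V : Set G), ∃ d : k,
      ∀ m, g m = h.linC sc n (h.CV_le_CR hnV) m + h.epM sc (d • h.BM sc m) := by
  obtain ⟨c, hc, hind⟩ := JJ_CV hg
  have hcR := h.CV_le_CR hc
  have hge : g = h.linC sc c hcR := hind.ext (ind_linC c hcR)
  have hB : ∀ x ∈ Q, x ∈ centralizer (V : Set G) → ∃ a b, c * x * c⁻¹ * x⁻¹ = v a b 0 := by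
    intro x hx hxV
    have h1 := h.comm_CV hc hx
    have h2 := hg.2.2.1 (h.prM sc x) ((h.BM_eq_zero sc hx).2 hxV)
    rw [hge, h.lin_of sc c _ hx, ← h.y_ker_of sc f (h.yM_φ sc f) _ ((h.BM_eq_zero sc h1.1).2 h1.2),
      h.yM_φ sc f _ h1.1 h1.2, f.φ_ker _ h1.1 h1.2] at h2
    exact h2
  obtain ⟨n, hn, hnV, d, hq⟩ := h.cstep sc f hc hB
  refine ⟨n, hn, hnV, d, fun m => ?_⟩
  have hnR := h.CV_le_CR hnV
  have hvR : v 0 0 d ∈ centralizer (R : Set G) := h.CV_le_CR (h.V_le_CV (h.v_mem 0 0 d))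
  -- `c = q v n`
  have e : c = (c * n⁻¹ * v 0 0 d) * (v 0 0 d * n) := by
    have h1 := h.v_sq 0 0 d
    calc c = c * n⁻¹ * (v 0 0 d * v 0 0 d) * n := by rw [h1]; group
      _ = _ := by group
  have h1 : g m = h.cj c m := by rw [hge]; rfl
  have h2 : ∀ w : h.sp.W, h.cj c w = h.cj (v 0 0 d) (h.cj n w) := by
    intro w
    conv_lhs => rw [e]
    rw [h.cj_mul (h.CR_le_NR (h.Q_le_CR hq)) (h.CR_le_NR (mul_mem hvR hnR)), h.cj_of_mem_Q hq,
      h.cj_mul (h.CR_le_NR hvR) (h.CR_le_NR hnR)]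
  have h3 := h.linV sc 0 0 d (h.linC sc n hnR m)
  have h4 : h.BM sc (h.linC sc n hnR m) = h.BM sc m := by
    have h5 := h.linN_B sc hnV m
    rw [map_sub, sub_eq_zero] at h5
    exact h5
  rw [h4] at h3
  rw [h1]
  exact (h2 m).trans h3

theorem χM_of [Finite G] {g : h.M sc ≃ₗ[k] h.M sc} {n : G} (hn : n ∈ Q') (hnV : n ∈ centralizer (V : Set G))
    {d : k} (hg : ∀ m, g m = h.linC sc n (h.CV_le_CR hnV) m + h.epM sc (d • h.BM sc m)) :
    h.χM sc f g = χ n := by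
  unfold χM
  rw [hg, add_sub_right_comm, map_add, h.linN_y sc f hn hnV, h.yM_ep, add_zero, h.BM_m0, one_smul]

include f in
/-- `n ∈ C_{Q'}(V)` acts as an element of `J` -/
theorem linN_J [Finite G] {n : G} (hn : n ∈ Q') (hnV : n ∈ centralizer (V : Set G)) :
    h.linC sc n (h.CV_le_CR hnV) ∈ h.JJ sc :=
  ⟨(ind_linC _ _).mem, h.linN_ep sc hnV, fun m hm => ⟨h.hmΦ sc f (h.yM sc f m) (χ n), by
    rw [h.linN_P sc f hn hnV m hm, add_sub_cancel_left]⟩, h.linN_B sc hnV⟩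

/-- `V` acts as a subgroup of `J` -/
theorem linV_J [Finite G] (a : k) (b : F) (d : k) :
    h.linC sc (v a b d) (h.CV_le_CR (h.V_le_CV (h.v_mem a b d))) ∈ h.JJ sc := by
  refine ⟨(ind_linC _ _).mem, fun c => ?_, fun m hm => ⟨0, ?_⟩, fun m => ?_⟩
  · rw [h.linV, ← h.prM_E sc 0 c, h.BM_pr sc (h.E_le _ _), h.p_E, smul_zero, map_zero, add_zero]
  · rw [h.linV, hm, smul_zero, map_zero, add_zero, sub_self]
  · rw [h.linV, add_sub_cancel_left, ← h.prM_E sc 0, h.BM_pr sc (h.E_le _ _), h.p_E]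

/-- **THEOREM UNI, group part**: the structure `Uni` of the group data -/
noncomputable def uni [Finite G] : Uni k F (h.M sc) Φ where
  toQuad := T
  f := h.fM sc
  alt := h.fM_alt sc
  nondeg := h.fM_nondeg sc
  H := h.H sc
  isom := fun _ hg => isom hg
  hm := h.hmΦ sc f
  hm_add := h.hmΦ_add sc f
  hm_smul := h.hmΦ_smul sc f
  hm_sym := h.hmΦ_sym sc f
  hm_nondeg := h.hmΦ_nondeg sc f
  ε := h.epM sc
  ε_inj := h.epM_inj sc
  B := h.BM sc
  fe := h.fM_ep sc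
  y := h.yM sc f
  y_surj := h.y_surj_of sc f (h.yM_φ sc f)
  y_ker := h.yM_ker sc f
  fy := h.fy_of sc f (h.yM_φ sc f)
  J := h.JJ sc
  J_le := fun _ hg => hg.1
  χ := h.χM sc f
  Je := fun _ hg => hg.2.1
  JP := by
    intro j hj m hm
    obtain ⟨n, hn, hnV, d, hg⟩ := h.JJ_form sc f hj
    rw [h.χM_of sc f hn hnV hg, hg, hm, smul_zero, map_zero, add_zero, h.linN_P sc f hn hnV m hm]
  JM := by
    intro j hj m
    obtain ⟨n, hn, hnV, d, hg⟩ := h.JJ_form sc f hj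
    refine ⟨hj.2.2.2 m, ?_⟩
    rw [h.χM_of sc f hn hnV hg, hg, add_sub_right_comm, map_add, h.linN_y sc f hn hnV, h.yM_ep, add_zero]
  JA := by
    intro j hj hχ
    obtain ⟨n, hn, hnV, d, hg⟩ := h.JJ_form sc f hj
    rw [h.χM_of sc f hn hnV hg] at hχ
    obtain ⟨b, d', rfl⟩ := f.χ_ker n hn hnV hχ
    refine ⟨d' + d, fun m => ?_⟩
    have h1 := h.linV sc 0 b d' m
    rw [hg, h1, add_assoc, ← map_add, ← add_smul]
  Jall := by
    intro x
    obtain ⟨n, hn, hnV, rfl⟩ := f.χ_surj x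
    refine ⟨_, h.linN_J sc f hn hnV, ?_⟩
    apply h.χM_of sc f hn hnV (d := 0)
    intro m
    rw [zero_smul, map_zero, add_zero]
  Jn := fun a => ⟨_, h.linV_J sc 0 0 a, h.linV sc 0 0 a⟩
  Jmax := fun g hg h1 h2 h3 => ⟨hg, h1, h2, h3⟩
  Se := h.SeH sc
  t := h.tM sc f
  tH := fun z => (h.tM_wt sc f z).wH
  te := fun z => (h.tM_wt sc f z).we
  tB := fun z => (h.tM_wt sc f z).wB
  ty := fun z => (h.tM_wt sc f z).wy
  tf := fun z => (h.tM_wt sc f z).wf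
  Om := h.OmH sc f

end GIn

end Cfsg.Agent.Omega.NOne.SU
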