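import Cfsg.Agent.Omega.NOne.SU.OutBasic
import Cfsg.Agent.RankTwoClose.SLTwo

/-!
# The action of `X = ⟨Q, Q'⟩` on `V`

* `ActV T v x A` : `x` acts on `V` (hermitian matrices) as `M ↦ A M A^*`;
* `GIn.pi : X →* SL(2, F)`, surjective (`Ext`), with kernel `C_X(V)`.
-/

set_option autoImplicit false
set_option linter.unusedSectionVars false

open Subgroup

namespace Cfsg.Agent.RankTwoClose.SLTwo

/-- `SL(2, F)` is generated by the two unitriangular groups. -/
theorem eq_top_of_up_dn {F : Type*} [Field F] (K : Subgroup (SL F)) (h1 : ∀ b, up b ∈ K)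
    (h2 : ∀ b, dn b ∈ K) : K = ⊤ := by
  rw [eq_top_iff]
  have key : ∀ g : SL F, g.1 1 0 ≠ 0 → g ∈ K := by
    intro g hg
    rw [bruhat hg]
    exact mul_mem (mul_mem (h1 _) (h2 _)) (h1 _)
  intro g _
  by_cases hg : g.1 1 0 = 0
  · have h3 : (dn 1 * g).1 1 0 ≠ 0 := by
      rw [mul_10, dn_10, dn_11, hg, one_mul, one_mul, add_zero]
      intro h0
      have := det_eq g
      rw [hg, h0] at this
      simp at this
    have h4 := key _ h3
    have h5 : g = (dn 1)⁻¹ * (dn 1 * g) := by group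
    rw [h5]
    exact mul_mem (inv_mem (h2 1)) h4
  · exact key g hg

end Cfsg.Agent.RankTwoClose.SLTwo

namespace Cfsg.Agent.Omega.NOne.SU

open RankTwoClose.SLTwo

variable {G : Type*} [Group G] {k F : Type*} [Field k] [Field F] [Algebra k F]

/-- the hermitian matrix with coordinates `a, b, d` -/
def hM (T : Quad k F) (a : k) (b : F) (d : k) : Matrix (Fin 2) (Fin 2) F :=
  !![algebraMap k F a, b; T.sg b, algebraMap k F d]

/-- `x` acts on `V` as `M ↦ A M A^*`. -/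
def ActV (T : Quad k F) (v : k → F → k → G) (x : G) (A : SL F) : Prop :=
  ∀ a b d a' b' d', x * v a b d * x⁻¹ = v a' b' d' →
    hM T a' b' d' = A.1 * hM T a b d * (A.1.transpose.map T.sg)

theorem hM_inj (T : Quad k F) {a : k} {b : F} {d a' : k} {b' : F} {d' : k}
    (h : hM T a b d = hM T a' b' d') : a = a' ∧ b = b' ∧ d = d' := by
  have h00 := congrFun (congrFun h 0) 0
  have h01 := congrFun (congrFun h 0) 1
  have h11 := congrFun (congrFun h 1) 1
  exact ⟨T.alg_inj h00, h01, T.alg_inj h11⟩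

theorem star_mul (T : Quad k F) (A B : Matrix (Fin 2) (Fin 2) F) :
    (A * B).transpose.map T.sg = B.transpose.map T.sg * A.transpose.map T.sg := by
  rw [Matrix.transpose_mul, Matrix.map_mul]

/-- the matrix of an element is unique -/
theorem eq_one_of_act [CharP k 2] (T : Quad k F) (A : SL F)
    (h : ∀ a b d, hM T a b d = A.1 * hM T a b d * (A.1.transpose.map T.sg)) : A = 1 := by
  have hd := det_eq A
  have e1 := h 1 0 0
  have e2 := h 0 1 0
  have h11 := congrFun (congrFun e1 1) 1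
  have h00 := congrFun (congrFun e1 0) 0
  have k01 := congrFun (congrFun e2 0) 1
  have e3 := h 0 0 1
  have m00 := congrFun (congrFun e3 0) 0
  simp [hM, Matrix.mul_apply, Fin.sum_univ_two] at h11 h00 k01 m00
  have hsg : ∀ x : F, T.sg x = 0 → x = 0 := fun x hx => by simpa using hx
  have c10 : A.1 1 0 = 0 := h11
  have c01 : A.1 0 1 = 0 := m00
  rw [c10, c01, mul_zero, sub_zero] at hd
  rw [c10, c01] at k01
  have hn : A.1 0 0 * T.sg (A.1 0 0) = 1 := h00.symm
  have k01' : A.1 0 0 * T.sg (A.1 1 1) = 1 := by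
    simpa using k01.symm
  have h1 : A.1 0 0 ≠ 0 := fun h0 => by rw [h0, zero_mul] at hn; exact zero_ne_one hn
  have h2 : T.sg (A.1 1 1) = T.sg (A.1 0 0) := mul_left_cancel₀ h1 (k01'.trans hn.symm)
  have h3 : A.1 1 1 = A.1 0 0 := T.sg.injective h2
  rw [h3] at hd
  have h4 : A.1 0 0 = 1 := by
    have h5 : (A.1 0 0 - 1) * (A.1 0 0 - 1) = 0 := by
      have := T.two_F (A.1 0 0)
      have h6 := T.two_F (1 : F)
      linear_combination hd - this + h6
    exact sub_eq_zero.1 (mul_self_eq_zero.1 h5)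
  rw [ext_iff']
  exact ⟨h4, c01, c10, h3.trans h4⟩

namespace GIn

variable {T : Quad k F} {S : Sylow 2 G} {V R Q Q' : Subgroup G} {v : k → F → k → G} {p p' : G → F}
  (I : GIn T S V R Q Q' v p p')
include I

theorem Q'_NV : Q' ≤ normalizer (V : Set G) := by
  have key : ∀ y ∈ Q', ∀ x ∈ V, y * x * y⁻¹ ∈ V := by
    intro y hy x hx
    obtain ⟨a, b, d, rfl⟩ := I.v_surj x hx
    rw [I.act' y hy]
    exact I.v_mem _ _ _
  intro y hy
  rw [mem_normalizer_iff]
  intro x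
  refine ⟨key y hy x, fun h => ?_⟩
  have := key y⁻¹ (inv_mem hy) _ h
  simpa [mul_assoc] using this

theorem X_NV : Q ⊔ Q' ≤ normalizer (V : Set G) := sup_le I.Q_NV I.Q'_NV

theorem V_X : V ≤ Q ⊔ Q' := by
  intro x hx
  obtain ⟨a, b, d, rfl⟩ := I.v_surj x hx
  have h1 : v a b d = v a b 0 * v 0 0 d := by
    rw [I.v_mul, add_zero, add_zero, zero_add]
  rw [h1]
  exact mul_mem (mem_sup_left (I.E_le a b)) (mem_sup_right (I.E'_le 0 d))

variable [CharP k 2]

theorem actV_one : ActV T v (1 : G) 1 := by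
  intro a b d a' b' d' h
  have h1 : v a b d = v a' b' d' := by simpa using h
  obtain ⟨rfl, rfl, rfl⟩ := I.v_ext h1
  have : ((1 : SL F).1).transpose.map T.sg = 1 := by
    rw [Matrix.SpecialLinearGroup.coe_one, Matrix.transpose_one, Matrix.map_one _ (map_zero _) (map_one _)]
  rw [this, Matrix.mul_one, Matrix.SpecialLinearGroup.coe_one, Matrix.one_mul]

theorem actV_mul {x y : G} (hy : y ∈ normalizer (V : Set G)) {A B : SL F} (hA : ActV T v x A)
    (hB : ActV T v y B) : ActV T v (x * y) (A * B) := by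
  intro a b d a' b' d' h
  obtain ⟨a₁, b₁, d₁, h1⟩ := I.v_surj _ ((mem_normalizer_iff.1 hy _).1 (I.v_mem a b d))
  have h2 := hB a b d a₁ b₁ d₁ h1.symm
  have h3 := hA a₁ b₁ d₁ a' b' d' (by rw [h1, ← h]; group)
  rw [h3, h2, Matrix.SpecialLinearGroup.coe_mul, star_mul]
  simp only [Matrix.mul_assoc]

theorem actV_inv {x : G} (hx : x ∈ normalizer (V : Set G)) {A : SL F} (hA : ActV T v x A) :
    ActV T v x⁻¹ A⁻¹ := by
  intro a b d a' b' d' h
  have h1 := hA a' b' d' a b d (by rw [← h]; group)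
  rw [h1]
  have e1 : (A⁻¹).1 * A.1 = 1 := by
    rw [← Matrix.SpecialLinearGroup.coe_mul, inv_mul_cancel, Matrix.SpecialLinearGroup.coe_one]
  have e2 : A.1.transpose.map T.sg * (A⁻¹).1.transpose.map T.sg = 1 := by
    rw [← star_mul, e1, Matrix.transpose_one, Matrix.map_one _ (map_zero _) (map_one _)]
  calc hM T a' b' d' = 1 * hM T a' b' d' * 1 := by rw [Matrix.one_mul, Matrix.mul_one]
    _ = ((A⁻¹).1 * A.1) * hM T a' b' d' * (A.1.transpose.map T.sg * (A⁻¹).1.transpose.map T.sg) := by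
        rw [e1, e2]
    _ = _ := by simp only [Matrix.mul_assoc]

theorem actV_unique {x : G} (hx : x ∈ normalizer (V : Set G)) {A B : SL F} (hA : ActV T v x A)
    (hB : ActV T v x B) : A = B := by
  have h1 := I.actV_mul hx (I.actV_inv hx hB) hA
  rw [inv_mul_cancel] at h1
  have h2 := eq_one_of_act T (B⁻¹ * A) (fun a b d => h1 a b d a b d (by simp))
  exact (inv_mul_eq_one.1 h2).symm

theorem actV_CV {x : G} (hx : x ∈ centralizer (V : Set G)) : ActV T v x 1 := by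
  intro a b d a' b' d' h
  have h1 : x * v a b d * x⁻¹ = v a b d := by
    rw [← mem_centralizer_iff.1 hx _ (I.v_mem a b d)]; group
  rw [h1] at h
  exact I.actV_one a b d a' b' d' (by simpa using h)

theorem CV_of_actV {x : G} (hx : x ∈ normalizer (V : Set G)) (h : ActV T v x 1) :
    x ∈ centralizer (V : Set G) := by
  rw [mem_centralizer_iff]
  intro y hy
  obtain ⟨a, b, d, rfl⟩ := I.v_surj y hy
  obtain ⟨a₁, b₁, d₁, h1⟩ := I.v_surj _ ((mem_normalizer_iff.1 hx _).1 (I.v_mem a b d))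
  have h2 := h a b d a₁ b₁ d₁ h1.symm
  have h3 := I.actV_one (T := T) a b d a b d (by simp)
  rw [← h3] at h2
  obtain ⟨rfl, rfl, rfl⟩ := hM_inj T h2
  have h4 : v a₁ b₁ d₁ * x = (x * v a₁ b₁ d₁ * x⁻¹) * x := congrArg (· * x) h1
  rw [h4]; group

theorem actV_Q {y : G} (hy : y ∈ Q) : ActV T v y (up (p y)) := by
  intro a b d a' b' d' h
  rw [I.act y hy] at h
  obtain ⟨rfl, rfl, rfl⟩ := I.v_ext h
  ext i j
  fin_cases i <;> fin_cases j <;>
    simp [hM, up, Matrix.mul_apply, Fin.sum_univ_two, T.tr_eq, T.nm_eq, T.sg_sg] <;> ring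

theorem actV_Q' {y : G} (hy : y ∈ Q') : ActV T v y (dn (p' y)) := by
  intro a b d a' b' d' h
  rw [I.act' y hy] at h
  obtain ⟨rfl, rfl, rfl⟩ := I.v_ext h
  ext i j
  fin_cases i <;> fin_cases j <;>
    simp [hM, dn, Matrix.mul_apply, Fin.sum_univ_two, T.tr_eq, T.nm_eq, T.sg_sg] <;> ring

/-- the elements of `N_G(V)` acting on `V` as elements of `SL(2, F)` -/
def LV : Subgroup G where
  carrier := {x | x ∈ normalizer (V : Set G) ∧ ∃ A, ActV T v x A}
  mul_mem' := by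
    rintro x y ⟨hx, A, hA⟩ ⟨hy, B, hB⟩
    exact ⟨mul_mem hx hy, A * B, I.actV_mul hy hA hB⟩
  one_mem' := ⟨one_mem _, 1, I.actV_one⟩
  inv_mem' := by
    rintro x ⟨hx, A, hA⟩
    exact ⟨inv_mem hx, A⁻¹, I.actV_inv hx hA⟩

theorem X_LV : Q ⊔ Q' ≤ I.LV :=
  sup_le (fun y hy => ⟨I.Q_NV hy, _, I.actV_Q hy⟩) (fun y hy => ⟨I.Q'_NV hy, _, I.actV_Q' hy⟩)

/-- **the action of `X = ⟨Q, Q'⟩` on `V`** -/
noncomputable def pi : (Q ⊔ Q' : Subgroup G) →* SL F where
  toFun x := (I.X_LV x.2).2.choose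
  map_one' := I.actV_unique (one_mem _) (I.X_LV (one_mem (Q ⊔ Q'))).2.choose_spec I.actV_one
  map_mul' x y := I.actV_unique (mul_mem (I.X_LV x.2).1 (I.X_LV y.2).1) (I.X_LV (x * y).2).2.choose_spec
    (I.actV_mul (I.X_LV y.2).1 (I.X_LV x.2).2.choose_spec (I.X_LV y.2).2.choose_spec)

theorem actV_pi (x : (Q ⊔ Q' : Subgroup G)) : ActV T v x (I.pi x) := (I.X_LV x.2).2.choose_spec

theorem pi_eq {x : (Q ⊔ Q' : Subgroup G)} {A : SL F} (h : ActV T v x A) : I.pi x = A :=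
  I.actV_unique (I.X_LV x.2).1 (I.actV_pi x) h

theorem pi_Q {y : G} (hy : y ∈ Q) : I.pi ⟨y, mem_sup_left hy⟩ = up (p y) := I.pi_eq (I.actV_Q hy)

theorem pi_Q' {y : G} (hy : y ∈ Q') : I.pi ⟨y, mem_sup_right hy⟩ = dn (p' y) := I.pi_eq (I.actV_Q' hy)

theorem pi_eq_one (x : (Q ⊔ Q' : Subgroup G)) : I.pi x = 1 ↔ (x : G) ∈ centralizer (V : Set G) := by
  constructor
  · intro h
    have := I.actV_pi x
    rw [h] at this
    exact I.CV_of_actV (I.X_LV x.2).1 this
  · intro h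
    exact I.pi_eq (I.actV_CV h)

theorem pi_surj (E : Ext V R Q Q' p') : Function.Surjective I.pi := by
  rw [← MonoidHom.range_eq_top]
  apply eq_top_of_up_dn
  · intro b
    obtain ⟨y, hy, rfl⟩ := I.p_surj b
    exact ⟨_, I.pi_Q hy⟩
  · intro b
    obtain ⟨y, hy, rfl⟩ := E.p'_surj b
    exact ⟨_, I.pi_Q' hy⟩

/-- `N_G(V)` normalises `X`. -/
theorem NV_NX (E : Ext V R Q Q' p') : normalizer (V : Set G) ≤ normalizer ((Q ⊔ Q' : Subgroup G) : Set G) := by
  have key : ∀ m ∈ normalizer (V : Set G), ∀ x ∈ Q, m * x * m⁻¹ ∈ Q ⊔ Q' := by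
    intro m hm x hx
    obtain ⟨y, hy, hc⟩ := E.MX m hm
    have h1 := I.nor _ hc x hx
    have h2 : m * x * m⁻¹ = y⁻¹ * ((y * m) * x * (y * m)⁻¹) * y := by group
    rw [h2]
    exact mul_mem (mul_mem (inv_mem hy) (mem_sup_left h1)) hy
  obtain ⟨n, hn, hsw⟩ := E.sw
  have key2 : ∀ m ∈ normalizer (V : Set G), ∀ x ∈ Q ⊔ Q', m * x * m⁻¹ ∈ Q ⊔ Q' := by
    intro m hm
    have h1 : Q ⊔ Q' ≤ (Q ⊔ Q').comap (MulAut.conj m).toMonoidHom := by
      refine sup_le (fun x hx => key m hm x hx) (fun x hx => ?_)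
      have h2 : n⁻¹ * x * n ∈ Q := by
        rw [hsw]
        have : n * (n⁻¹ * x * n) * n⁻¹ = x := by group
        rwa [this]
      have h3 := key (m * n) (mul_mem hm (I.X_NV hn)) _ h2
      have h4 : (m * n) * (n⁻¹ * x * n) * (m * n)⁻¹ = m * x * m⁻¹ := by group
      rw [h4] at h3
      exact h3
    intro x hx
    exact h1 hx
  intro m hm
  rw [mem_normalizer_iff]
  intro x
  refine ⟨key2 m hm x, fun h => ?_⟩
  have := key2 m⁻¹ (inv_mem hm) _ h
  simpa [mul_assoc] using this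

end GIn

end Cfsg.Agent.Omega.NOne.SU
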