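import Cfsg.Agent.Omega.NOne.SU.Pos

/-!
# THEOREM UNI, section 2: opposite pairs

`Opp U g δ`: `g e` is opposite to `e`; then `n' n = δ` on `g e`, `n n' = δ` on `e`.
`hel g δ z ∈ H`: `z` on `e`, `z⁻¹` on `g e`, `1` on `e^⊥ ∩ (g e)^⊥`.
-/

set_option autoImplicit false

namespace Cfsg.Agent.Omega.NOne.SU

/-- a `k`-linear map of `F` for which every vector is an eigenvector is a scalar. -/
theorem Quad.scalar {k F : Type*} [Field k] [Field F] [Algebra k F] (P : F →ₗ[k] F)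
    (h : ∀ c, ∃ a : k, P c = a • c) : ∃ δ : k, ∀ c, P c = δ • c := by
  obtain ⟨δ, hδ⟩ := h 1
  refine ⟨δ, fun c => ?_⟩
  by_cases hc : ∃ a : k, algebraMap k F a = c
  · obtain ⟨a, rfl⟩ := hc
    have h1 : algebraMap k F a = a • (1 : F) := by rw [Algebra.smul_def, mul_one]
    rw [h1, map_smul, hδ, smul_comm]
  · push Not at hc
    obtain ⟨a2, h2⟩ := h c
    obtain ⟨a3, h3⟩ := h (1 + c)
    rw [map_add, hδ, h2] at h3
    by_cases h23 : a2 = a3
    · subst h23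
      have h4 : δ • (1 : F) = a2 • (1 : F) := by
        rw [smul_add] at h3
        exact add_right_cancel h3
      rw [Algebra.smul_def, Algebra.smul_def, mul_one, mul_one] at h4
      rw [h2, (algebraMap k F).injective h4]
    · exfalso
      have h4 : (a2 - a3) • c = (a3 - δ) • (1 : F) := by
        rw [sub_smul, sub_smul]
        rw [smul_add] at h3
        linear_combination (exp := 1) h3
      have h5 : a2 - a3 ≠ 0 := sub_ne_zero.2 h23
      refine hc ((a2 - a3)⁻¹ * (a3 - δ)) ?_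
      rw [← mul_one (algebraMap k F _), ← Algebra.smul_def, mul_smul, ← h4, smul_smul,
        inv_mul_cancel₀ h5, one_smul]

namespace Uni

variable {k F M Φ : Type*} [Field k] [Field F] [Algebra k F] [AddCommGroup M] [Module k M]
    [AddCommGroup Φ] [Module k Φ] [Module F Φ] (U : Uni k F M Φ)

/-- `g e` is opposite to `e`. -/
structure Opp (g : M ≃ₗ[k] M) (δ : k) : Prop where
  mem : g ∈ U.H
  ne : δ ≠ 0
  LL' : ∀ c, U.L g (U.L g.symm c) = δ • c
  L'L : ∀ c, U.L g.symm (U.L g c) = δ • c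

include U

theorem L_surj {g : M ≃ₗ[k] M} (ho : ∀ c, U.L g c = 0 → c = 0) (b : F) : ∃ c, U.L g c = b := by
  have := U.toQuad.finite_F
  have hi : Function.Injective (U.L g) := (injective_iff_map_eq_zero _).2 ho
  exact Finite.surjective_of_injective hi b

theorem L_injective {g : M ≃ₗ[k] M} (ho : ∀ c, U.L g c = 0 → c = 0) : Function.Injective (U.L g) :=
  (injective_iff_map_eq_zero _).2 ho

variable [CharP k 2]

theorem opp_symm {g : M ≃ₗ[k] M} (hg : g ∈ U.H) (ho : ∀ c, U.L g c = 0 → c = 0) :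
    ∀ c, U.L g.symm c = 0 → c = 0 := by
  intro c hc
  refine U.toQuad.tr_nondeg fun x => ?_
  obtain ⟨c', hc'⟩ := U.L_surj ho (U.sg x)
  rw [mul_comm, ← U.sg_sg x, ← hc', U.L_adj hg, hc, map_zero, mul_zero, map_zero]

theorem exists_δ {g : M ≃ₗ[k] M} (hg : g ∈ U.H) (ho : ∀ c, U.L g c = 0 → c = 0) :
    ∃ δ, U.Opp g δ := by
  obtain ⟨δ, hδ⟩ := Quad.scalar (U.L g.symm ∘ₗ U.L g) (by
    intro c
    by_cases hc : c = 0
    · exact ⟨0, by rw [hc, map_zero, smul_zero]⟩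
    have hLc : U.L g c ≠ 0 := fun h => hc (ho c h)
    have h1 : U.tr (U.L g (U.L g.symm (U.L g c)) * U.sg (U.L g c)) = 0 := by
      rw [U.toQuad.tr_comm, U.L_adj hg, U.toQuad.tr_self]
    obtain ⟨a, ha⟩ := U.toQuad.mem_of_tr hLc h1
    refine ⟨a, ?_⟩
    apply U.L_injective ho
    rw [map_smul, ← ha]
    rfl)
  have hδ' : ∀ c, U.L g.symm (U.L g c) = δ • c := hδ
  refine ⟨δ, hg, ?_, ?_, hδ'⟩
  · rintro rfl
    have h1 := hδ' 1
    rw [zero_smul] at h1
    exact one_ne_zero (ho 1 (U.opp_symm hg ho _ h1))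
  · intro c
    obtain ⟨c', rfl⟩ := U.L_surj ho c
    rw [hδ', map_smul]

/-- `z` on `e`, `z⁻¹` on `g e`, `1` on the rest. -/
noncomputable def hel (g : M ≃ₗ[k] M) (δ z : k) : M ≃ₗ[k] M :=
  U.u z * U.cu g (z⁻¹ * δ⁻¹) * U.u z * (U.u 1 * U.cu g δ⁻¹ * U.u 1)

/-- the coordinate map `F ≃ g e`, inverse of `B`. -/
noncomputable def v (g : M ≃ₗ[k] M) (δ : k) : F →ₗ[k] M :=
  δ⁻¹ • (g.toLinearMap ∘ₗ U.ε ∘ₗ U.L g.symm)

omit [CharP k 2] in
theorem v_apply (g : M ≃ₗ[k] M) (δ : k) (s : F) :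
    U.v g δ s = δ⁻¹ • g (U.ε (U.L g.symm s)) := rfl

end Uni

namespace Uni.Opp

variable {k F M Φ : Type*} [Field k] [Field F] [Algebra k F] [AddCommGroup M] [Module k M]
    [AddCommGroup Φ] [Module k Φ] [Module F Φ] {U : Uni k F M Φ} {g : M ≃ₗ[k] M} {δ : k}
    (h : U.Opp g δ)
include h

theorem inj : ∀ c, U.L g c = 0 → c = 0 := by
  intro c hc
  have h1 := h.L'L c
  rw [hc, map_zero] at h1
  rcases smul_eq_zero.1 h1.symm with h2 | h2
  · exact absurd h2 h.ne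
  · exact h2

theorem inj' : ∀ c, U.L g.symm c = 0 → c = 0 := by
  intro c hc
  have h1 := h.LL' c
  rw [hc, map_zero] at h1
  rcases smul_eq_zero.1 h1.symm with h2 | h2
  · exact absurd h2 h.ne
  · exact h2

theorem ncn (m : M) : U.n (U.cn g (U.n m)) = δ • U.n m := by
  rw [U.n_apply m, U.cn_ε, U.n_gε, h.LL', map_smul]

theorem cnc (m : M) : U.cn g (U.n (U.cn g m)) = δ • U.cn g m := by
  rw [U.cn_apply g m, U.n_gε, U.cn_ε, h.L'L, map_smul, map_smul]

theorem hel_mem (z : k) : U.hel g δ z ∈ U.H := by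
  have h1 : ∀ a, U.u a ∈ U.H := fun a => U.J_le (U.u_mem a)
  exact mul_mem (mul_mem (mul_mem (h1 _) (U.cu_mem h.mem _)) (h1 _))
    (mul_mem (mul_mem (h1 _) (U.cu_mem h.mem _)) (h1 _))

theorem hel_apply [CharP k 2] {z : k} (hz : z ≠ 0) (m : M) :
    U.hel g δ z m = m + ((z - 1) * δ⁻¹) • U.n (U.cn g m) +
      ((z⁻¹ - 1) * δ⁻¹) • U.cn g (U.n m) := by
  have e1 : U.hel g δ z m = U.u z (U.cu g (z⁻¹ * δ⁻¹) (U.u z (U.u 1 (U.cu g δ⁻¹
    (U.u 1 m))))) := rfl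
  rw [e1]
  simp only [u_apply, cu_apply, map_add, map_smul, n_n, cn_cn, h.ncn, h.cnc, one_smul, smul_zero,
    add_zero]
  have hzw : z * z⁻¹ = 1 := mul_inv_cancel₀ hz
  have hd : δ * δ⁻¹ = 1 := mul_inv_cancel₀ h.ne
  have t2 : (2 : k) = 0 := CharTwo.two_eq_zero
  generalize z⁻¹ = w at *
  generalize δ⁻¹ = d at *
  match_scalars <;> grind

/-- `n n' = δ` on `e` -/
theorem n_cn_ε (c : F) : U.n (U.cn g (U.ε c)) = δ • U.ε c := by
  rw [U.cn_ε, U.n_gε, h.LL', map_smul]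

theorem cn_n_g (c : F) : U.cn g (U.n (g (U.ε c))) = δ • g (U.ε c) := by
  rw [U.n_gε, U.cn_ε, h.L'L, map_smul, map_smul]

theorem hel_ε [CharP k 2] {z : k} (hz : z ≠ 0) (c : F) :
    U.hel g δ z (U.ε c) = z • U.ε c := by
  rw [h.hel_apply hz, h.n_cn_ε, U.n_apply, U.B_ε, map_zero, map_zero, smul_zero, add_zero,
    smul_smul, mul_assoc, inv_mul_cancel₀ h.ne, mul_one]
  module

theorem hel_g [CharP k 2] {z : k} (hz : z ≠ 0) (c : F) :
    U.hel g δ z (g (U.ε c)) = z⁻¹ • g (U.ε c) := by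
  rw [h.hel_apply hz, U.cn_gε, map_zero, smul_zero, add_zero, h.cn_n_g,
    smul_smul, mul_assoc, inv_mul_cancel₀ h.ne, mul_one]
  module

theorem B_cn_n (m : M) : U.B (U.cn g (U.n m)) = δ • U.B m := by
  rw [U.n_apply, U.cn_ε]
  exact h.LL' _

theorem B_n (m : M) : U.B (U.n m) = 0 := by
  have _ := h
  exact U.B_ε _

theorem B_hel [CharP k 2] {z : k} (hz : z ≠ 0) (m : M) :
    U.B (U.hel g δ z m) = z⁻¹ • U.B m := by
  rw [h.hel_apply hz, map_add, map_add, map_smul, map_smul, h.B_n, smul_zero, add_zero, h.B_cn_n,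
    smul_smul, mul_assoc, inv_mul_cancel₀ h.ne, mul_one]
  module

theorem hel_P [CharP k 2] {z : k} (hz : z ≠ 0) {m : M} (hm : U.B m = 0) :
    ∃ c, U.hel g δ z m - m = U.ε c := by
  rw [h.hel_apply hz, U.n_apply m, hm, map_zero, map_zero, smul_zero, add_zero,
    add_sub_cancel_left]
  exact ⟨((z - 1) * δ⁻¹) • U.B (U.cn g m), by rw [map_smul]; rfl⟩

/-- `U = e^⊥ ∩ (g e)^⊥` is fixed. -/
theorem hel_fix [CharP k 2] {z : k} (hz : z ≠ 0) {m : M} (hm : U.n m = 0) (hm' : U.cn g m = 0) :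
    U.hel g δ z m = m := by
  rw [h.hel_apply hz, hm, hm', map_zero, map_zero, smul_zero, smul_zero, add_zero, add_zero]

/-! ### coordinates on `g e` -/

theorem B_v (s : F) : U.B (U.v g δ s) = s := by
  rw [U.v_apply, map_smul]
  change δ⁻¹ • U.L g (U.L g.symm s) = s
  rw [h.LL', smul_smul, inv_mul_cancel₀ h.ne, one_smul]

theorem g_eq_v (c : F) : g (U.ε c) = U.v g δ (U.L g c) := by
  rw [U.v_apply, h.L'L, map_smul, map_smul, smul_smul, inv_mul_cancel₀ h.ne, one_smul]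

theorem v_eq_g (s : F) : ∃ c, U.v g δ s = g (U.ε c) := by
  have _ := h
  exact ⟨δ⁻¹ • U.L g.symm s, by rw [map_smul, map_smul]; rfl⟩

theorem f_v_v (s s' : F) : U.f (U.v g δ s) (U.v g δ s') = 0 := by
  rw [U.v_apply, U.v_apply, map_smul, map_smul, LinearMap.smul_apply, U.isom g h.mem, U.f_ε_ε,
    smul_zero, smul_zero]

theorem cn_v (s : F) : U.cn g (U.v g δ s) = 0 := by
  have _ := h
  rw [U.v_apply, map_smul, U.cn_gε, smul_zero]

theorem cn_ε_v (a : F) : U.cn g (U.ε a) = δ • U.v g δ a := by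
  rw [U.cn_ε, U.v_apply, smul_smul, mul_inv_cancel₀ h.ne, one_smul]

/-- `cn g u = 0` iff `u ⊥ g e` -/
theorem cn_eq_zero [CharP k 2] {u : M} (hu : ∀ s, U.f (U.v g δ s) u = 0) : U.cn g u = 0 := by
  have h1 : U.B (g.symm u) = 0 := by
    have h2 : ∀ c, U.tr (c * U.sg (U.B (g.symm u))) = 0 := by
      intro c
      rw [← U.fe, ← U.f_left h.mem, h.g_eq_v]
      exact hu _
    have h3 := U.toQuad.tr_nondeg h2
    simpa using h3
  rw [U.cn_apply, h1, map_zero, map_zero]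

/-- the unipotent group of `g e` in coordinates. -/
theorem exists_w [CharP k 2] (b : k) : ∃ w ∈ U.H, (∀ a, w (U.ε a) = U.ε a + b • U.v g δ a) ∧
    (∀ s, w (U.v g δ s) = U.v g δ s) ∧
    ∀ u, (∀ s, U.f (U.v g δ s) u = 0) → w u = u := by
  refine ⟨U.cu g (b * δ⁻¹), U.cu_mem h.mem _, ?_, ?_, ?_⟩
  · intro a
    rw [U.cu_apply, h.cn_ε_v, smul_smul, mul_assoc, inv_mul_cancel₀ h.ne, mul_one]
  · intro s
    rw [U.cu_apply, h.cn_v, smul_zero, add_zero]
  · intro u hu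
    rw [U.cu_apply, h.cn_eq_zero hu, smul_zero, add_zero]

end Uni.Opp

end Cfsg.Agent.Omega.NOne.SU
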