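import Cfsg.Agent.Omega.NOne.SU.GIn

/-!
# THEOREM UNI: the output at the level of the group

`Out` : `W` is the hermitian `F`-space `Q/R = F e₀ ⊕ ι Φ ⊕ F f₀`, `w : Q → W` the projection, `g` the hermitian
form; `e₀ = w (v 0 1 0)`.

* `ker` : `Q` is the kernel of `N_G(R)` on `W`;
* `tran` : `C_G(R)` contains, for every isotropic point, an `F`-linear isometry mapping `F e₀` to it;
* `stab` : the stabiliser of `F e₀` in `N_G(R)` normalises `V`;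
* `rad` : the preimage of the unipotent radical of `F e₀` is `C_{Q'}(V) V Q`.
-/

set_option autoImplicit false

open Subgroup

namespace Cfsg.Agent.Omega.NOne.SU

variable {G : Type*} [Group G] {k F : Type*} [Field k] [Field F] [Algebra k F]

/-- **The output of THEOREM UNI.** -/
structure Out (T : Quad k F) (V R Q Q' : Subgroup G) (v : k → F → k → G) (p : G → F)
    {Φ : Type*} [AddCommGroup Φ] [Module F Φ] (φ χ : G → Φ) (hm : Φ → Φ → F)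
    {W : Type*} [AddCommGroup W] [Module F W] (w : G → W) (g : W → W → F) (f₀ : W)
    (ι : Φ →ₗ[F] W) : Prop where
  -- `W = Q/R`
  w_mul : ∀ x ∈ Q, ∀ y ∈ Q, w (x * y) = w x + w y
  w_eq : ∀ x ∈ Q, (w x = 0 ↔ x ∈ R)
  w_surj : ∀ m, ∃ x ∈ Q, w x = m
  comm : ∀ x ∈ Q, ∀ y ∈ Q, x * y * x⁻¹ * y⁻¹ = v (T.tr (g (w x) (w y))) 0 0
  -- the hermitian form
  g_add : ∀ m m' u, g (m + m') u = g m u + g m' u
  g_smul : ∀ (s : F) m u, g (s • m) u = s * g m u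
  g_sym : ∀ m u, g u m = T.sg (g m u)
  -- coordinates, `e₀ = w (v 0 1 0)`
  w_e : ∀ b, w (v 0 b 0) = b • w (v 0 1 0)
  g_ee : g (w (v 0 1 0)) (w (v 0 1 0)) = 0
  g_ef : g (w (v 0 1 0)) f₀ = 1
  g_ff : g f₀ f₀ = 0
  g_eι : ∀ x, g (w (v 0 1 0)) (ι x) = 0
  g_fι : ∀ x, g f₀ (ι x) = 0
  g_ιι : ∀ x y, g (ι x) (ι y) = hm x y
  span : ∀ m, ∃ (a : F) (x : Φ) (b : F), m = a • w (v 0 1 0) + ι x + b • f₀
  hm_nondeg : ∀ x, (∀ u, hm x u = 0) → x = 0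
  p_eq : ∀ y ∈ Q, p y = g (w y) (w (v 0 1 0))
  φ_eq : ∀ y ∈ Q, y ∈ centralizer (V : Set G) → ∃ a : F, w y = ι (φ y) + a • w (v 0 1 0)
  -- `C_{Q'}(V)`
  χ_act : ∀ n ∈ Q', n ∈ centralizer (V : Set G) → ∃ r : F, r + T.sg r = hm (χ n) (χ n) ∧
    ∀ y ∈ Q, w (n * y * n⁻¹) = w y + g (w y) (w (v 0 1 0)) • ι (χ n) +
      (g (w y) (ι (χ n)) + r * g (w y) (w (v 0 1 0))) • w (v 0 1 0)
  -- the action of `N_G(R)`
  ker : ∀ c ∈ normalizer (R : Set G), (∀ x ∈ Q, w (c * x * c⁻¹) = w x) → c ∈ Q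
  tran : ∀ m, m ≠ 0 → g m m = 0 → ∃ c ∈ centralizer (R : Set G),
    (∀ (s : F), ∀ x ∈ Q, ∀ y ∈ Q, w y = s • w x → w (c * y * c⁻¹) = s • w (c * x * c⁻¹)) ∧
    (∀ x ∈ Q, ∀ y ∈ Q, g (w (c * x * c⁻¹)) (w (c * y * c⁻¹)) = g (w x) (w y)) ∧
    ∃ s : F, w (c * v 0 1 0 * c⁻¹) = s • m
  stab : ∀ c ∈ normalizer (R : Set G), (∃ s : F, w (c * v 0 1 0 * c⁻¹) = s • w (v 0 1 0)) →
    c ∈ normalizer (V : Set G)
  pt : ∀ c ∈ normalizer (R : Set G), ∃ m, m ≠ 0 ∧ g m m = 0 ∧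
    ∀ b : F, ∃ s : F, w (c * v 0 b 0 * c⁻¹) = s • m
  rad : ∀ c ∈ centralizer (R : Set G), (∀ b, w (c * v 0 b 0 * c⁻¹) = w (v 0 b 0)) →
    (∀ x ∈ Q, g (w x) (w (v 0 1 0)) = 0 → ∃ b, w (c * x * c⁻¹) = w x + w (v 0 b 0)) →
    (∀ x ∈ Q, g (w (c * x * c⁻¹)) (w (v 0 1 0)) = g (w x) (w (v 0 1 0))) →
    ∃ n ∈ Q', n ∈ centralizer (V : Set G) ∧ ∃ d, ∃ y ∈ Q, c = n * v 0 0 d * y

/-- Further facts (`R'` is conjugate to `R` in `X = ⟨Q, Q'⟩`, `N_G(V)` permutes the points of `V`). -/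
structure Ext (V R Q Q' : Subgroup G) (p' : G → F) : Prop where
  p'_surj : ∀ l, ∃ y ∈ Q', p' y = l
  sw : ∃ n ∈ Q ⊔ Q', ∀ x, x ∈ Q ↔ n * x * n⁻¹ ∈ Q'
  /-- `N_G(V) = X (N_G(V) ∩ N_G(R))` -/
  MX : ∀ m ∈ normalizer (V : Set G), ∃ x ∈ Q ⊔ Q', x * m ∈ normalizer (R : Set G)

end Cfsg.Agent.Omega.NOne.SU
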