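import Cfsg.Agent.Omega.NOne.SU.Grp7
import Cfsg.Agent.Omega.NOne.SU.HermOut
import Cfsg.Agent.Omega.NOne.SU.Out

/-!
# THEOREM UNI: the coordinate fields of `Out` from `GIn`, `Fld` and `Herm`
-/

set_option autoImplicit false
set_option linter.unusedSectionVars false

open Subgroup

namespace Cfsg.Agent.Omega.NOne.SU

variable {G : Type*} [Group G] {k F : Type*} [Field k] [Field F] [Algebra k F]

namespace GIn

variable {T : Quad k F} {S : Sylow 2 G} {V R Q Q' : Subgroup G} {v : k → F → k → G} {p p' : G → F}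
variable (h : GIn T S V R Q Q' v p p') (sc : Scal h.sp.form)
variable {Φ : Type*} [AddCommGroup Φ] [Module F Φ] {φ χ : G → Φ} (f : Fld T V R Q Q' v p φ χ)
  [Module k Φ] [IsScalarTower k F Φ] [Finite G] [Module F (h.M sc)] (D : (h.uni sc f).Herm)

namespace OC

omit [Finite G] in
variable {h sc} in
theorem B_ep (c : F) : h.BM sc (h.epM sc c) = 0 := h.Bm_ep c

variable {h sc f}

include D

theorem g_ep (m : h.M sc) (c : F) : D.g m (h.epM sc c) = h.BM sc m * T.sg c := D.g_ε m c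

theorem ep_smul (s c : F) : h.epM sc (s * c) = s • h.epM sc c := D.ε_smul s c

theorem B_smul (s : F) (m : h.M sc) : h.BM sc (s • m) = s * h.BM sc m := D.B_smul s m

theorem sym (m w : h.M sc) : D.g w m = T.sg (D.g m w) := D.sym m w

theorem f_eq (m w : h.M sc) : h.fM sc m w = T.tr (D.g m w) := D.f_eq m w

theorem smul_right (s : F) (m w : h.M sc) : D.g m (s • w) = T.sg s * D.g m w := D.smul_right s m w

theorem y_smul (s : F) (m : h.M sc) (hm : h.BM sc m = 0) : h.yM sc f (s • m) = s • h.yM sc f m :=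
  D.y_smul s m hm

theorem g_y (m m' : h.M sc) (hm : h.BM sc m = 0) (hm' : h.BM sc m' = 0) :
    D.g m m' = h.hmΦ sc f (h.yM sc f m) (h.yM sc f m') := D.g_y m m' hm hm'

theorem ep_eq (c : F) : h.epM sc c = c • h.epM sc 1 := by
  rw [← ep_smul D, mul_one]

/-- the vector `f₀` -/
noncomputable def f0 : h.M sc := D.v 1

theorem B_f0 : h.BM sc (f0 D) = 1 := D.B_v 1

theorem g_ff : D.g (f0 D) (f0 D) = 0 := D.g_v 1 1

theorem g_fe : D.g (f0 D) (h.epM sc 1) = 1 := by
  rw [g_ep, B_f0, map_one, mul_one]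

theorem g_ef : D.g (h.epM sc 1) (f0 D) = 1 := by
  rw [sym D, g_fe, map_one]

theorem g_ee : D.g (h.epM sc 1) (h.epM sc 1) = 0 := by
  rw [g_ep, B_ep, zero_mul]

theorem g_epf (c : F) : D.g (h.epM sc c) (f0 D) = c := by
  rw [ep_eq D, D.smul_left, g_ef, mul_one]

/-- uniqueness -/
theorem uniq {m m' : h.M sc} (hm : h.BM sc m = 0) (hm' : h.BM sc m' = 0) (hy : h.yM sc f m = h.yM sc f m')
    (hf : D.g m (f0 D) = D.g m' (f0 D)) : m = m' := by
  have h1 : h.BM sc (m - m') = 0 := by rw [map_sub, hm, hm', sub_zero]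
  obtain ⟨c, hc⟩ := (h.yM_ker sc f (m - m') h1).1 (by rw [map_sub, hy, sub_self])
  have h3 : m = h.epM sc c + m' := by rw [← hc, sub_add_cancel]
  have h4 : D.g m (f0 D) = c + D.g m' (f0 D) := by rw [h3, D.add_left, g_epf]
  rw [hf] at h4
  have h5 : c = 0 := left_eq_add.1 (by rw [add_comm]; exact h4)
  rw [h3, h5, map_zero, zero_add]

theorem exists_iot (x : Φ) : ∃ m : h.M sc, h.BM sc m = 0 ∧ h.yM sc f m = x ∧ D.g m (f0 D) = 0 := by
  obtain ⟨m, hm, hy⟩ := h.y_surj_of sc f (h.yM_φ sc f) x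
  refine ⟨m + h.epM sc (D.g m (f0 D)), ?_, ?_, ?_⟩
  · rw [map_add, hm, B_ep, add_zero]
  · rw [map_add, hy, h.yM_ep, add_zero]
  · rw [D.add_left, g_epf, T.add_self (h2 := h.h2)]

/-- the embedding `ι : Φ → W` -/
noncomputable def iot : Φ →ₗ[F] h.M sc where
  toFun := fun x => (exists_iot D x).choose
  map_add' := fun x x' => by
    obtain ⟨h1, h2, h3⟩ := (exists_iot D x).choose_spec
    obtain ⟨h1', h2', h3'⟩ := (exists_iot D x').choose_spec
    obtain ⟨h1'', h2'', h3''⟩ := (exists_iot D (x + x')).choose_spec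
    apply uniq D h1''
    · rw [map_add, h1, h1', add_zero]
    · rw [h2'', map_add, h2, h2']
    · rw [h3'', D.add_left, h3, h3', add_zero]
  map_smul' := fun s x => by
    obtain ⟨h1, h2, h3⟩ := (exists_iot D x).choose_spec
    obtain ⟨h1'', h2'', h3''⟩ := (exists_iot D (s • x)).choose_spec
    rw [RingHom.id_apply]
    apply uniq D h1''
    · rw [B_smul D, h1, mul_zero]
    · rw [h2'', y_smul D s _ h1, h2]
    · rw [h3'', D.smul_left, h3, mul_zero]

theorem B_iot (x : Φ) : h.BM sc (iot D x) = 0 := (exists_iot D x).choose_spec.1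

theorem y_iot (x : Φ) : h.yM sc f (iot D x) = x := (exists_iot D x).choose_spec.2.1

theorem g_iotf (x : Φ) : D.g (iot D x) (f0 D) = 0 := (exists_iot D x).choose_spec.2.2

theorem g_fiot (x : Φ) : D.g (f0 D) (iot D x) = 0 := by rw [sym D, g_iotf, map_zero]

theorem g_eiot (x : Φ) : D.g (h.epM sc 1) (iot D x) = 0 := by
  rw [sym D, g_ep, B_iot, zero_mul, map_zero]

theorem g_iote (x : Φ) : D.g (iot D x) (h.epM sc 1) = 0 := by rw [g_ep, B_iot, zero_mul]

theorem g_iotiot (x y : Φ) : D.g (iot D x) (iot D y) = h.hmΦ sc f x y := by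
  rw [g_y D _ _ (B_iot D x) (B_iot D y), y_iot, y_iot]

/-- on `e^⊥` -/
theorem perp {m : h.M sc} (hm : h.BM sc m = 0) : m = iot D (h.yM sc f m) + D.g m (f0 D) • h.epM sc 1 := by
  rw [← ep_eq D]
  apply uniq D hm
  · rw [map_add, B_iot, B_ep, add_zero]
  · rw [map_add, y_iot, h.yM_ep, add_zero]
  · rw [D.add_left, g_iotf, g_epf, zero_add]

theorem span (m : h.M sc) : ∃ (a : F) (x : Φ) (b : F), m = a • h.epM sc 1 + iot D x + b • f0 D := by
  have h1 : h.BM sc (m - h.BM sc m • f0 D) = 0 := by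
    rw [map_sub, B_smul D, B_f0, mul_one, sub_self]
  have h2 := perp D h1
  rw [sub_eq_iff_eq_add] at h2
  exact ⟨D.g (m - h.BM sc m • f0 D) (f0 D), h.yM sc f (m - h.BM sc m • f0 D), h.BM sc m, by
    rw [add_comm (_ • h.epM sc 1)]
    exact h2⟩

theorem comm {x y : G} (hx : x ∈ Q) (hy : y ∈ Q) :
    x * y * x⁻¹ * y⁻¹ = v (T.tr (D.g (h.prM sc x) (h.prM sc y))) 0 0 := by
  have h1 := h.sp.comm x hx y hy
  rw [← f_eq D, h.fM_pr sc hx hy]
  exact (h.sp.a_co h1).symm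

theorem w_e (b : F) : h.prM sc (v 0 b 0) = b • h.prM sc (v 0 1 0) := by
  rw [h.prM_E, h.prM_E, ← ep_eq D]

theorem p_eq {y : G} (hy : y ∈ Q) : p y = D.g (h.prM sc y) (h.prM sc (v 0 1 0)) := by
  rw [h.prM_E, g_ep, map_one, mul_one, h.BM_pr sc hy]

theorem φ_eq {y : G} (hy : y ∈ Q) (hyV : y ∈ centralizer (V : Set G)) :
    ∃ a : F, h.prM sc y = iot D (φ y) + a • h.prM sc (v 0 1 0) := by
  have h1 := perp D ((h.BM_eq_zero sc hy).2 hyV)
  rw [h.yM_φ sc f y hy hyV] at h1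
  rw [h.prM_E]
  exact ⟨_, h1⟩

/-- the decomposition of a vector -/
theorem decomp (m : h.M sc) : ∃ x : Φ, m = D.g m (f0 D) • h.epM sc 1 + iot D x +
    D.g m (h.epM sc 1) • f0 D := by
  obtain ⟨a, x, b, hm⟩ := span D m
  have h1 : D.g m (f0 D) = a := by
    rw [hm, D.add_left, D.add_left, D.smul_left, D.smul_left, g_ef, g_iotf, g_ff]; ring
  have h2 : D.g m (h.epM sc 1) = b := by
    rw [hm, D.add_left, D.add_left, D.smul_left, D.smul_left, g_ee, g_iote, g_fe]; ring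
  exact ⟨x, by rw [h1, h2]; exact hm⟩

/-- **the action of `n ∈ C_{Q'}(V)`** -/
theorem chi_act {n : G} (hn : n ∈ Q') (hnV : n ∈ centralizer (V : Set G)) :
    ∃ r : F, r + T.sg r = h.hmΦ sc f (χ n) (χ n) ∧
    ∀ y ∈ Q, h.prM sc (n * y * n⁻¹) = h.prM sc y + D.g (h.prM sc y) (h.prM sc (v 0 1 0)) • iot D (χ n) +
      (D.g (h.prM sc y) (iot D (χ n)) + r * D.g (h.prM sc y) (h.prM sc (v 0 1 0))) • h.prM sc (v 0 1 0) := by
  have hnR := h.CV_le_CR hnV
  set L := h.linC sc n hnR with hL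
  have hLJ : L ∈ h.JJ sc := h.linN_J sc f hn hnV
  have hsm : ∀ (s : F) m, L (s • m) = s • L m := D.J_smul L hLJ
  -- `L f₀`
  have h1 : h.BM sc (L (f0 D) - f0 D) = 0 := h.linN_B sc hnV (f0 D)
  have h2 : h.yM sc f (L (f0 D) - f0 D) = χ n := by
    rw [h.linN_y sc f hn hnV, B_f0, one_smul]
  have h3 := perp D h1
  rw [h2] at h3
  set r := D.g (L (f0 D) - f0 D) (f0 D) with hr
  have h4 : L (f0 D) = f0 D + (iot D (χ n) + r • h.epM sc 1) := by
    rw [← h3, add_sub_cancel]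
  refine ⟨r, ?_, fun y hy => ?_⟩
  · have h5 : D.g (L (f0 D)) (L (f0 D)) = D.g (f0 D) (f0 D) :=
      D.isom L hsm (fun m m' => isom (ind_linC (sc := sc) n hnR).mem m m') _ _
    rw [g_ff, h4] at h5
    simp only [D.add_left, D.add_right, D.smul_left, smul_right D, g_ff, g_fiot, g_fe, g_iotf, g_iotiot,
      g_iote, g_ef, g_eiot, g_ee] at h5
    have h6 : (h.hmΦ sc f (χ n) (χ n)) + (r + T.sg r) = 0 := by
      rw [← h5]; ring
    have h7 := T.add_self (h2 := h.h2) (h.hmΦ sc f (χ n) (χ n))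
    calc r + T.sg r = (h.hmΦ sc f (χ n) (χ n) + h.hmΦ sc f (χ n) (χ n)) + (r + T.sg r) := by
          rw [h7, zero_add]
      _ = h.hmΦ sc f (χ n) (χ n) + (h.hmΦ sc f (χ n) (χ n) + (r + T.sg r)) := by ring
      _ = _ := by rw [h6, add_zero]
  · have h5 : h.prM sc (n * y * n⁻¹) = L (h.prM sc y) := ((ind_linC (sc := sc) n hnR).2 y hy).symm
    rw [h5, h.prM_E]
    obtain ⟨x, hx⟩ := decomp D (h.prM sc y)
    set m := h.prM sc y with hm
    set α := D.g m (f0 D) with hα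
    set β := D.g m (h.epM sc 1) with hβ
    have h6 : D.g m (iot D (χ n)) = h.hmΦ sc f x (χ n) := by
      rw [hx, D.add_left, D.add_left, D.smul_left, D.smul_left, g_eiot, g_iotiot, g_fiot]; ring
    have h7 : L (iot D x) = iot D x + h.hmΦ sc f x (χ n) • h.epM sc 1 := by
      rw [hL, h.linN_P sc f hn hnV _ (B_iot D x), y_iot, ep_eq D]
    have h8 : L (h.epM sc 1) = h.epM sc 1 := h.linN_ep sc hnV 1
    rw [h6]
    conv_lhs => rw [hx]
    rw [map_add, map_add, hsm, hsm, h8, h7, h4]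
    conv_rhs => rw [hx]
    simp only [smul_add, add_smul, smul_smul]
    rw [mul_comm r β]
    abel

end OC

end GIn

end Cfsg.Agent.Omega.NOne.SU
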