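import Cfsg.Agent.Omega.NOne.SU.Basic

/-!
# THEOREM UNI, section 1: positions

`Uni.pos`: for `g ∈ H` the plane `g e` is contained in `e^⊥` or meets it trivially.
-/

set_option autoImplicit false

namespace Cfsg.Agent.Omega.NOne.SU

namespace Uni

variable {k F M Φ : Type*} [Field k] [Field F] [Algebra k F] [AddCommGroup M] [Module k M]
    [AddCommGroup Φ] [Module k Φ] [Module F Φ] (U : Uni k F M Φ)
include U

theorem y_ε (c : F) : U.y (U.ε c) = 0 := (U.y_ker _ (U.B_ε c)).2 ⟨c, rfl⟩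

section
variable [CharP k 2]

/-- the commutator of `u 1` and `cu g 1`. -/
theorem comm_apply (g : M ≃ₗ[k] M)
    (h1 : ∀ m, U.n (U.cn g (U.n m)) = 0) (h2 : ∀ m, U.cn g (U.n (U.cn g m)) = 0) (m : M) :
    (U.u 1 * U.cu g 1 * U.u 1 * U.cu g 1) m = m + (U.n (U.cn g m) + U.cn g (U.n m)) := by
  have e1 : (U.u 1 * U.cu g 1 * U.u 1 * U.cu g 1) m =
    U.u 1 (U.cu g 1 (U.u 1 (U.cu g 1 m))) := rfl
  rw [e1]
  simp only [u_apply, cu_apply, one_smul, map_add, h1, h2, n_n, cn_cn, add_zero]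
  have t1 := U.two_M (U.n m)
  have t2 := U.two_M (U.cn g m)
  have t3 := U.two_M (U.n (U.cn g m))
  calc _ = m + (U.n (U.cn g m) + U.cn g (U.n m)) + ((U.n m + U.n m) +
        (U.cn g m + U.cn g m) + (U.n (U.cn g m) + U.n (U.cn g m))) := by abel
    _ = _ := by rw [t1, t2, t3]; simp

omit [CharP k 2] in
theorem cu_mul (g : M ≃ₗ[k] M) (a b : k) : U.cu g a * U.cu g b = U.cu g (a + b) := by
  ext m
  have e1 : (U.cu g a * U.cu g b) m = U.cu g a (U.cu g b m) := rfl
  rw [e1, cu_apply, cu_apply, cu_apply, map_add, map_smul, cn_cn]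
  module

omit [CharP k 2] in
theorem cu_zero (g : M ≃ₗ[k] M) : U.cu g 0 = 1 := by
  ext m
  rw [cu_apply, zero_smul, add_zero]; rfl

theorem cu_sq (g : M ≃ₗ[k] M) (a : k) : U.cu g a * U.cu g a = 1 := by
  rw [cu_mul, CharTwo.add_self_eq_zero, cu_zero]

variable [IsScalarTower k F Φ]

/-- **Section 1.** -/
theorem pos {g : M ≃ₗ[k] M} (hg : g ∈ U.H) :
    (∀ c, U.L g c = 0) ∨ (∀ c, U.L g c = 0 → c = 0) := by
  by_contra hcon
  push Not at hcon
  obtain ⟨⟨c0, hc0⟩, c1, hc1, hc1n⟩ := hcon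
  obtain ⟨θ, hθ⟩ := U.toQuad.exists_theta
  set L' := U.L g.symm with hL'
  -- `L' c ∈ k c1`
  have hLc1 : ∀ c, ∃ a : k, L' c = a • c1 := by
    intro c
    refine U.toQuad.mem_of_tr hc1n ?_
    rw [U.toQuad.tr_comm, ← U.L_adj hg, hc1, map_zero, mul_zero, map_zero]
  -- `r ≠ 0` with `L' r = 0`
  obtain ⟨r, hr0, hr⟩ : ∃ r, r ≠ 0 ∧ L' r = 0 := by
    obtain ⟨a, ha⟩ := hLc1 1
    obtain ⟨b, hb⟩ := hLc1 θ
    by_cases h0 : a = 0
    · exact ⟨1, one_ne_zero, by rw [ha, h0, zero_smul]⟩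
    · refine ⟨(b / a) • (1 : F) - θ, ?_, ?_⟩
      · intro h
        refine hθ (b / a) ?_
        rw [sub_eq_zero, Algebra.smul_def, mul_one] at h
        exact h
      · rw [map_sub, map_smul, ha, hb, smul_smul, div_mul_cancel₀ _ h0, sub_self]
  -- `L c ∈ k r`
  have hLr : ∀ c, ∃ a : k, U.L g c = a • r := by
    intro c
    refine U.toQuad.mem_of_tr hr0 ?_
    rw [U.toQuad.tr_comm, U.L_adj hg, hr, map_zero, mul_zero, map_zero]
  have hLL' : ∀ c, U.L g (L' c) = 0 := by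
    intro c
    obtain ⟨a, ha⟩ := hLc1 c
    rw [ha, map_smul, hc1, smul_zero]
  have hL'L : ∀ c, L' (U.L g c) = 0 := by
    intro c
    obtain ⟨a, ha⟩ := hLr c
    rw [ha, map_smul, hr, smul_zero]
  -- `L' ≠ 0`
  obtain ⟨b0, hb0⟩ : ∃ b, L' b ≠ 0 := by
    by_contra h
    push Not at h
    have h1 : U.sg (U.L g c0) = 0 := U.toQuad.tr_nondeg fun c => by
      rw [U.L_adj hg]
      change U.tr (c0 * U.sg (L' c)) = 0
      rw [h c, map_zero, mul_zero, map_zero]
    exact U.toQuad.sg_ne _ hc0 h1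
  -- the commutator
  have h1 : ∀ m, U.n (U.cn g (U.n m)) = 0 := by
    intro m
    rw [n_apply U m, cn_ε, n_gε]
    change U.ε (U.L g (L' (U.B m))) = 0
    rw [hLL', map_zero]
  have h2 : ∀ m, U.cn g (U.n (U.cn g m)) = 0 := by
    intro m
    rw [cn_apply U g m, n_gε, cn_ε]
    change g (U.ε (L' (U.L g (U.B (g.symm m))))) = 0
    rw [hL'L, map_zero, map_zero]
  set c := U.u 1 * U.cu g 1 * U.u 1 * U.cu g 1 with hc
  have hcm : ∀ m, c m = m + (U.n (U.cn g m) + U.cn g (U.n m)) := U.comm_apply g h1 h2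
  have hu : U.u 1 ∈ U.H := U.J_le (U.u_mem 1)
  have hcH : c ∈ U.H := mul_mem (mul_mem (mul_mem hu (U.cu_mem hg 1)) hu) (U.cu_mem hg 1)
  have hcJ : c ∈ U.J := by
    refine U.Jmax c hcH ?_ ?_ ?_
    · intro b
      rw [hcm, n_apply U (U.ε b), B_ε, map_zero, map_zero, add_zero, cn_ε, n_gε]
      change U.ε b + U.ε (U.L g (L' b)) = U.ε b
      rw [hLL', map_zero, add_zero]
    · intro m hm
      refine ⟨U.B (U.cn g m), ?_⟩
      rw [hcm, n_apply U m, hm, map_zero, map_zero, add_zero, n_apply]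
      abel
    · intro m
      rw [hcm, add_sub_cancel_left, map_add, n_apply, B_ε, zero_add, n_apply, cn_ε]
      change U.L g (L' (U.B m)) = 0
      exact hLL' _
  have hχ : U.χ c = 0 := by
    by_contra hne
    have key : ∀ b : F, ∃ a : k, b • U.χ c = a • U.y (g (U.ε c1)) := by
      intro b
      obtain ⟨m, hm⟩ := U.B_surj b
      obtain ⟨a, ha⟩ := hLc1 b
      refine ⟨a, ?_⟩
      have h3 := (U.JM c hcJ m).2
      rw [hm, hcm, add_sub_cancel_left, map_add, n_apply, y_ε, zero_add, n_apply, hm, cn_ε] at h3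
      change U.y (g (U.ε (L' b))) = _ at h3
      rw [ha, map_smul, map_smul, map_smul] at h3
      exact h3.symm
    obtain ⟨a1, ha1⟩ := key 1
    obtain ⟨a2, ha2⟩ := key θ
    rw [one_smul] at ha1
    have ha10 : a1 ≠ 0 := by
      rintro rfl
      rw [zero_smul] at ha1
      exact hne ha1
    have h3 : U.y (g (U.ε c1)) = a1⁻¹ • U.χ c := by
      rw [ha1, smul_smul, inv_mul_cancel₀ ha10, one_smul]
    rw [h3, smul_smul, ← algebraMap_smul F (a2 * a1⁻¹) (U.χ c)] at ha2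
    have h4 : (θ - algebraMap k F (a2 * a1⁻¹)) • U.χ c = 0 := by
      rw [sub_smul, ha2, sub_self]
    rcases smul_eq_zero.1 h4 with h5 | h5
    · exact hθ _ (sub_eq_zero.1 h5).symm
    · exact hne h5
  obtain ⟨s, hs⟩ := U.JA c hcJ hχ
  have heq : ∀ m, U.ε (U.L g (U.B (g.symm m))) + g (U.ε (L' (U.B m))) = U.ε (s • U.B m) := by
    intro m
    have h3 := hs m
    rw [hcm] at h3
    exact add_left_cancel h3
  have hs0 : s = 0 := by
    by_contra hs0
    obtain ⟨m, hm⟩ := U.B_surj b0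
    have h3 := heq m
    rw [hm] at h3
    have h4 : g (U.ε (L' b0)) = U.ε (s • b0 + U.L g (U.B (g.symm m))) := by
      rw [map_add, ← h3, add_comm, ← add_assoc, U.two_M, zero_add]
    have h5 := congrArg (U.cn g) h4
    rw [cn_gε, cn_ε] at h5
    change 0 = g (U.ε (L' _)) at h5
    rw [map_add, hL'L, add_zero] at h5
    have h6 : L' (s • b0) = 0 := by
      apply U.ε_inj
      apply g.injective
      rw [← h5, map_zero, map_zero]
    rw [map_smul] at h6
    rcases smul_eq_zero.1 h6 with h7 | h7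
    · exact hs0 h7
    · exact hb0 h7
  have heq' : ∀ m, U.ε (U.L g (U.B (g.symm m))) = g (U.ε (L' (U.B m))) := by
    intro m
    have h3 := heq m
    rw [hs0, zero_smul, map_zero] at h3
    have h4 := U.two_M (g (U.ε (L' (U.B m))))
    exact add_right_cancel (h3.trans h4.symm)
  -- `g (ε c1) ∈ e`
  obtain ⟨w, hw⟩ : ∃ w, g (U.ε c1) = U.ε w := by
    obtain ⟨m', hm'⟩ := U.B_surj c0
    have h3 := heq' (g m')
    rw [LinearEquiv.symm_apply_apply, hm'] at h3
    obtain ⟨a, ha⟩ := hLc1 (U.B (g m'))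
    rw [ha, map_smul, map_smul] at h3
    have ha0 : a ≠ 0 := by
      rintro rfl
      rw [zero_smul] at h3
      exact hc0 (U.ε_inj (by rw [h3, map_zero]))
    refine ⟨a⁻¹ • U.L g c0, ?_⟩
    rw [map_smul, h3, smul_smul, inv_mul_cancel₀ ha0, one_smul]
  have hst : ∀ b : k, ∀ c, ∃ c', U.cu g b (U.ε c) = U.ε c' := by
    intro b c
    obtain ⟨a, ha⟩ := hLc1 c
    refine ⟨c + (b * a) • w, ?_⟩
    rw [cu_apply, cn_ε]
    change U.ε c + b • g (U.ε (L' c)) = _
    rw [ha, map_smul, map_smul, hw, smul_smul, map_add, map_smul]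
  have hnt : ∀ b : k, (∀ c, U.cu g b (U.ε c) = U.ε c) → b = 0 := by
    intro b hb
    have h3 := hb b0
    rw [cu_apply, cn_ε] at h3
    change U.ε b0 + b • g (U.ε (L' b0)) = _ at h3
    have h4 : b • g (U.ε (L' b0)) = 0 := by
      have : U.ε b0 + b • g (U.ε (L' b0)) = U.ε b0 + 0 := by rw [h3, add_zero]
      exact add_left_cancel this
    rcases smul_eq_zero.1 h4 with h5 | h5
    · exact h5
    · exact absurd (U.ε_inj (by
        rw [map_zero]; exact g.injective (by rw [h5, map_zero]))) hb0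
  obtain ⟨b, hb1, hb2⟩ := U.toQuad.exists_b
  have hcomm : U.cu g 1 * U.cu g b = U.cu g b * U.cu g 1 := by
    rw [cu_mul, cu_mul, add_comm]
  rcases U.Se (U.cu g 1) (U.cu_mem hg 1) (U.cu g b) (U.cu_mem hg b) hcomm (U.cu_sq g 1)
    (U.cu_sq g b) (hst 1) (hst b) with h | h | h
  · exact one_ne_zero (hnt 1 h)
  · exact hb1 (hnt b h)
  · refine hb2 ?_
    have h3 : (1 : k) + b = 0 := by
      apply hnt
      intro c
      rw [← cu_mul]
      exact h c
    have h4 : (1 : k) + 1 = 0 := CharTwo.add_self_eq_zero 1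
    exact add_left_cancel (h3.trans h4.symm)

end

end Uni

end Cfsg.Agent.Omega.NOne.SU
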