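import Mathlib

/-!
# THEOREM UNI, group part: the `k`-structure of `W = Q/R`

* `Scal f` : every scalar of `k` acts on `W` through the nondegenerate biadditive form `f : W → W → k`.
* `Scal.module` : the resulting `k`-module structure.
* `Quo` : the quotient `W = Q/R` of a group `Q` with `[Q,Q] ≤ R ≤ Z(Q)`, and the commutator form.
-/

set_option autoImplicit false

namespace Cfsg.Agent.Omega.NOne.SU

/-! ### scalars from a form -/

section scal

variable {k W : Type*} [Field k] [AddCommGroup W]

/-- `f` is biadditive, alternating, nondegenerate, and every scalar acts on `W`. -/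
structure Scal (f : W → W → k) : Prop where
  add_left : ∀ x x' y, f (x + x') y = f x y + f x' y
  add_right : ∀ x y y', f x (y + y') = f x y + f x y'
  alt : ∀ x, f x x = 0
  symm : ∀ x y, f x y = f y x
  nondeg : ∀ x, (∀ y, f x y = 0) → x = 0
  ex : ∀ (a : k) x, ∃ x', ∀ y, f x' y = a * f x y

namespace Scal

variable {f : W → W → k} (h : Scal f)
include h

theorem zero_left (y : W) : f 0 y = 0 := by
  have := h.add_left 0 0 y
  rw [add_zero] at this
  simpa using this

theorem sub_left (x x' y : W) : f (x - x') y = f x y - f x' y := by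
  have := h.add_left (x - x') x' y
  rw [sub_add_cancel] at this
  rw [this]; ring

theorem ext {x x' : W} (H : ∀ y, f x y = f x' y) : x = x' := by
  rw [← sub_eq_zero]
  apply h.nondeg
  intro y
  rw [h.sub_left, H y, sub_self]

/-- the scalar multiplication -/
noncomputable def sm (a : k) (x : W) : W := (h.ex a x).choose

theorem f_sm (a : k) (x y : W) : f (h.sm a x) y = a * f x y := (h.ex a x).choose_spec y

/-- **the `k`-module structure of `W`** -/
noncomputable abbrev module : Module k W where
  smul a x := h.sm a x
  one_smul x := h.ext fun y => by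
    show f (h.sm 1 x) y = f x y
    rw [h.f_sm, one_mul]
  mul_smul a b x := h.ext fun y => by
    show f (h.sm (a * b) x) y = f (h.sm a (h.sm b x)) y
    rw [h.f_sm, h.f_sm, h.f_sm, mul_assoc]
  smul_zero a := h.ext fun y => by
    show f (h.sm a 0) y = f 0 y
    rw [h.f_sm, h.zero_left, mul_zero]
  smul_add a x x' := h.ext fun y => by
    show f (h.sm a (x + x')) y = f (h.sm a x + h.sm a x') y
    rw [h.f_sm, h.add_left, h.add_left, h.f_sm, h.f_sm, mul_add]
  add_smul a b x := h.ext fun y => by
    show f (h.sm (a + b) x) y = f (h.sm a x + h.sm b x) y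
    rw [h.f_sm, h.add_left, h.f_sm, h.f_sm, add_mul]
  zero_smul x := h.ext fun y => by
    show f (h.sm 0 x) y = f 0 y
    rw [h.f_sm, h.zero_left, zero_mul]

theorem f_smul_left (a : k) (x y : W) : letI := h.module; f (a • x) y = a * f x y := h.f_sm a x y

theorem f_smul_right (a : k) (x y : W) : letI := h.module; f x (a • y) = a * f x y := by
  show f x (h.sm a y) = a * f x y
  rw [h.symm, h.f_sm, h.symm y x]

/-- the bilinear form -/
noncomputable def bil : letI := h.module; W →ₗ[k] W →ₗ[k] k :=
  letI := h.module
  LinearMap.mk₂ k f h.add_left (fun a x y => by rw [smul_eq_mul]; exact h.f_smul_left a x y)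
    h.add_right (fun a x y => by rw [smul_eq_mul]; exact h.f_smul_right a x y)

/-- an additive surjection `g` with `f (g x) (g y) = c f x y` is `k`-linear -/
theorem map_smul_of {c : k} {g : W → W} (hg : Function.Surjective g)
    (hf : ∀ x y, f (g x) (g y) = c * f x y) (a : k) (x : W) :
    letI := h.module; g (a • x) = a • g x := by
  let _ := h.module
  refine h.ext fun y => ?_
  obtain ⟨y, rfl⟩ := hg y
  rw [hf, h.f_smul_left, h.f_smul_left, hf]
  ring

end Scal

end scal

end Cfsg.Agent.Omega.NOne.SU
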