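import Cfsg.Agent.Omega.NOne.SU.Opp

/-!
# THEOREM UNI, section 3: `J` is transitive on the planes opposite to `e`

* `Uni.exists_opp`: there is an opposite plane.
* `Uni.trans`: two opposite planes are conjugate under `J`.
* `Uni.exists_fix`: some opposite plane is normalised by the torus `t`.
* `Uni.exists_v`: the output consumed by sections 4, 5.
-/

set_option autoImplicit false

namespace Cfsg.Agent.Omega.NOne.SU

/-- `j ↦ j (τ j τ⁻¹)⁻¹` is onto if it is injective. -/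
theorem conj_surj {Γ : Type*} [Group Γ] (A : Subgroup Γ) [Finite A] (τ : Γ)
    (hn : ∀ a ∈ A, τ * a * τ⁻¹ ∈ A) (hf : ∀ a ∈ A, τ * a * τ⁻¹ = a → a = 1) {x : Γ}
    (hx : x ∈ A) : ∃ j ∈ A, x = j * (τ * j * τ⁻¹)⁻¹ := by
  let φ : A → A := fun j => ⟨j * (τ * j * τ⁻¹)⁻¹, mul_mem j.2 (inv_mem (hn j j.2))⟩
  have hinj : Function.Injective φ := by
    intro a b hab
    have h1 : (a : Γ) * (τ * a * τ⁻¹)⁻¹ = b * (τ * b * τ⁻¹)⁻¹ := congrArg Subtype.val hab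
    have h2 : τ * ((b : Γ)⁻¹ * a) * τ⁻¹ = (b : Γ)⁻¹ * a := by
      have h3 : (b : Γ)⁻¹ * a = (τ * b * τ⁻¹)⁻¹ * (τ * a * τ⁻¹) := by
        have h4 := congrArg (fun t => (b : Γ)⁻¹ * t * (τ * a * τ⁻¹)) h1
        calc (b : Γ)⁻¹ * a = (b : Γ)⁻¹ * (a * (τ * a * τ⁻¹)⁻¹) * (τ * a * τ⁻¹) := by group
          _ = (b : Γ)⁻¹ * (b * (τ * b * τ⁻¹)⁻¹) * (τ * a * τ⁻¹) := h4
          _ = _ := by group
      calc τ * ((b : Γ)⁻¹ * a) * τ⁻¹ = (τ * b * τ⁻¹)⁻¹ * (τ * a * τ⁻¹) := by group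
        _ = _ := h3.symm
    have h5 := hf _ (mul_mem (inv_mem b.2) a.2) h2
    apply Subtype.ext
    exact (inv_mul_eq_one.1 h5).symm
  obtain ⟨j, hj⟩ := Finite.surjective_of_injective hinj ⟨x, hx⟩
  exact ⟨j, j.2, (congrArg Subtype.val hj).symm⟩

namespace Uni

variable {k F M Φ : Type*} [Field k] [Field F] [Algebra k F] [AddCommGroup M] [Module k M]
    [AddCommGroup Φ] [Module k Φ] [Module F Φ] (U : Uni k F M Φ)

/-- the elements which act on `e`, `P/e`, `M/P` as scalars. -/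
structure Tor (τ : M ≃ₗ[k] M) (α β γ : F) : Prop where
  H : ∀ g ∈ U.H, τ * g * τ⁻¹ ∈ U.H
  e : ∀ c, τ (U.ε c) = U.ε (α * c)
  B : ∀ m, U.B (τ m) = β * U.B m
  y : ∀ m, U.B m = 0 → U.y (τ m) = γ • U.y m
  α0 : α ≠ 0
  β0 : β ≠ 0

variable {U}

namespace Tor

variable {τ : M ≃ₗ[k] M} {α β γ : F} (h : U.Tor τ α β γ)
include h

theorem e' (c : F) : τ.symm (U.ε c) = U.ε (α⁻¹ * c) := by
  rw [LinearEquiv.symm_apply_eq, h.e, ← mul_assoc, mul_inv_cancel₀ h.α0, one_mul]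

theorem B' (m : M) : U.B (τ.symm m) = β⁻¹ * U.B m := by
  have h1 := h.B (τ.symm m)
  rw [LinearEquiv.apply_symm_apply] at h1
  rw [h1, ← mul_assoc, inv_mul_cancel₀ h.β0, one_mul]

theorem sub (j : M ≃ₗ[k] M) (m : M) :
    (τ * j * τ⁻¹) m - m = τ (j (τ.symm m) - τ.symm m) := by
  have _ := h
  rw [map_sub, LinearEquiv.apply_symm_apply]; rfl

theorem mem_J {j : M ≃ₗ[k] M} (hj : j ∈ U.J) : τ * j * τ⁻¹ ∈ U.J := by
  refine U.Jmax _ (h.H j (U.J_le hj)) ?_ ?_ ?_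
  · intro c
    have e1 : (τ * j * τ⁻¹) (U.ε c) = τ (j (τ.symm (U.ε c))) := rfl
    rw [e1, h.e', U.Je j hj, h.e, ← mul_assoc, mul_inv_cancel₀ h.α0, one_mul]
  · intro m hm
    have h1 : U.B (τ.symm m) = 0 := by rw [h.B', hm, mul_zero]
    rw [h.sub, U.JP j hj _ h1, add_sub_cancel_left, h.e]
    exact ⟨_, rfl⟩
  · intro m
    rw [h.sub, h.B, (U.JM j hj _).1, mul_zero]

theorem χ [CharP k 2] {j : M ≃ₗ[k] M} (hj : j ∈ U.J) :
    U.χ (τ * j * τ⁻¹) = (γ * β⁻¹) • U.χ j := by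
  obtain ⟨m, hm⟩ := U.B_surj 1
  have h1 := (U.JM _ (h.mem_J hj) m).2
  rw [hm, one_smul] at h1
  have h2 := U.JM j hj (τ.symm m)
  rw [← h1, h.sub, h.y _ h2.1, h2.2, h.B', hm, mul_one, mul_smul]

theorem free [CharP k 2] (h1 : γ ≠ β) (h2 : α ≠ β) :
    ∀ j ∈ U.J, τ * j * τ⁻¹ = j → j = 1 := by
  intro j hj hjj
  have h3 : U.χ j = 0 := by
    have h4 := h.χ hj
    rw [hjj] at h4
    have h5 : (1 - γ * β⁻¹) • U.χ j = 0 := by rw [sub_smul, one_smul, ← h4, sub_self]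
    rcases smul_eq_zero.1 h5 with h6 | h6
    · exfalso
      apply h1
      have h7 := (sub_eq_zero.1 h6).symm
      rw [← div_eq_mul_inv, div_eq_one_iff_eq h.β0] at h7
      exact h7
    · exact h6
  obtain ⟨a, ha⟩ := U.JA j hj h3
  obtain ⟨m, hm⟩ := U.B_surj 1
  have h4 := h.sub j m
  rw [hjj, ha, ha, add_sub_cancel_left, add_sub_cancel_left, h.e, h.B', hm, mul_one] at h4
  have h5 := U.ε_inj h4
  have h6 : (1 - α * β⁻¹) * algebraMap k F a = 0 := by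
    rw [Algebra.smul_def, Algebra.smul_def, mul_one] at h5
    linear_combination h5
  have h7 : a = 0 := by
    rcases mul_eq_zero.1 h6 with h8 | h8
    · exfalso
      apply h2
      have h9 := (sub_eq_zero.1 h8).symm
      rw [← div_eq_mul_inv, div_eq_one_iff_eq h.β0] at h9
      exact h9
    · exact (map_eq_zero_iff _ (algebraMap k F).injective).1 h8
  ext m'
  rw [ha, h7, zero_smul, map_zero, add_zero]; rfl

end Tor

section
variable [CharP k 2]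

theorem tor_hel {g : M ≃ₗ[k] M} {δ : k} (h : U.Opp g δ) {z : k} (hz : z ≠ 0) :
    U.Tor (U.hel g δ z) (algebraMap k F z) (algebraMap k F z⁻¹) 1 where
  H := fun g' hg' => mul_mem (mul_mem (h.hel_mem z) hg') (inv_mem (h.hel_mem z))
  e := fun c => by rw [h.hel_ε hz, ← map_smul, Algebra.smul_def]
  B := fun m => by rw [h.B_hel hz, Algebra.smul_def]
  y := fun m hm => by
    obtain ⟨c, hc⟩ := h.hel_P hz hm
    rw [one_smul, ← sub_eq_zero, ← map_sub, hc, U.y_ε]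
  α0 := by
    rw [Ne, map_eq_zero_iff _ (algebraMap k F).injective]; exact hz
  β0 := by
    rw [Ne, map_eq_zero_iff _ (algebraMap k F).injective]; exact inv_ne_zero hz

theorem sq_ne {z : k} (hz : z ≠ 0) (hz1 : z ≠ 1) : z ≠ z⁻¹ := by
  intro h
  apply hz1
  have h1 : z * z = 1 := by
    nth_rw 2 [h]; exact mul_inv_cancel₀ hz
  have h2 : (2 : k) = 0 := CharTwo.two_eq_zero
  have h3 : (z - 1) * (z - 1) = 0 := by linear_combination h1 + (1 - z) * h2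
  have h4 := mul_self_eq_zero.1 h3
  exact sub_eq_zero.1 h4

variable (U) in
include U in
/-- some conjugate of `e` is opposite to `e`. -/
theorem exists_opp [IsScalarTower k F Φ] : ∃ g δ, U.Opp g δ := by
  by_contra hcon
  push Not at hcon
  have h1 : ∀ g ∈ U.H, ∀ c, U.L g c = 0 := by
    intro g hg
    rcases U.pos hg with h | h
    · exact h
    · obtain ⟨δ, hδ⟩ := U.exists_δ hg h
      exact absurd hδ (hcon g δ)
  have h2 := U.Om (LinearMap.ker U.B) fun g hg c => by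
    rw [LinearMap.mem_ker]; exact h1 g hg c
  obtain ⟨m, hm⟩ := U.B_surj 1
  have h3 : m ∈ LinearMap.ker U.B := by rw [h2]; trivial
  rw [LinearMap.mem_ker, hm] at h3
  exact one_ne_zero h3

/-- **Section 3**: transitivity. -/
theorem Opp.trans [Finite M] {g₁ g₂ : M ≃ₗ[k] M} {δ₁ δ₂ : k} (h₁ : U.Opp g₁ δ₁)
    (h₂ : U.Opp g₂ δ₂) : ∃ j ∈ U.J, ∀ c, ∃ c', j (g₁ (U.ε c)) = g₂ (U.ε c') := by
  obtain ⟨z, hz0, hz1⟩ := U.toQuad.exists_b
  have hfin : Finite (M ≃ₗ[k] M) :=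
    Finite.of_injective (fun e : M ≃ₗ[k] M => (e : M → M)) DFunLike.coe_injective
  set η₁ := U.hel g₁ δ₁ z with hη₁
  set η₂ := U.hel g₂ δ₂ z with hη₂
  have T₁ := tor_hel h₁ hz0
  rw [← hη₁] at T₁
  have halg : algebraMap k F z ≠ algebraMap k F z⁻¹ := fun h =>
    sq_ne hz0 hz1 ((algebraMap k F).injective h)
  have halg1 : (1 : F) ≠ algebraMap k F z⁻¹ := by
    intro h
    rw [← map_one (algebraMap k F)] at h
    have := (algebraMap k F).injective h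
    exact hz1 (by rw [← inv_inv z, ← this, inv_one])
  -- `η₂ η₁⁻¹ ∈ J`
  have hx : η₂ * η₁⁻¹ ∈ U.J := by
    refine U.Jmax _ (mul_mem (h₂.hel_mem z) (inv_mem (h₁.hel_mem z))) ?_ ?_ ?_
    · intro c
      have e1 : (η₂ * η₁⁻¹) (U.ε c) = η₂ (η₁.symm (U.ε c)) := rfl
      rw [e1, T₁.e', hη₂, h₂.hel_ε hz0, ← map_smul, Algebra.smul_def, ← mul_assoc,
        mul_inv_cancel₀ T₁.α0, one_mul]
    · intro m hm
      have hm' : U.B (η₁.symm m) = 0 := by rw [T₁.B', hm, mul_zero]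
      obtain ⟨c₁, hc₁⟩ := h₁.hel_P hz0 hm'
      obtain ⟨c₂, hc₂⟩ := h₂.hel_P hz0 hm'
      refine ⟨c₂ - c₁, ?_⟩
      rw [← hη₁, LinearEquiv.apply_symm_apply] at hc₁
      rw [← hη₂] at hc₂
      have e1 : (η₂ * η₁⁻¹) m = η₂ (η₁.symm m) := rfl
      rw [e1, map_sub, ← hc₁, ← hc₂]
      abel
    · intro m
      have e1 : (η₂ * η₁⁻¹) m = η₂ (η₁.symm m) := rfl
      rw [e1, map_sub, hη₂, h₂.B_hel hz0, T₁.B', Algebra.smul_def, ← mul_assoc,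
        mul_inv_cancel₀ T₁.β0, one_mul, sub_self]
  obtain ⟨j, hj, hjx⟩ := conj_surj U.J η₁ (fun a ha => T₁.mem_J ha) (T₁.free halg1 halg) hx
  have hconj : η₂ * j = j * η₁ := by
    calc η₂ * j = (η₂ * η₁⁻¹) * (η₁ * j) := by group
      _ = j * (η₁ * j * η₁⁻¹)⁻¹ * (η₁ * j) := by rw [hjx]
      _ = j * η₁ := by group
  refine ⟨j, hj, fun c => ?_⟩
  set m := j (g₁ (U.ε c)) with hm
  have h3 : η₂ m = z⁻¹ • m := by
    have e1 : η₂ m = (η₂ * j) (g₁ (U.ε c)) := rfl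
    have e2 : (j * η₁) (g₁ (U.ε c)) = j (η₁ (g₁ (U.ε c))) := rfl
    rw [e1, hconj, e2, hη₁, h₁.hel_g hz0, map_smul]
  rw [hη₂, h₂.hel_apply hz0] at h3
  have hzz : z - z⁻¹ ≠ 0 := sub_ne_zero.2 (sq_ne hz0 hz1)
  have h4 : U.n (U.cn g₂ m) = 0 := by
    have h5 := congrArg (fun x => U.n (U.cn g₂ x)) h3
    simp only [map_add, map_smul, h₂.cnc, U.cn_cn, smul_zero, add_zero] at h5
    have h6 : (z - z⁻¹) • U.n (U.cn g₂ m) = 0 := by
      have hd : δ₂⁻¹ * δ₂ = 1 := inv_mul_cancel₀ h₂.ne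
      have h7 : U.n (U.cn g₂ m) + ((z - 1) * δ₂⁻¹) • δ₂ • U.n (U.cn g₂ m) =
          z • U.n (U.cn g₂ m) := by
        rw [smul_smul, mul_assoc, hd, mul_one]; module
      rw [h7] at h5
      rw [sub_smul, h5, sub_self]
    rcases smul_eq_zero.1 h6 with h7 | h7
    · exact absurd h7 hzz
    · exact h7
  rw [h4, smul_zero, add_zero] at h3
  have hz2 : z⁻¹ - 1 ≠ 0 := by
    intro h
    have h5 := sub_eq_zero.1 h
    exact hz1 (by rw [← inv_inv z, h5, inv_one])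
  refine ⟨δ₂⁻¹ • U.L g₂.symm (U.B m), ?_⟩
  have h5 : (z⁻¹ - 1) • m = (z⁻¹ - 1) • (δ₂⁻¹ • U.cn g₂ (U.n m)) := by
    rw [smul_smul, sub_smul, one_smul, ← h3]
    abel
  have h6 := congrArg (fun x => (z⁻¹ - 1)⁻¹ • x) h5
  simp only [smul_smul, inv_mul_cancel₀ hz2, one_smul] at h6
  rw [← mul_assoc, inv_mul_cancel₀ hz2, one_mul] at h6
  rw [map_smul, map_smul]
  exact h6

omit [CharP k 2] in
theorem tor_t (z : Fˣ) : U.Tor (U.t z) ((z : F) * (U.sg z)⁻¹) ((z : F) ^ 2) (z : F) where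
  H := U.tH z
  e := U.te z
  B := U.tB z
  y := U.ty z
  α0 := mul_ne_zero z.ne_zero (inv_ne_zero (U.toQuad.sg_ne _ z.ne_zero))
  β0 := pow_ne_zero 2 z.ne_zero

/-- an opposite plane normalised by the torus. -/
theorem exists_fix [Finite M] [IsScalarTower k F Φ] :
    ∃ g δ, U.Opp g δ ∧ ∀ z c, ∃ c', U.t z (g (U.ε c)) = g (U.ε c') := by
  have hfF := U.toQuad.finite_F
  have hfin : Finite (M ≃ₗ[k] M) :=
    Finite.of_injective (fun e : M ≃ₗ[k] M => (e : M → M)) DFunLike.coe_injective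
  obtain ⟨z0, hz0⟩ := IsCyclic.exists_generator (α := Fˣ)
  -- the norm of `z0`
  have hN : (z0 : F) * U.sg z0 ≠ 1 := by
    intro h
    let ν : Fˣ →* F :=
      { toFun := fun z => (z : F) * U.sg z
        map_one' := by simp
        map_mul' := fun a b => by
          simp only [Units.val_mul, map_mul]; ring }
    have h1 : ∀ z : Fˣ, ν z = 1 := by
      intro z
      obtain ⟨n, rfl⟩ := hz0 z
      have h2 : ν z0 = 1 := h
      have h3 : ∀ (n : ℤ), ν (z0 ^ n) = 1 := by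
        intro n
        have h4 : (MonoidHom.toHomUnits ν) (z0 ^ n) = 1 := by
          rw [map_zpow]
          have h5 : (MonoidHom.toHomUnits ν) z0 = 1 := Units.ext h2
          rw [h5, one_zpow]
        have h6 := congrArg Units.val h4
        simpa using h6
      exact h3 n
    obtain ⟨b, hb0, hb1⟩ := U.toQuad.exists_b
    have hb0' : algebraMap k F b ≠ 0 := by
      rw [Ne, map_eq_zero_iff _ (algebraMap k F).injective]; exact hb0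
    have h2 : algebraMap k F b * U.sg (algebraMap k F b) = 1 := h1 (Units.mk0 _ hb0')
    rw [AlgEquiv.commutes, ← map_mul, ← map_one (algebraMap k F)] at h2
    have h3 := (algebraMap k F).injective h2
    exact sq_ne hb0 hb1 (eq_inv_of_mul_eq_one_left h3)
  set τ := U.t z0 with hτ
  have T := tor_t (U := U) z0
  rw [← hτ] at T
  have hγβ : (z0 : F) ≠ (z0 : F) ^ 2 := by
    intro h
    apply hN
    have h1 : (z0 : F) = 1 := by
      have h2 : (z0 : F) * (z0 : F) = (z0 : F) * 1 := by rw [mul_one, ← sq]; exact h.symm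
      exact mul_left_cancel₀ z0.ne_zero h2
    rw [h1, map_one, mul_one]
  have hαβ : (z0 : F) * (U.sg z0)⁻¹ ≠ (z0 : F) ^ 2 := by
    intro h
    apply hN
    rw [sq] at h
    have h1 := mul_left_cancel₀ z0.ne_zero h
    have h2 : (z0 : F) * U.sg z0 = (U.sg z0)⁻¹ * U.sg z0 := by rw [h1]
    rw [h2, inv_mul_cancel₀ (U.toQuad.sg_ne _ z0.ne_zero)]
  obtain ⟨g₁, δ₁, h₁⟩ := exists_opp U
  have hg₂ : τ * g₁ * τ⁻¹ ∈ U.H := T.H _ h₁.mem
  have hL₂ : ∀ c, U.L (τ * g₁ * τ⁻¹) c = (z0 : F) ^ 2 *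
      U.L g₁ (((z0 : F) * (U.sg z0)⁻¹)⁻¹ * c) := by
    intro c
    have e1 : U.L (τ * g₁ * τ⁻¹) c = U.B (τ (g₁ (τ.symm (U.ε c)))) := rfl
    rw [e1, T.B, T.e']
    rfl
  obtain ⟨δ₂, h₂⟩ := U.exists_δ hg₂ (by
    intro c hc
    rw [hL₂] at hc
    rcases mul_eq_zero.1 hc with h | h
    · exact absurd h T.β0
    · rcases mul_eq_zero.1 (h₁.inj _ h) with h' | h'
      · exact absurd h' (inv_ne_zero T.α0)
      · exact h')
  obtain ⟨j0, hj0, hj⟩ := Opp.trans h₁ h₂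
  obtain ⟨i, hi, hix⟩ := conj_surj U.J τ (fun a ha => T.mem_J ha) (T.free hγβ hαβ) (inv_mem hj0)
  -- `j = i⁻¹` : `j = (τ j τ⁻¹) j0`
  have hji : i⁻¹ = (τ * i⁻¹ * τ⁻¹) * j0 := by
    have h3 : j0 = (τ * i * τ⁻¹) * i⁻¹ := by
      rw [← inv_inv j0, hix]; group
    rw [h3]; group
  have hmem : i⁻¹ * g₁ ∈ U.H := mul_mem (inv_mem (U.J_le hi)) h₁.mem
  have hLg : ∀ c, U.L (i⁻¹ * g₁) c = U.L g₁ c := by
    intro c
    have e1 : U.L (i⁻¹ * g₁) c = U.B ((i⁻¹ : M ≃ₗ[k] M) (g₁ (U.ε c))) := rfl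
    have h3 := (U.JM i⁻¹ (inv_mem hi) (g₁ (U.ε c))).1
    rw [map_sub, sub_eq_zero] at h3
    rw [e1, h3]; rfl
  obtain ⟨δ, h⟩ := U.exists_δ hmem (fun c hc => h₁.inj c (by rw [← hLg]; exact hc))
  refine ⟨i⁻¹ * g₁, δ, h, ?_⟩
  -- one generator
  have hgen : ∀ c, ∃ c', (U.t z0)⁻¹ ((i⁻¹ * g₁) (U.ε c)) = (i⁻¹ * g₁) (U.ε c') := by
    intro c
    obtain ⟨c', hc'⟩ := hj c
    refine ⟨((z0 : F) * (U.sg z0)⁻¹)⁻¹ * c', ?_⟩
    have e1 : (i⁻¹ * g₁) (U.ε c) = (i⁻¹ : M ≃ₗ[k] M) (g₁ (U.ε c)) := rfl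
    have e2 : ((τ * i⁻¹ * τ⁻¹) * j0) (g₁ (U.ε c)) =
      (τ * i⁻¹ * τ⁻¹) (j0 (g₁ (U.ε c))) := rfl
    have e3 : (τ * i⁻¹ * τ⁻¹) ((τ * g₁ * τ⁻¹) (U.ε c')) =
      (τ * (i⁻¹ * g₁) * τ⁻¹) (U.ε c') := by
      have : (τ * i⁻¹ * τ⁻¹) * (τ * g₁ * τ⁻¹) = τ * (i⁻¹ * g₁) * τ⁻¹ := by group
      rw [← this]; rfl
    have e4 : (τ * (i⁻¹ * g₁) * τ⁻¹) (U.ε c') = τ ((i⁻¹ * g₁) (τ.symm (U.ε c'))) := rfl
    have e5 : (i⁻¹ : M ≃ₗ[k] M) (g₁ (U.ε c)) = ((τ * i⁻¹ * τ⁻¹) * j0) (g₁ (U.ε c)) :=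
      congrArg (fun x : M ≃ₗ[k] M => x (g₁ (U.ε c))) hji
    rw [e1, e5, e2, hc', e3, e4, T.e']
    exact LinearEquiv.symm_apply_apply _ _
  intro z
  have hz : z ∈ Submonoid.powers (z0⁻¹) := by
    have h3 : z ∈ Subgroup.zpowers (z0⁻¹) := by
      rw [Subgroup.zpowers_inv]; exact hz0 z
    rwa [← mem_powers_iff_mem_zpowers] at h3
  obtain ⟨n, rfl⟩ := hz
  simp only [map_pow, map_inv]
  induction n with
  | zero => intro c; exact ⟨c, by rw [pow_zero]; rfl⟩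
  | succ n ih =>
    intro c
    obtain ⟨c', hc'⟩ := hgen c
    obtain ⟨c'', hc''⟩ := ih c'
    refine ⟨c'', ?_⟩
    rw [pow_succ]
    have e1 : ((U.t z0)⁻¹ ^ n * (U.t z0)⁻¹) ((i⁻¹ * g₁) (U.ε c)) =
      ((U.t z0)⁻¹ ^ n) ((U.t z0)⁻¹ ((i⁻¹ * g₁) (U.ε c))) := rfl
    rw [e1, hc', hc'']

omit [CharP k 2] in
/-- decomposition `M = e + (e^⊥ ∩ (g e)^⊥) + g e`. -/
theorem Opp.decomp {g : M ≃ₗ[k] M} {δ : k} (h : U.Opp g δ) (m : M) :
    ∃ a w, m = U.ε a + w + U.v g δ (U.B m) ∧ U.B w = 0 ∧ ∀ s, U.f (U.v g δ s) w = 0 := by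
  set w := m - δ⁻¹ • U.n (U.cn g m) - δ⁻¹ • U.cn g (U.n m) with hw
  have h1 : U.n w = 0 := by
    rw [hw, map_sub, map_sub, map_smul, map_smul, U.n_n, smul_zero, sub_zero, h.ncn, smul_smul,
      inv_mul_cancel₀ h.ne, one_smul, sub_self]
  have h2 : U.cn g w = 0 := by
    rw [hw, map_sub, map_sub, map_smul, map_smul, h.cnc, U.cn_cn, smul_zero, sub_zero, smul_smul,
      inv_mul_cancel₀ h.ne, one_smul, sub_self]
  have hBw : U.B w = 0 := by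
    rw [U.n_apply] at h1
    exact U.ε_inj (by rw [h1, map_zero])
  refine ⟨δ⁻¹ • U.B (U.cn g m), w, ?_, hBw, ?_⟩
  · have h3 : U.ε (δ⁻¹ • U.B (U.cn g m)) = δ⁻¹ • U.n (U.cn g m) := by rw [map_smul]; rfl
    have h4 : U.v g δ (U.B m) = δ⁻¹ • U.cn g (U.n m) := rfl
    rw [h3, h4, hw]; abel
  · intro s
    obtain ⟨c, hc⟩ := h.v_eq_g s
    rw [hc, U.f_left h.mem, U.fe]
    have h3 : U.B (g.symm w) = 0 := by
      rw [U.cn_apply] at h2
      apply U.ε_inj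
      apply g.injective
      rw [h2, map_zero, map_zero]
    rw [h3, map_zero, mul_zero, map_zero]

variable (U) in
include U in
/-- **Output of sections 1-3.** -/
theorem exists_v [Finite M] [IsScalarTower k F Φ] : ∃ g0 ∈ U.H, ∃ v : F →ₗ[k] M,
    (∀ s, U.B (v s) = s) ∧ (∀ s, ∃ s', g0 (U.ε s) = v s') ∧
    (∀ s, ∃ s', v s = g0 (U.ε s')) ∧
    (∀ s s', U.f (v s) (v s') = 0) ∧
    (∀ (z : Fˣ) s, U.t z (v s) = v ((z : F) ^ 2 * s)) ∧
    (∀ b : k, ∃ w ∈ U.H, (∀ a, w (U.ε a) = U.ε a + b • v a) ∧ (∀ s, w (v s) = v s) ∧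
      ∀ u, (∀ s, U.f (v s) u = 0) → w u = u) ∧
    (∀ g ∈ U.H, (∀ c, U.B (g (U.ε c)) = 0 → c = 0) →
      ∃ j ∈ U.J, ∀ s, ∃ s', j (v s) = g (U.ε s')) ∧
    (∀ m, ∃ a w, m = U.ε a + w + v (U.B m) ∧ U.B w = 0 ∧ ∀ s, U.f (v s) w = 0) := by
  obtain ⟨g, δ, h, hfix⟩ := exists_fix (U := U)
  refine ⟨g, h.mem, U.v g δ, h.B_v, fun s => ⟨_, h.g_eq_v s⟩, h.v_eq_g, h.f_v_v, ?_,
    h.exists_w, ?_, h.decomp⟩
  · intro z s
    obtain ⟨c, hc⟩ := h.v_eq_g s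
    obtain ⟨c', hc'⟩ := hfix z c
    have h1 : U.t z (U.v g δ s) = U.v g δ (U.L g c') := by rw [hc, hc', h.g_eq_v]
    have h2 := U.tB z (U.v g δ s)
    rw [h.B_v, h1, h.B_v] at h2
    rw [h1, h2]
  · intro g' hg' hop
    obtain ⟨δ', h'⟩ := U.exists_δ hg' hop
    obtain ⟨j, hj, hjj⟩ := Opp.trans h h'
    refine ⟨j, hj, fun s => ?_⟩
    obtain ⟨c, hc⟩ := h.v_eq_g s
    rw [hc]
    exact hjj c

end

end Uni

end Cfsg.Agent.Omega.NOne.SU
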