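import Cfsg.Agent.Omega.NOne.SU.ModelV
import Cfsg.Agent.RankTwoClose.UFour.OfPar

/-!
# `Φ = 0` (type `U₄(q)`): the two parabolics

* `CV_le` : `C_G(V) = V`;
* `model` : `X = ⟨Q, Q'⟩` acts on `V` as `SL(2, F)` on the hermitian matrices;
* `LL` : the subgroup of `C_G(R)` generated by `Q` and the conjugates of `V` under `N_G(R)`; `LL/Q = SL(2, k)`.
-/

set_option autoImplicit false
set_option linter.unusedSectionVars false

open Subgroup

namespace Cfsg.Agent.Omega.NOne.SU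

open RankTwoClose RankTwoClose.SLTwo RankTwoClose.UFour

variable {G : Type*} [Group G] {k F : Type*} [Field k] [Field F] [Algebra k F] [CharP k 2]
variable {T : Quad k F} {S : Sylow 2 G} {V R Q Q' : Subgroup G} {v : k → F → k → G} {p p' : G → F}

theorem hM_add (T : Quad k F) (a : k) (b : F) (d a' : k) (b' : F) (d' : k) :
    hM T (a + a') (b + b') (d + d') = hM T a b d + hM T a' b' d' := by
  ext i j
  fin_cases i <;> fin_cases j <;> simp [hM]

theorem hM_zero (T : Quad k F) : hM T 0 0 0 = 0 := by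
  ext i j
  fin_cases i <;> fin_cases j <;> simp [hM]

theorem hM_herm (T : Quad k F) (a : k) (b : F) (d : k) : (hM T a b d).transpose.map T.sg = hM T a b d := by
  ext i j
  fin_cases i <;> fin_cases j <;> simp [hM, T.sg_sg]

section mod

variable (I : GIn T S V R Q Q' v p p')
include I

theorem GIn.exists_t (x : V) : ∃ t : k × F × k, v t.1 t.2.1 t.2.2 = (x : G) := by
  obtain ⟨a, b, d, h⟩ := I.v_surj x x.2
  exact ⟨(a, b, d), h⟩

/-- the hermitian matrix of an element of `V` -/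
noncomputable def GIn.hV (x : V) : Matrix (Fin 2) (Fin 2) F :=
  hM T (I.exists_t x).choose.1 (I.exists_t x).choose.2.1 (I.exists_t x).choose.2.2

theorem GIn.hV_v {a : k} {b : F} {d : k} {x : V} (h : (x : G) = v a b d) : I.hV x = hM T a b d := by
  have h1 := (I.exists_t x).choose_spec
  obtain ⟨h2, h3, h4⟩ := I.v_ext (h1.trans h)
  unfold GIn.hV
  rw [h2, h3, h4]

/-- the model of the action of `X` on `V`, if `C_X(V) = V` -/
noncomputable def GIn.model (E : Ext V R Q Q' p') (hC : centralizer (V : Set G) ≤ V) :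
    Model F (T.sg : F ≃+* F) V (Q ⊔ Q') where
  le := I.V_X
  π := I.pi
  surj := I.pi_surj E
  ker x := by
    rw [I.pi_eq_one]
    exact ⟨fun h => hC h, fun h => I.V_CV h⟩
  norm := I.X_NV
  h := I.hV
  mul x y := by
    obtain ⟨a, b, d, hx⟩ := I.v_surj x x.2
    obtain ⟨a', b', d', hy⟩ := I.v_surj y y.2
    rw [I.hV_v hx.symm, I.hV_v hy.symm, ← hM_add]
    apply I.hV_v
    rw [coe_mul, ← hx, ← hy, I.v_mul]
  herm x := by
    obtain ⟨a, b, d, hx⟩ := I.v_surj x x.2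
    rw [I.hV_v hx.symm]
    exact hM_herm T a b d
  inj x h := by
    obtain ⟨a, b, d, hx⟩ := I.v_surj x x.2
    rw [I.hV_v hx.symm, ← hM_zero T] at h
    obtain ⟨rfl, rfl, rfl⟩ := hM_inj T h
    apply Subtype.ext
    rw [← hx, I.v_zero]; rfl
  onto M hM' := by
    have h00 : T.sg (M 0 0) = M 0 0 := congrFun (congrFun hM' 0) 0
    have h11 : T.sg (M 1 1) = M 1 1 := congrFun (congrFun hM' 1) 1
    have h10 : T.sg (M 0 1) = M 1 0 := congrFun (congrFun hM' 1) 0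
    obtain ⟨a, ha⟩ := T.fix _ h00
    obtain ⟨d, hd⟩ := T.fix _ h11
    refine ⟨⟨v a (M 0 1) d, I.v_mem _ _ _⟩, ?_⟩
    rw [I.hV_v rfl]
    ext i j
    fin_cases i <;> fin_cases j
    · exact ha
    · rfl
    · exact h10
    · exact hd
  act x y := by
    obtain ⟨a, b, d, hy⟩ := I.v_surj y y.2
    obtain ⟨a', b', d', hxy⟩ := I.v_surj _ (conj_mem (I.X_NV x.2) y.2)
    rw [I.hV_v hy.symm, I.hV_v (a := a') (b := b') (d := d') hxy.symm]
    exact I.actV_pi x a b d a' b' d' (by rw [hy]; exact hxy.symm)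

end mod

namespace Out

variable {Φ : Type*} [AddCommGroup Φ] [Module F Φ] {φ χ : G → Φ} {hm : Φ → Φ → F}
    {W : Type*} [AddCommGroup W] [Module F W] {w : G → W} {g : W → W → F} {f₀ : W}
    {ι : Φ →ₗ[F] W} (D : Out T V R Q Q' v p φ χ hm w g f₀ ι) (I : GIn T S V R Q Q' v p p')

section cv

variable [Subsingleton Φ] (f : Fld T V R Q Q' v p φ χ)
include D I f

/-- `C_Q(V) ≤ V` -/
theorem CQV_le {y : G} (hy : y ∈ Q) (hc : y ∈ centralizer (V : Set G)) : y ∈ V := by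
  obtain ⟨a, b, rfl⟩ := (f.φ_ker y hy hc).1 (Subsingleton.elim _ _)
  exact I.v_mem _ _ _

/-- **`C_G(V) ≤ V`** -/
theorem CV_le : centralizer (V : Set G) ≤ V := by
  intro c hc
  have hcR : c ∈ centralizer (R : Set G) := centralizer_le I.R_V hc
  have hcN := I.CR_NR hcR
  have hcv : ∀ x ∈ V, c * x * c⁻¹ = x := by
    intro x hx
    rw [← mem_centralizer_iff.1 hc x hx]; group
  obtain ⟨n, hn, hnV, d, y, hy, e⟩ := D.rad c hcR (fun b => by rw [hcv _ (I.v_mem _ _ _)]) (by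
      intro x hx h0
      refine ⟨0, ?_⟩
      rw [D.w_v I, zero_smul, add_zero]
      have h1 : x ∈ V := by
        apply D.CQV_le I f hx
        rw [I.mem_CV hx, D.p_eq x hx, h0]
      rw [hcv x h1]) (by
      intro x hx
      have h1 := I.nor c hcN x hx
      rw [← D.p_eq _ h1, ← D.p_eq _ hx]
      -- `c x c⁻¹` acts on `V` as `x`
      have h2 : x⁻¹ * (c * x * c⁻¹) ∈ centralizer (V : Set G) := by
        rw [mem_centralizer_iff]
        intro z hz
        have hxz : x * z * x⁻¹ ∈ V := (mem_normalizer_iff.1 (I.Q_NV hx) _).1 hz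
        have h3 : c⁻¹ * z * c = z := by
          have := hcv z hz
          calc c⁻¹ * z * c = c⁻¹ * (c * z * c⁻¹) * c := by rw [this]
            _ = z := by group
        have h4 : (c * x * c⁻¹) * z * (c * x * c⁻¹)⁻¹ = x * z * x⁻¹ := by
          calc (c * x * c⁻¹) * z * (c * x * c⁻¹)⁻¹ = c * (x * (c⁻¹ * z * c) * x⁻¹) * c⁻¹ := by group
            _ = x * z * x⁻¹ := by rw [h3, hcv _ hxz]
        calc z * (x⁻¹ * (c * x * c⁻¹)) = x⁻¹ * (x * z * x⁻¹) * (c * x * c⁻¹) := by group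
          _ = x⁻¹ * ((c * x * c⁻¹) * z * (c * x * c⁻¹)⁻¹) * (c * x * c⁻¹) := by rw [h4]
          _ = x⁻¹ * (c * x * c⁻¹) * z := by group
      have h5 := I.p_add _ hx _ (mul_mem (inv_mem hx) h1)
      rw [mul_inv_cancel_left, (I.mem_CV (mul_mem (inv_mem hx) h1)).1 h2, add_zero] at h5
      exact h5)
  obtain ⟨b, d', rfl⟩ := f.χ_ker n hn hnV (Subsingleton.elim _ _)
  have h1 : y ∈ centralizer (V : Set G) := by
    have : y = (v 0 b d' * v 0 0 d)⁻¹ * c := by rw [e]; group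
    rw [this]
    exact mul_mem (inv_mem (mul_mem (I.V_CV (I.v_mem _ _ _)) (I.V_CV (I.v_mem _ _ _)))) hc
  rw [e]
  exact mul_mem (mul_mem (I.v_mem _ _ _) (I.v_mem _ _ _)) (D.CQV_le I f hy h1)

end cv

/-! ### `SL(2, k)` -/

/-- `x` acts on `W = F e₀ + F f₀` as a matrix over `k` of determinant one. -/
def MatAct (D : Out T V R Q Q' v p φ χ hm w g f₀ ι) (x : G) (A : SL k) : Prop :=
  x ∈ centralizer (R : Set G) ∧ ∀ m,
    g (D.rho x m) f₀ = algebraMap k F (A.1 0 0) * g m f₀ + algebraMap k F (A.1 0 1) * g m (w (v 0 1 0)) ∧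
    g (D.rho x m) (w (v 0 1 0)) =
      algebraMap k F (A.1 1 0) * g m f₀ + algebraMap k F (A.1 1 1) * g m (w (v 0 1 0))

include D I

theorem matAct_one : D.MatAct 1 1 := by
  refine ⟨one_mem _, fun m => ?_⟩
  rw [D.rho_one I]
  simp

theorem matAct_mul {x y : G} {A B : SL k} (hx : D.MatAct x A) (hy : D.MatAct y B) :
    D.MatAct (x * y) (A * B) := by
  refine ⟨mul_mem hx.1 hy.1, fun m => ?_⟩
  rw [D.rho_mul I (I.CR_NR hx.1) (I.CR_NR hy.1), (hx.2 _).1, (hx.2 _).2, (hy.2 _).1, (hy.2 _).2,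
    mul_00, mul_01, mul_10, mul_11]
  simp only [map_add, map_mul]
  constructor <;> ring

theorem matAct_inv {x : G} {A : SL k} (hx : D.MatAct x A) : D.MatAct x⁻¹ A⁻¹ := by
  refine ⟨inv_mem hx.1, fun m => ?_⟩
  have h1 := hx.2 (D.rho x⁻¹ m)
  rw [D.rho_inv_right I (I.CR_NR hx.1)] at h1
  have hd : algebraMap k F (A.1 0 0) * algebraMap k F (A.1 1 1) -
      algebraMap k F (A.1 0 1) * algebraMap k F (A.1 1 0) = 1 := by
    rw [← map_mul, ← map_mul, ← map_sub, det_eq, map_one]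
  rw [inv_00, inv_01, inv_10, inv_11, map_neg, map_neg, h1.1, h1.2]
  constructor
  · linear_combination (-g (D.rho x⁻¹ m) f₀) * hd
  · linear_combination (-g (D.rho x⁻¹ m) (w (v 0 1 0))) * hd

theorem matAct_unique {x : G} {A B : SL k} (hA : D.MatAct x A) (hB : D.MatAct x B) : A = B := by
  have hi := (algebraMap k F).injective
  have h1 := (hA.2 (w (v 0 1 0))).1.symm.trans (hB.2 (w (v 0 1 0))).1
  have h2 := (hA.2 (w (v 0 1 0))).2.symm.trans (hB.2 (w (v 0 1 0))).2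
  have h3 := (hA.2 f₀).1.symm.trans (hB.2 f₀).1
  have h4 := (hA.2 f₀).2.symm.trans (hB.2 f₀).2
  rw [D.g_ef, D.g_ee, mul_one, mul_zero, add_zero, mul_one, mul_zero, add_zero] at h1 h2
  rw [D.g_ff, D.g_fe, mul_one, mul_zero, zero_add, mul_one, mul_zero, zero_add] at h3 h4
  rw [ext_iff']
  exact ⟨hi h1, hi h3, hi h2, hi h4⟩

theorem matAct_Q {y : G} (hy : y ∈ Q) : D.MatAct y 1 := by
  refine ⟨I.Q_CR hy, fun m => ?_⟩
  rw [D.rho_Q I hy]
  simp

omit I in
theorem ext₂ [Subsingleton Φ] {m m' : W} (h1 : g m f₀ = g m' f₀)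
    (h2 : g m (w (v 0 1 0)) = g m' (w (v 0 1 0))) : m = m' := by
  obtain ⟨x, hx⟩ := D.decomp m
  obtain ⟨x', hx'⟩ := D.decomp m'
  rw [hx, hx', h1, h2, Subsingleton.elim x x']

theorem mem_Q_of_matAct [Subsingleton Φ] {x : G} (h : D.MatAct x 1) : x ∈ Q := by
  apply D.mem_Q_of_rho I (I.CR_NR h.1)
  intro m
  apply D.ext₂
  · rw [(h.2 m).1]; simp
  · rw [(h.2 m).2]; simp

/-- a transvection with an isotropic centre `x` -/
theorem matAct_tv {c : G} (hc : c ∈ centralizer (R : Set G))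
    (hlin : ∀ (s : F), ∀ x ∈ Q, ∀ y ∈ Q, w y = s • w x → w (c * y * c⁻¹) = s • w (c * x * c⁻¹))
    (hiso : ∀ x ∈ Q, ∀ y ∈ Q, g (w (c * x * c⁻¹)) (w (c * y * c⁻¹)) = g (w x) (w y)) (d : k) (m : W) :
    D.rho (c * v 0 0 d * c⁻¹) m = m + (algebraMap k F d * g m (w (c * v 0 1 0 * c⁻¹))) • w (c * v 0 1 0 * c⁻¹) := by
  have hcN := I.CR_NR hc
  have hv : v 0 0 d ∈ normalizer (R : Set G) := I.CR_NR (I.V_CR (I.v_mem _ _ _))
  rw [D.rho_mul I (mul_mem hcN hv) (inv_mem hcN), D.rho_mul I hcN hv, D.rho_tv I, D.rho_add I hcN,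
    D.rho_inv_right I hcN]
  congr 1
  have hE : v 0 1 0 ∈ Q := I.E_le _ _
  obtain ⟨y, hy, hym⟩ := D.w_surj ((algebraMap k F d * g (D.rho c⁻¹ m) (w (v 0 1 0))) • w (v 0 1 0))
  rw [← hym, D.rho_w I hcN hy, hlin _ _ hE _ hy hym]
  congr 2
  obtain ⟨z, hz, rfl⟩ := D.w_surj m
  have hz' := I.nor c⁻¹ (inv_mem hcN) z hz
  rw [D.rho_w I (inv_mem hcN) hz, ← hiso _ hz' _ hE]
  congr 2
  group

end Out

end Cfsg.Agent.Omega.NOne.SU
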