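import Cfsg.Agent.Omega.NOne.SU.ZeroA

/-!
# `Φ = 0` (type `U₄(q)`): the second parabolic `LL`, `LL/Q = SL(2, k)`
-/

set_option autoImplicit false
set_option linter.unusedSectionVars false

open Subgroup

namespace Cfsg.Agent.Omega.NOne.SU

open RankTwoClose RankTwoClose.SLTwo RankTwoClose.UFour

variable {G : Type*} [Group G]

/-- the subgroup generated by `Q` and the conjugates of `V` under `N_G(R)` -/
def LL (V R Q : Subgroup G) : Subgroup G :=
  closure {x | x ∈ Q ∨ ∃ c ∈ normalizer (R : Set G), ∃ a ∈ V, x = c * a * c⁻¹}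

theorem Q_LL (V R Q : Subgroup G) : Q ≤ LL V R Q := fun _ hx => subset_closure (Or.inl hx)

theorem conj_LL {V R Q : Subgroup G} {c a : G} (hc : c ∈ normalizer (R : Set G)) (ha : a ∈ V) :
    c * a * c⁻¹ ∈ LL V R Q := subset_closure (Or.inr ⟨c, hc, a, ha, rfl⟩)

theorem V_LL (V R Q : Subgroup G) : V ≤ LL V R Q := by
  intro a ha
  have := conj_LL (V := V) (R := R) (Q := Q) (one_mem _) ha
  simpa using this

/-- `N_G(R)` normalises `LL` -/
theorem NR_LL {V R Q : Subgroup G} (hQ : ∀ c ∈ normalizer (R : Set G), ∀ y ∈ Q, c * y * c⁻¹ ∈ Q) :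
    normalizer (R : Set G) ≤ normalizer (LL V R Q : Set G) := by
  have key : ∀ m ∈ normalizer (R : Set G), ∀ x ∈ LL V R Q, m * x * m⁻¹ ∈ LL V R Q := by
    intro m hm
    have h1 : LL V R Q ≤ (LL V R Q).comap (MulAut.conj m).toMonoidHom := by
      unfold LL
      rw [closure_le]
      rintro x (hx | ⟨c, hc, a, ha, rfl⟩)
      · exact subset_closure (Or.inl (hQ m hm x hx))
      · refine subset_closure (Or.inr ⟨m * c, mul_mem hm hc, a, ha, ?_⟩)
        show m * (c * a * c⁻¹) * m⁻¹ = _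
        group
    exact fun x hx => h1 hx
  intro m hm
  rw [mem_normalizer_iff]
  intro x
  refine ⟨key m hm x, fun h => ?_⟩
  have := key m⁻¹ (inv_mem hm) _ h
  simpa [mul_assoc] using this

variable {k F : Type*} [Field k] [Field F] [Algebra k F] [CharP k 2]
variable {T : Quad k F} {S : Sylow 2 G} {V R Q Q' : Subgroup G} {v : k → F → k → G} {p p' : G → F}

namespace Out

variable {Φ : Type*} [AddCommGroup Φ] [Module F Φ] {φ χ : G → Φ} {hm : Φ → Φ → F}
    {W : Type*} [AddCommGroup W] [Module F W] {w : G → W} {g : W → W → F} {f₀ : W}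
    {ι : Φ →ₗ[F] W} (D : Out T V R Q Q' v p φ χ hm w g f₀ ι) (I : GIn T S V R Q Q' v p p')

/-- `c` acts `F`-linearly on `W` -/
def Lin (_D : Out T V R Q Q' v p φ χ hm w g f₀ ι) (c : G) : Prop :=
  ∀ (s : F), ∀ x ∈ Q, ∀ y ∈ Q, w y = s • w x → w (c * y * c⁻¹) = s • w (c * x * c⁻¹)

/-- `c` is an isometry of `g` -/
def Iso (_D : Out T V R Q Q' v p φ χ hm w g f₀ ι) (c : G) : Prop :=
  ∀ x ∈ Q, ∀ y ∈ Q, g (w (c * x * c⁻¹)) (w (c * y * c⁻¹)) = g (w x) (w y)

include D I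

theorem rho_smul {c : G} (hc : c ∈ normalizer (R : Set G)) (hl : D.Lin c) (s : F) (m : W) :
    D.rho c (s • m) = s • D.rho c m := by
  obtain ⟨x, hx, rfl⟩ := D.w_surj m
  obtain ⟨y, hy, hym⟩ := D.w_surj (s • w x)
  rw [← hym, D.rho_w I hc hy, D.rho_w I hc hx, hl s x hx y hy hym]

theorem rho_iso {c : G} (hc : c ∈ normalizer (R : Set G)) (hl : D.Iso c) (m m' : W) :
    g (D.rho c m) (D.rho c m') = g m m' := by
  obtain ⟨x, hx, rfl⟩ := D.w_surj m
  obtain ⟨y, hy, rfl⟩ := D.w_surj m'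
  rw [D.rho_w I hc hx, D.rho_w I hc hy, hl x hx y hy]

theorem rho_ne {c : G} (hc : c ∈ normalizer (R : Set G)) {m : W} (h : m ≠ 0) : D.rho c m ≠ 0 := by
  intro h0
  apply h
  rw [← D.rho_inv_left I hc m, h0, D.rho_zero I (inv_mem hc)]

theorem rho_e {c : G} (hc : c ∈ normalizer (R : Set G)) : D.rho c (w (v 0 1 0)) = w (c * v 0 1 0 * c⁻¹) :=
  D.rho_w I hc (I.E_le _ _)

/-- for every isotropic `m` there is a linear isometry mapping `e₀` to a multiple of `m` -/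
theorem exists_tran {m : W} (h0 : m ≠ 0) (h : g m m = 0) :
    ∃ c ∈ centralizer (R : Set G), D.Lin c ∧ D.Iso c ∧ ∃ s : F, s ≠ 0 ∧ D.rho c (w (v 0 1 0)) = s • m := by
  obtain ⟨c, hc, h1, h2, s, h3⟩ := D.tran m h0 h
  rw [← D.rho_e I (I.CR_NR hc)] at h3
  refine ⟨c, hc, h1, h2, s, ?_, h3⟩
  rintro rfl
  rw [zero_smul] at h3
  exact D.rho_ne I (I.CR_NR hc) D.e_ne h3

/-- every `c ∈ N_G(R)` is in `c' (N_G(R) ∩ N_G(V))` for a linear isometry `c'` -/
theorem exists_lin {c : G} (hc : c ∈ normalizer (R : Set G)) :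
    ∃ c' ∈ centralizer (R : Set G), D.Lin c' ∧ D.Iso c' ∧ c'⁻¹ * c ∈ normalizer (V : Set G) := by
  obtain ⟨m, h0, h1, h2⟩ := D.pt c hc
  obtain ⟨c', hc', hl, hi, s, hs, h3⟩ := D.exists_tran I h0 h1
  have hN' := I.CR_NR hc'
  refine ⟨c', hc', hl, hi, ?_⟩
  obtain ⟨t, ht⟩ := h2 1
  rw [← D.rho_e I hc] at ht
  have hcc : c'⁻¹ * c ∈ normalizer (R : Set G) := mul_mem (inv_mem hN') hc
  refine D.stab _ hcc ⟨t * s⁻¹, ?_⟩
  rw [← D.rho_e I hcc, D.rho_mul I (inv_mem hN') hc, ht]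
  have h4 : t • m = (t * s⁻¹) • D.rho c' (w (v 0 1 0)) := by
    rw [h3, smul_smul, mul_assoc, inv_mul_cancel₀ hs, mul_one]
  rw [h4, ← D.rho_smul I hN' hl, D.rho_inv_left I hN']

variable [Subsingleton Φ]

omit I in
theorem decomp₀ (m : W) : m = g m f₀ • w (v 0 1 0) + g m (w (v 0 1 0)) • f₀ := by
  obtain ⟨x, hx⟩ := D.decomp m
  rwa [Subsingleton.elim x 0, map_zero, add_zero] at hx

/-- a transvection is given by a matrix -/
theorem exists_matAct_tv {c : G} (hc : c ∈ centralizer (R : Set G)) (hl : D.Lin c) (hi : D.Iso c) (d : k) :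
    ∃ A : SL k, D.MatAct (c * v 0 0 d * c⁻¹) A ∧
      A.1 1 0 = d * T.nm (g (w (c * v 0 1 0 * c⁻¹)) (w (v 0 1 0))) ∧
      (g (w (c * v 0 1 0 * c⁻¹)) (w (v 0 1 0)) * T.sg (g (w (c * v 0 1 0 * c⁻¹)) f₀) = 0 →
        A.1 0 0 = 1 ∧ A.1 1 1 = 1) ∧ A.1 0 1 = d * T.nm (g (w (c * v 0 1 0 * c⁻¹)) f₀) := by
  set x := w (c * v 0 1 0 * c⁻¹) with hx
  set α := g x f₀ with hα
  set β := g x (w (v 0 1 0)) with hβ
  have hE : v 0 1 0 ∈ Q := I.E_le _ _
  have hxx : g x x = 0 := by rw [hx, hi _ hE _ hE, D.g_ee]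
  have hmx : ∀ m, g m x = T.sg α * g m (w (v 0 1 0)) + T.sg β * g m f₀ := by
    intro m
    rw [D.decomp₀ x, D.g_add_right, D.g_smul_right, D.g_smul_right]
  have h0 : T.sg α * β + T.sg β * α = 0 := by
    have := hmx x
    rw [hxx] at this
    exact this.symm
  have h1 : T.sg (β * T.sg α) = β * T.sg α := by
    rw [map_mul, T.sg_sg]
    have := T.two_F (β * T.sg α)
    linear_combination h0 - this
  obtain ⟨a, ha⟩ := T.fix _ h1
  have ha' : T.sg β * α = algebraMap k F a := by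
    rw [ha, ← h1, map_mul, T.sg_sg]
  have hdet : (1 + d * a) * (1 + d * a) - (d * T.nm α) * (d * T.nm β) = 1 := by
    apply T.alg_inj
    have h2 := T.two_F (algebraMap k F d * algebraMap k F a)
    simp only [map_sub, map_mul, map_add, map_one, T.nm_eq]
    have h3 : algebraMap k F a * algebraMap k F a = α * T.sg α * (β * T.sg β) := by
      nth_rewrite 1 [ha]
      rw [← ha']; ring
    linear_combination h2 + (algebraMap k F d * algebraMap k F d) * h3
  refine ⟨⟨!![1 + d * a, d * T.nm α; d * T.nm β, 1 + d * a], by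
    rw [Matrix.det_fin_two]; exact hdet⟩, ⟨?_, fun m => ?_⟩, rfl, fun hz => ?_, rfl⟩
  · exact mul_mem (mul_mem hc (I.V_CR (I.v_mem _ _ _))) (inv_mem hc)
  · rw [D.matAct_tv I hc hl hi d m, ← hx, hmx]
    show g (m + (algebraMap k F d * (T.sg α * g m (w (v 0 1 0)) + T.sg β * g m f₀)) • x) f₀ =
        algebraMap k F (1 + d * a) * g m f₀ + algebraMap k F (d * T.nm α) * g m (w (v 0 1 0)) ∧
      g (m + (algebraMap k F d * (T.sg α * g m (w (v 0 1 0)) + T.sg β * g m f₀)) • x) (w (v 0 1 0)) =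
        algebraMap k F (d * T.nm β) * g m f₀ + algebraMap k F (1 + d * a) * g m (w (v 0 1 0))
    rw [D.g_add, D.g_smul, D.g_add, D.g_smul, ← hα, ← hβ]
    simp only [map_mul, map_add, map_one, T.nm_eq]
    constructor
    · linear_combination (algebraMap k F d * g m f₀) * ha'
    · linear_combination (-(algebraMap k F d * g m (w (v 0 1 0)))) * ha
  · have ha0 : a = 0 := by
      apply T.alg_inj
      rw [ha, hz, map_zero]
    constructor
    · show 1 + d * a = 1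
      rw [ha0, mul_zero, add_zero]
    · show 1 + d * a = 1
      rw [ha0, mul_zero, add_zero]

/-- the elements acting as matrices -/
def matGrp : Subgroup G where
  carrier := {x | ∃ A, D.MatAct x A}
  mul_mem' := by
    rintro x y ⟨A, hA⟩ ⟨B, hB⟩
    exact ⟨A * B, D.matAct_mul I hA hB⟩
  one_mem' := ⟨1, D.matAct_one I⟩
  inv_mem' := by
    rintro x ⟨A, hA⟩
    exact ⟨A⁻¹, D.matAct_inv I hA⟩

theorem LL_matGrp : LL V R Q ≤ D.matGrp I := by
  unfold LL
  rw [closure_le]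
  rintro x (hx | ⟨c, hc, a, ha, rfl⟩)
  · exact ⟨1, D.matAct_Q I hx⟩
  · obtain ⟨c', hc', hl, hi, hn⟩ := D.exists_lin I hc
    obtain ⟨α, β, δ, h1⟩ := I.v_surj _ ((mem_normalizer_iff.1 hn a).1 ha)
    have h2 : c * a * c⁻¹ = (c' * v α β 0 * c'⁻¹) * (c' * v 0 0 δ * c'⁻¹) := by
      have h3 : v α β δ = v α β 0 * v 0 0 δ := by rw [I.v_mul, add_zero, add_zero, zero_add]
      have h4 : c * a * c⁻¹ = c' * (v α β δ) * c'⁻¹ := by rw [h1]; group
      rw [h4, h3]; group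
    rw [h2]
    obtain ⟨A, hA, -⟩ := D.exists_matAct_tv I hc' hl hi δ
    exact mul_mem ⟨1, D.matAct_Q I (I.nor c' (I.CR_NR hc') _ (I.E_le _ _))⟩ ⟨A, hA⟩

/-- **`LL → SL(2, k)`** -/
noncomputable def piL : (LL V R Q) →* SL k where
  toFun x := (D.LL_matGrp I x.2).choose
  map_one' := D.matAct_unique I (D.LL_matGrp I (one_mem _)).choose_spec (D.matAct_one I)
  map_mul' x y := D.matAct_unique I (D.LL_matGrp I (x * y).2).choose_spec
    (D.matAct_mul I (D.LL_matGrp I x.2).choose_spec (D.LL_matGrp I y.2).choose_spec)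

theorem matAct_piL (x : LL V R Q) : D.MatAct x (D.piL I x) := (D.LL_matGrp I x.2).choose_spec

theorem piL_eq {x : LL V R Q} {A : SL k} (h : D.MatAct x A) : D.piL I x = A :=
  D.matAct_unique I (D.matAct_piL I x) h

theorem matAct_V (a : k) (b : F) (d : k) : D.MatAct (v a b d) (up d) := by
  have h3 : v a b d = v a b 0 * v 0 0 d := by rw [I.v_mul, add_zero, add_zero, zero_add]
  have h4 : (up d : SL k) = 1 * up d := by rw [one_mul]
  rw [h3, h4]
  refine D.matAct_mul I (D.matAct_Q I (I.E_le _ _)) ⟨I.V_CR (I.v_mem _ _ _), fun m => ?_⟩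
  rw [D.rho_tv I, D.g_add, D.g_add, D.g_smul, D.g_smul, D.g_ef, D.g_ee]
  simp

theorem piL_ker (x : LL V R Q) : D.piL I x = 1 ↔ (x : G) ∈ Q := by
  constructor
  · intro h
    have := D.matAct_piL I x
    rw [h] at this
    exact D.mem_Q_of_matAct I this
  · intro h
    exact D.piL_eq I (D.matAct_Q I h)

theorem piL_surj : Function.Surjective (D.piL I) := by
  rw [← MonoidHom.range_eq_top]
  apply eq_top_of_up_dn
  · intro d
    exact ⟨⟨v 0 0 d, V_LL V R Q (I.v_mem _ _ _)⟩, D.piL_eq I (D.matAct_V I 0 0 d)⟩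
  · intro d
    obtain ⟨c, hc, hl, hi, s, hs, h⟩ := D.exists_tran I D.f_ne D.g_ff
    have hN := I.CR_NR hc
    have hsn : T.nm s ≠ 0 := by
      intro h0
      have := T.nm_eq s
      rw [h0, map_zero] at this
      rcases mul_eq_zero.1 this.symm with h1 | h1
      · exact hs h1
      · exact hs (by simpa using h1)
    obtain ⟨A, hA, h10, h1, h01⟩ := D.exists_matAct_tv I hc hl hi (d * (T.nm s)⁻¹)
    refine ⟨⟨c * v 0 0 (d * (T.nm s)⁻¹) * c⁻¹, conj_LL hN (I.v_mem _ _ _)⟩, ?_⟩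
    rw [D.piL_eq I hA]
    have hx : w (c * v 0 1 0 * c⁻¹) = s • f₀ := by rw [← D.rho_e I hN, h]
    rw [hx, D.g_smul, D.g_smul, D.g_fe, D.g_ff, mul_one, mul_zero, map_zero, mul_zero] at h1
    rw [hx, D.g_smul, D.g_fe, mul_one] at h10
    rw [hx, D.g_smul, D.g_ff, mul_zero] at h01
    have hn0 : T.nm 0 = 0 := by
      apply T.alg_inj
      rw [T.nm_eq, zero_mul, map_zero]
    obtain ⟨h00, h11⟩ := h1 rfl
    rw [ext_iff']
    refine ⟨h00, ?_, ?_, h11⟩
    · rw [h01, hn0, mul_zero, dn_01]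
    · rw [h10, mul_assoc, inv_mul_cancel₀ hsn, mul_one, dn_10]

end Out

end Cfsg.Agent.Omega.NOne.SU
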